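import Cfsg.Agent.H332.EB.Two_m3
import Cfsg.Agent.S0886
import Cfsg.Agent.CharactersDeep.CosetAverage
import Cfsg.Agent.H610.Main4516
import Cfsg.Agent.CharactersDeep.CliffordSum
import Cfsg.Agent.S4518
import Cfsg.Agent.S4519
import Cfsg.Agent.S4520
import Cfsg.Agent.FastGrp
import Cfsg.Agent.Prune
set_option linter.all false
prune_inst 0x7ffffefbbfe8bddfdfff7e3fffd7dfffb7e96fffefdff9cbffe9eb9fef9f6b3799edfbad9fe8d2ffcff6e296b0f87b53fdffdeffec6bdc7ffffd5ff41ffbff9ffdf7350951d4883e1fbc2fff0bf87f8e6f3ffffffffffffffffffffffffffffffffffbfeffff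
open scoped Cfsg.Agent.FastGrp

-- part: H610/EB/Cyc
section
/-!
# Reduction to cyclic extensions

* `res_indFun`: Mackey's formula `(Ind_P^H η)_S = Ind_{P ∩ S}^S η` for `H = S P`, `S` normal.
* `OddExt H N k φ`: a power-fixed generalized character of `H` with odd multiplicity over `φ`.
* `fixed_of_ext`: if `H / N` is cyclic of 2-power order, `φ` invariant and `OddExt H N k φ`, all the
  irreducible characters of `H` over `φ` are power-fixed.
* `of_cyc`: the conclusion of S4522 if `OddExt` holds for the groups `S⟨g⟩`, `g` in the inertia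
  group.
* `OddExt.of_norm`: the norm of the restriction to a Sylow 2-subgroup is odd.
-/

set_option autoImplicit false
set_option linter.unusedSectionVars false
set_option linter.style.haveILetI false

namespace Cfsg.Agent.H610.EB

open Cfsg Cfsg.Agent.Characters Cfsg.Agent.H694
open scoped ComplexConjugate
open Cfsg.Agent.Characters.Core
open Cfsg.Agent.OddOrderCharacters.NormalInduced (conjFn)
open Cfsg.Agent.OddOrderCharacters.PF9.CliffGen (resTo irr_ind)
open Cfsg.Agent.Blocks.Local Cfsg.Agent.Blocks.Basic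
open Cfsg.Agent.Blocks.Covering (conjIrr conjIrr_conjIrr conjIrr_one conjIrr_apply conjIrr_at_one)

universe u v

/-! ### Mackey -/

section Mackey

variable {H : Type u} [Group H] [Fintype H] (S : Subgroup H) [hS : S.Normal] [Fintype S]
  (P : Subgroup H) [Fintype P]

theorem card_fibre (h : S ⊔ P = ⊤) (x : H) :
    Nat.card {p : P // x * (p : H)⁻¹ ∈ S} = Nat.card (P.subgroupOf S) := by
  have hx : x ∈ S ⊔ P := by
    rw [h]
    exact Subgroup.mem_top x
  obtain ⟨s, hs, p₀, hp₀, rfl⟩ := Subgroup.mem_sup_of_normal_left.1 hx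
  refine Nat.card_congr
    { toFun := fun p => ⟨⟨(p.1 : H) * p₀⁻¹, ?_⟩, ?_⟩
      invFun := fun t => ⟨⟨((t : S) : H) * p₀, ?_⟩, ?_⟩
      left_inv := fun p => ?_
      right_inv := fun t => ?_ }
  · have h1 := p.2
    have h2 : s⁻¹ * (s * p₀ * (p.1 : H)⁻¹) ∈ S := S.mul_mem (S.inv_mem hs) h1
    have h3 : s⁻¹ * (s * p₀ * (p.1 : H)⁻¹) = ((p.1 : H) * p₀⁻¹)⁻¹ := by group
    rw [h3] at h2
    exact S.inv_mem_iff.1 h2
  · rw [Subgroup.mem_subgroupOf]
    exact P.mul_mem p.1.2 (P.inv_mem hp₀)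
  · exact P.mul_mem (Subgroup.mem_subgroupOf.1 t.2) hp₀
  · show s * p₀ * (((t : S) : H) * p₀)⁻¹ ∈ S
    have h3 : s * p₀ * (((t : S) : H) * p₀)⁻¹ = s * ((t : S) : H)⁻¹ := by group
    rw [h3]
    exact S.mul_mem hs (S.inv_mem (t : S).2)
  · apply Subtype.ext
    apply Subtype.ext
    show (p.1 : H) * p₀⁻¹ * p₀ = p.1
    group
  · apply Subtype.ext
    apply Subtype.ext
    show ((t : S) : H) * p₀ * p₀⁻¹ = t
    group

/-- **Mackey's formula** for a normal subgroup and a supplement. -/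
theorem res_indFun (h : S ⊔ P = ⊤) {η : P → ℂ} (hη : IsClassFunction P η) :
    (fun s : S => indFun P η (s : H)) =
      indFun (P.subgroupOf S) (fun x : P.subgroupOf S => η ⟨((x : S) : H), Subgroup.mem_subgroupOf.1 x.2⟩) := by
  classical
  funext s
  set F : H → ℂ := fun x => extendByZero P η (x⁻¹ * s * x) with hF
  have hFP : ∀ (y : H) (p : P), F (y * p) = F y := by
    intro y p
    show extendByZero P η ((y * p)⁻¹ * s * (y * p)) = extendByZero P η (y⁻¹ * s * y)
    have h1 : (y * p)⁻¹ * s * (y * p) = (p : H)⁻¹ * (y⁻¹ * s * y) * p := by group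
    rw [h1]
    set z := y⁻¹ * s * y with hz
    by_cases hzP : z ∈ P
    · have hzp : (p : H)⁻¹ * z * p ∈ P := P.mul_mem (P.mul_mem (P.inv_mem p.2) hzP) p.2
      have e1 : extendByZero P η z = η ⟨z, hzP⟩ :=
        Function.Injective.extend_apply Subtype.val_injective η 0 (⟨z, hzP⟩ : P)
      have e2 : extendByZero P η ((p : H)⁻¹ * z * p) = η ⟨(p : H)⁻¹ * z * p, hzp⟩ :=
        Function.Injective.extend_apply Subtype.val_injective η 0 (⟨(p : H)⁻¹ * z * p, hzp⟩ : P)
      rw [e1, e2, ← hη ⟨z, hzP⟩ p⁻¹]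
      congr 1
      apply Subtype.ext
      simp only [_root_.inv_inv, _root_.Subgroup.coe_mul, _root_.InvMemClass.coe_inv]
    · have hzp : (p : H)⁻¹ * z * p ∉ P := by
        intro h2
        apply hzP
        have h3 := P.mul_mem (P.mul_mem p.2 h2) (P.inv_mem p.2)
        have h4 : (p : H) * ((p : H)⁻¹ * z * p) * (p : H)⁻¹ = z := by group
        rwa [h4] at h3
      have e1 : extendByZero P η z = 0 := by
        rw [extendByZero, Function.extend_apply' _ _ _ (by rintro ⟨t, ht⟩; exact hzP (ht ▸ t.2))]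
        rfl
      have e2 : extendByZero P η ((p : H)⁻¹ * z * p) = 0 := by
        rw [extendByZero, Function.extend_apply' _ _ _ (by rintro ⟨t, ht⟩; exact hzp (ht ▸ t.2))]
        rfl
      rw [e1, e2]
  -- the double count
  have h1 : ∑ y : S, ∑ p : P, F ((y : H) * p) = (Nat.card P : ℂ) * ∑ y : S, F y := by
    rw [Finset.mul_sum]
    refine Finset.sum_congr rfl fun y _ => ?_
    rw [Finset.sum_congr rfl fun p _ => hFP y p, Finset.sum_const, Finset.card_univ,
      nsmul_eq_mul, Nat.card_eq_fintype_card]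
  have h2 : ∑ y : S, ∑ p : P, F ((y : H) * p) =
      (Nat.card (P.subgroupOf S) : ℂ) * ∑ x : H, F x := by
    rw [Finset.sum_comm, Finset.mul_sum]
    have h3 : ∀ p : P, ∑ y : S, F ((y : H) * p) = ∑ x : H, if x * (p : H)⁻¹ ∈ S then F x else 0 := by
      intro p
      rw [← Finset.sum_filter]
      refine Finset.sum_bij' (fun y _ => (y : H) * p)
        (fun x hx => ⟨x * (p : H)⁻¹, (Finset.mem_filter.1 hx).2⟩) ?_ ?_ ?_ ?_ ?_
      · intro y _
        rw [Finset.mem_filter]
        refine ⟨Finset.mem_univ _, ?_⟩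
        rw [mul_inv_cancel_right]
        exact y.2
      · intro x _
        exact Finset.mem_univ _
      · intro y _
        apply Subtype.ext
        show (y : H) * p * (p : H)⁻¹ = y
        group
      · intro x _
        show x * (p : H)⁻¹ * p = x
        group
      · intro y _
        rfl
    rw [Finset.sum_congr rfl fun p _ => h3 p, Finset.sum_comm]
    refine Finset.sum_congr rfl fun x _ => ?_
    rw [← card_fibre S P h x, Nat.card_eq_fintype_card, Fintype.card_subtype, ← Finset.sum_filter,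
      Finset.sum_const, nsmul_eq_mul]
  have h4 : indFun P η (s : H) = (Nat.card P : ℂ)⁻¹ * ∑ x : H, F x := rfl
  have h5 : ∀ y : S, extendByZero (P.subgroupOf S) (fun x : P.subgroupOf S =>
      η ⟨((x : S) : H), Subgroup.mem_subgroupOf.1 x.2⟩) (y⁻¹ * s * y) = F y := by
    intro y
    show _ = extendByZero P η (((y⁻¹ * s * y : S)) : H)
    set z : S := y⁻¹ * s * y with hz
    by_cases hzP : z ∈ P.subgroupOf S
    · have e1 : extendByZero P η (z : H) = η ⟨z, Subgroup.mem_subgroupOf.1 hzP⟩ :=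
        Function.Injective.extend_apply Subtype.val_injective η 0
          (⟨z, Subgroup.mem_subgroupOf.1 hzP⟩ : P)
      rw [e1]
      exact Function.Injective.extend_apply Subtype.val_injective (fun x : P.subgroupOf S =>
        η ⟨((x : S) : H), Subgroup.mem_subgroupOf.1 x.2⟩) (0 : S → ℂ) (⟨z, hzP⟩ : P.subgroupOf S)
    · have hzP' : (z : H) ∉ P := fun h6 => hzP (Subgroup.mem_subgroupOf.2 h6)
      have e1 : extendByZero P η (z : H) = 0 := by
        rw [extendByZero, Function.extend_apply' _ _ _ (by rintro ⟨t, ht⟩; exact hzP' (ht ▸ t.2))]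
        rfl
      rw [e1, extendByZero, Function.extend_apply' _ _ _ (by rintro ⟨t, ht⟩; exact hzP (ht ▸ t.2))]
      rfl
  have h6 : indFun (P.subgroupOf S) (fun x : P.subgroupOf S =>
      η ⟨((x : S) : H), Subgroup.mem_subgroupOf.1 x.2⟩) s =
      (Nat.card (P.subgroupOf S) : ℂ)⁻¹ * ∑ y : S, F y := by
    show (Nat.card (P.subgroupOf S) : ℂ)⁻¹ * _ = _
    congr 1
    exact Finset.sum_congr rfl fun y _ => h5 y
  show indFun P η (s : H) = _
  rw [h4, h6]
  have hP0 : (Nat.card P : ℂ) ≠ 0 := card_ne_zero_complex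
  have hP1 : (Nat.card (P.subgroupOf S) : ℂ) ≠ 0 := card_ne_zero_complex
  rw [h1] at h2
  field_simp
  linear_combination -h2

end Mackey

/-! ### Odd extensions -/

/-- A power-fixed generalized character of `H` with odd multiplicity over `φ`. -/
def OddExt (H : Type u) [Group H] [Fintype H] (N : Subgroup H) [Fintype N] (k : ℕ) (φ : N → ℂ) :
    Prop :=
  ∃ π : H → ℂ, GC π ∧ (∀ t : H, π (t ^ k) = π t) ∧ Odd (mu (fun n : N => π n) φ)

/-- `g ^ k` and `g` are in the same coset of a normal subgroup of 2-power index. -/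
theorem pow_mul_inv_mem {H : Type u} [Group H] [Finite H] {k : ℕ} (hk : IsK H k) (N : Subgroup H)
    [N.Normal] (hidx : ∃ j : ℕ, N.index = 2 ^ j) (g : H) : g ^ k * g⁻¹ ∈ N := by
  obtain ⟨j, hj⟩ := hidx
  haveI : Finite (H ⧸ N) := Nat.finite_of_card_ne_zero (by
    show N.index ≠ 0
    rw [hj]
    positivity)
  have h1 : orderOf (QuotientGroup.mk g : H ⧸ N) ∣ 2 ^ j := by
    rw [← hj]
    exact orderOf_dvd_natCard _
  obtain ⟨i, -, hi⟩ := (Nat.dvd_prime_pow Nat.prime_two).1 h1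
  have h2 : orderOf (QuotientGroup.mk g : H ⧸ N) ∣ orderOf g := orderOf_map_dvd (QuotientGroup.mk' N) g
  rw [hi] at h2
  obtain ⟨m, hm⟩ := h2
  have hpos := orderOf_pos g
  have hm0 : m ≠ 0 := by
    rintro rfl
    rw [mul_zero] at hm
    omega
  have h3 : orderOf (g ^ m) = 2 ^ i := by
    rw [orderOf_pow_of_dvd hm0 ⟨2 ^ i, by rw [hm]; ring⟩, hm, Nat.mul_div_cancel _ (Nat.pos_of_ne_zero hm0)]
  have h4 := hk.two (g ^ m) ⟨i, h3⟩
  have h5 : ((2 ^ i : ℕ) : ℤ) ∣ (k : ℤ) - 1 := by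
    rw [← h3, orderOf_dvd_iff_zpow_eq_one, zpow_sub, zpow_natCast, h4, zpow_one, mul_inv_cancel]
  rw [← hi, orderOf_dvd_iff_zpow_eq_one, zpow_sub, zpow_natCast, zpow_one] at h5
  rw [← QuotientGroup.eq_one_iff]
  exact h5

/-- **All characters over `φ` are fixed in a cyclic extension.** -/
theorem fixed_of_ext {H : Type u} [Group H] [Fintype H] (N : Subgroup H) [hN : N.Normal]
    [Fintype N] (hcyc : IsCyclic (H ⧸ N)) (hidx : ∃ j : ℕ, N.index = 2 ^ j) {k : ℕ} (hk : IsK H k)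
    {φ : N → ℂ} (hφ : IsIrrCharacter N φ) (hinv : ∀ g, conjFn N φ g = φ)
    (hφk : ∀ s : N, φ (s ^ k) = φ s) (hext : OddExt H N k φ) {θ : H → ℂ} (hθ : IsIrrCharacter H θ)
    (hover : classInner (fun n : N => θ n) φ ≠ 0) (g : H) : θ (g ^ k) = θ g := by
  classical
  obtain ⟨π, hπ, hπk, hodd⟩ := hext
  obtain ⟨ψ, hψk, hψodd⟩ := exists_odd hk N hφ hφk hπ hπk hodd
  obtain ⟨χ₀, hχ₀, hχφ⟩ := Cfsg.Agent.S0886.result N hcyc φ hφ (fun g n => congrFun (hinv g) n)
  have hχ₀N : (fun n : N => χ₀ n) = φ := funext hχφ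
  have hψ0 : classInner (fun n : N => (ψ : H → ℂ) n) φ ≠ 0 := by
    have h1 : classInner (fun n : N => (ψ : H → ℂ) n) φ =
        (mu (fun n : N => (ψ : H → ℂ) n) φ : ℂ) :=
      irr_mu_spec (isCharacter_comp N.subtype (isIrr_isCharacter ψ.2)) hφ
    rw [h1]
    intro h2
    have h3 : mu (fun n : N => (ψ : H → ℂ) n) φ = 0 := by exact_mod_cast h2
    rw [h3] at hψodd
    exact absurd hψodd (by decide)
  -- `ψ` extends `φ`
  obtain ⟨η, hη, hηN, hψη⟩ := Cfsg.Agent.CharactersDeep.CosetAverage.exists_irr_mul N χ₀ hχ₀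
    (by rw [hχ₀N]; exact hφ) (ψ : H → ℂ) ψ.2 (by rw [hχ₀N]; exact hψ0)
  have hη1 : η 1 = 1 := by
    obtain ⟨f, hf⟩ := Cfsg.Agent.OddOrderCharacters.PF9.CliffGen.exists_hom_of_ker hη (by
      intro y hy
      have h1 : y ∈ N := by
        have hab : ∀ a b : H ⧸ N, a * b = b * a := fun a b => hcyc.commGroup.mul_comm a b
        have h2 : commutator H ≤ N := by
          rw [commutator_def, Subgroup.commutator_le]
          intro a _ b _
          rw [← QuotientGroup.eq_one_iff]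
          have h3 := hab (QuotientGroup.mk a) (QuotientGroup.mk b)
          rw [commutatorElement_def]
          show ((a : H ⧸ N) * b * (a : H ⧸ N)⁻¹ * (b : H ⧸ N)⁻¹) = 1
          rw [h3]
          group
        exact h2 hy
      have h2 := hηN ⟨y, h1⟩ 1
      rw [mul_one] at h2
      exact h2)
    rw [hf]
    simp
  have hψN : (fun n : N => (ψ : H → ℂ) n) = φ := by
    funext n
    have h1 := congrFun hψη (n : H)
    have h2 := hηN n 1
    rw [mul_one] at h2
    rw [h1, Pi.mul_apply, h2, hη1, mul_one, hχφ]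
  -- `θ = ψ η'`
  obtain ⟨η', -, hηN', hθη⟩ := Cfsg.Agent.CharactersDeep.CosetAverage.exists_irr_mul N (ψ : H → ℂ) ψ.2
    (by rw [hψN]; exact hφ) θ hθ (by rw [hψN]; exact hover)
  have h1 : η' (g ^ k) = η' g := by
    have h2 := hηN' ⟨g ^ k * g⁻¹, pow_mul_inv_mem hk N hidx g⟩ g
    have h3 : g ^ k * g⁻¹ * g = g ^ k := by group
    rw [← h2]
    congr 1
    exact h3.symm
  rw [hθη, Pi.mul_apply, Pi.mul_apply, hψk, h1]

/-- Constituents of the restriction to an intermediate group lie over `φ`. -/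
theorem over_of_over {I : Type u} [Group I] [Fintype I] (N : Subgroup I) [hN : N.Normal]
    [Fintype N] (H : Subgroup I) [Fintype H] (hNH : N ≤ H) {φ : N → ℂ} (hφ : IsIrrCharacter N φ)
    (hinv : ∀ g, conjFn N φ g = φ) {χ : I → ℂ} (hχ : IsIrrCharacter I χ)
    (hover : classInner (fun n : N => χ n) φ ≠ 0) {θ : H → ℂ} (hθ : IsIrrCharacter H θ)
    (hθχ : classInner (fun t : H => χ t) θ ≠ 0) : classInner (resTo hNH θ) φ ≠ 0 := by
  classical
  have hθN : IsCharacter N (resTo hNH θ) :=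
    Cfsg.Agent.OddOrderCharacters.PF9.CliffGen.isCharacter_resTo hNH (isIrr_isCharacter hθ)
  haveI := @Fintype.ofFinite (IrrCharacter N) finite_irr
  -- a constituent of `θ_N`
  obtain ⟨φ', hφ'⟩ : ∃ φ' : IrrCharacter N, classInner (resTo hNH θ) (φ' : N → ℂ) ≠ 0 := by
    by_contra hcon
    push Not at hcon
    have h1 := classFunction_eq_sum (isCharacter_isClassFunction hθN)
    rw [Finset.sum_congr rfl fun φ _ => by rw [hcon φ, zero_smul], Finset.sum_const_zero] at h1
    have h2 := congrFun h1 1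
    exact isIrr_apply_one_ne_zero hθ h2
  have hcH : IsCharacter H (fun t : H => χ t) := isCharacter_comp H.subtype (isIrr_isCharacter hχ)
  have h7 := Cfsg.Agent.OddOrderCharacters.Clifford.isCharacter_sub_irr hcH hθ hθχ
  have h8 : (fun n : N => χ n) = resTo hNH ((fun t : H => χ t) - θ) + resTo hNH θ := by
    funext n
    show χ n = (χ n - θ _) + θ _
    rw [sub_add_cancel]
  obtain ⟨a, ha⟩ := classInner_isNat
    (Cfsg.Agent.OddOrderCharacters.PF9.CliffGen.isCharacter_resTo hNH h7) (isIrr_isCharacter φ'.2)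
  obtain ⟨b, hb⟩ := classInner_isNat hθN (isIrr_isCharacter φ'.2)
  have h9 : classInner (fun n : N => χ n) (φ' : N → ℂ) ≠ 0 := by
    rw [h8, classInner_add_left, ha, hb]
    rw [hb] at hφ'
    have : b ≠ 0 := by exact_mod_cast hφ'
    exact_mod_cast (by omega : a + b ≠ 0)
  obtain ⟨g, hg⟩ := Cfsg.Agent.Characters.Clifford.exists_conj_of_constituents N hχ hφ φ'.2 hover h9
  have h10 : (φ' : N → ℂ) = φ := by
    rw [hg]
    exact hinv g
  rw [← h10]
  exact hφ'

/-- A character is power-fixed if its restriction to a subgroup containing the element is a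
combination of power-fixed characters. -/
theorem fixed_of_restrict {I : Type u} [Group I] [Fintype I] (H : Subgroup I) [Fintype H] {k : ℕ}
    {χ : I → ℂ} (hχ : IsIrrCharacter I χ)
    (h : ∀ θ : IrrCharacter H, classInner (fun t : H => χ t) (θ : H → ℂ) ≠ 0 →
      ∀ t : H, (θ : H → ℂ) (t ^ k) = (θ : H → ℂ) t) (g : I) (hg : g ∈ H) : χ (g ^ k) = χ g := by
  classical
  haveI := @Fintype.ofFinite (IrrCharacter H) finite_irr
  have hcH : IsCharacter H (fun t : H => χ t) := isCharacter_comp H.subtype (isIrr_isCharacter hχ)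
  have h1 := classFunction_eq_sum (isCharacter_isClassFunction hcH)
  have h2 := congrFun h1 (⟨g, hg⟩ ^ k)
  have h3 := congrFun h1 ⟨g, hg⟩
  have h4 : χ (g ^ k) = χ (((⟨g, hg⟩ : H) ^ k : H) : I) := by
    rw [Subgroup.coe_pow]
  have h5 : χ g = χ ((⟨g, hg⟩ : H) : I) := rfl
  have h2' : χ (((⟨g, hg⟩ : H) ^ k : H) : I) = _ := h2
  have h3' : χ ((⟨g, hg⟩ : H) : I) = _ := h3
  rw [h4, h5, h2', h3', Finset.sum_apply, Finset.sum_apply]
  refine Finset.sum_congr rfl fun θ _ => ?_
  rw [Pi.smul_apply, Pi.smul_apply]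
  by_cases h0 : classInner (fun t : H => χ t) (θ : H → ℂ) = 0
  · rw [h0, zero_smul, zero_smul]
  · rw [h θ h0]

/-! ### The conclusion from cyclic extensions -/

section main

variable {G : Type u} [Group G] [Fintype G] {M : Ideal AlgInt} {k : ℕ}

/-- The odd extension property for `S⟨g⟩`. -/
def CycExt (S : Subgroup G) [Fintype S] (k : ℕ) (φ : S → ℂ) (g : G) : Prop :=
  letI : Fintype ((S ⊔ Subgroup.zpowers g : Subgroup G)) := Fintype.ofFinite _
  letI : Fintype (S.subgroupOf (S ⊔ Subgroup.zpowers g)) := Fintype.ofFinite _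
  OddExt (S ⊔ Subgroup.zpowers g : Subgroup G) (S.subgroupOf (S ⊔ Subgroup.zpowers g)) k
    (dn S (S ⊔ Subgroup.zpowers g) le_sup_left φ)

theorem isCyclic_sup (S : Subgroup G) [hS : S.Normal] (g : G) :
    IsCyclic ((S ⊔ Subgroup.zpowers g : Subgroup G) ⧸ S.subgroupOf (S ⊔ Subgroup.zpowers g)) := by
  set H : Subgroup G := S ⊔ Subgroup.zpowers g with hH
  have hg : g ∈ H := (le_sup_right : Subgroup.zpowers g ≤ H) (Subgroup.mem_zpowers g)
  refine ⟨⟨QuotientGroup.mk (⟨g, hg⟩ : H), ?_⟩⟩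
  intro x
  obtain ⟨y, rfl⟩ := QuotientGroup.mk_surjective x
  obtain ⟨s, hs, z, hz, hsz⟩ := Subgroup.mem_sup_of_normal_left.1 y.2
  obtain ⟨n, rfl⟩ := Subgroup.mem_zpowers_iff.1 hz
  refine ⟨n, ?_⟩
  show (QuotientGroup.mk (⟨g, hg⟩ : H) : H ⧸ S.subgroupOf H) ^ n = QuotientGroup.mk y
  rw [← QuotientGroup.mk_zpow, QuotientGroup.eq]
  rw [Subgroup.mem_subgroupOf]
  show ((((⟨g, hg⟩ : H) ^ n)⁻¹ * y : H) : G) ∈ S
  have h1 : ((((⟨g, hg⟩ : H) ^ n)⁻¹ * y : H) : G) = (g ^ n)⁻¹ * s * g ^ n := by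
    rw [Subgroup.coe_mul, Subgroup.coe_inv, Subgroup.coe_zpow, ← hsz]
    group
  rw [h1]
  have h2 := hS.conj_mem s hs (g ^ n)⁻¹
  rwa [inv_inv] at h2

theorem index_two_pow_of_le (S : Subgroup G) (hidx : ∃ j : ℕ, S.index = 2 ^ j) (H : Subgroup G) :
    ∃ j : ℕ, (S.subgroupOf H).index = 2 ^ j ∨ ¬ S ≤ H := by
  by_cases h : S ≤ H
  · obtain ⟨j, hj⟩ := hidx
    have h1 : (S.subgroupOf H).index ∣ 2 ^ j := by
      rw [← hj]
      exact Subgroup.relIndex_dvd_index_of_le h
    obtain ⟨i, -, hi⟩ := (Nat.dvd_prime_pow Nat.prime_two).1 h1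
    exact ⟨i, Or.inl hi⟩
  · exact ⟨0, Or.inr h⟩

/-- **All the characters over `φ` are power-fixed** if `φ` is invariant and has the odd extension
property for all the groups `S⟨g⟩`. -/
theorem fixed_of_cyc (hk : IsK G k) (S : Subgroup G) [hS : S.Normal] [Fintype S]
    (hidx : ∃ j : ℕ, S.index = 2 ^ j) {φ : S → ℂ} (hφ : IsIrrCharacter S φ)
    (hinv : ∀ g, conjFn S φ g = φ) (hφk : ∀ s : S, φ (s ^ k) = φ s)
    (hext : ∀ g, CycExt S k φ g) {χ : G → ℂ} (hχ : IsIrrCharacter G χ)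
    (hover : classInner (fun n : S => χ n) φ ≠ 0) (g : G) : χ (g ^ k) = χ g := by
  classical
  set H : Subgroup G := S ⊔ Subgroup.zpowers g with hH
  letI iH : Fintype H := Fintype.ofFinite _
  letI iS : Fintype (S.subgroupOf H) := Fintype.ofFinite _
  have hSH : S ≤ H := le_sup_left
  have hg : g ∈ H := (le_sup_right : Subgroup.zpowers g ≤ H) (Subgroup.mem_zpowers g)
  refine fixed_of_restrict H hχ ?_ g hg
  intro θ hθ t
  have h1 := over_of_over S H hSH hφ hinv hχ hover θ.2 hθ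
  obtain ⟨j, hj⟩ := index_two_pow_of_le S hidx H
  refine fixed_of_ext (S.subgroupOf H) (isCyclic_sup S g) ⟨j, hj.resolve_right (not_not.2 hSH)⟩
    (hk.sub H) (irr_dn S H hSH hφ) (fun x => inv_dn S H hSH (fun y _ => hinv y) x) ?_ (hext g)
    θ.2 ?_ t
  · intro s
    show φ (Subgroup.subgroupOfEquivOfLe hSH (s ^ k)) = φ (Subgroup.subgroupOfEquivOfLe hSH s)
    rw [map_pow, hφk]
  · have h2 := classInner_dn S H hSH (resTo hSH (θ : H → ℂ)) φ
    intro h3
    apply h1
    rw [← h2]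
    exact h3

/-- **The conclusion of S4522 from cyclic extensions** (the invariant case), with the
constituent. -/
theorem of_cyc_inv' (hM : IsPModular 2 M) (S : Subgroup G) [hS : S.Normal] [Fintype S]
    (hidx : ∃ j : ℕ, S.index = 2 ^ j) (hk : IsK G k) (φ : IrrCharacter S)
    (hφ : φ ∈ principalBlock M S) (hφk : ∀ s : S, (φ : S → ℂ) (s ^ k) = (φ : S → ℂ) s)
    (hinv : ∀ g, conjFn S (φ : S → ℂ) g = φ) (hext : ∀ g, CycExt S k (φ : S → ℂ) g)
    (heven : Even (charDegree (φ : S → ℂ))) : ∃ ψ ∈ principalBlock M G,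
      Even (charDegree (ψ : G → ℂ)) ∧ (∀ g : G, (ψ : G → ℂ) (g ^ k) = (ψ : G → ℂ) g) ∧
      classInner (fun n : S => (ψ : G → ℂ) n) (φ : S → ℂ) ≠ 0 := by
  classical
  haveI : Fact (Nat.Prime 2) := ⟨Nat.prime_two⟩
  haveI := @Fintype.ofFinite (IrrCharacter G) finite_irr
  have hind : IsCharacter G (indFun S (φ : S → ℂ)) :=
    Cfsg.Agent.OddOrderCharacters.IndRes.isCharacter_indFun _ (isIrr_isCharacter φ.2)
  obtain ⟨ψ, hψ⟩ : ∃ ψ : IrrCharacter G, classInner (indFun S (φ : S → ℂ)) (ψ : G → ℂ) ≠ 0 := by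
    by_contra hcon
    push Not at hcon
    have h1 := classFunction_eq_sum (isCharacter_isClassFunction hind)
    rw [Finset.sum_congr rfl fun φ _ => by rw [hcon φ, zero_smul], Finset.sum_const_zero] at h1
    have h2 := congrFun h1 1
    rw [Cfsg.Agent.OddOrderCharacters.IndRes.indFun_apply_one] at h2
    have h3 : (S.index : ℂ) ≠ 0 := by
      exact_mod_cast Subgroup.index_ne_zero_of_finite
    have h4 : (φ : S → ℂ) 1 ≠ 0 := isIrr_apply_one_ne_zero φ.2
    exact (mul_ne_zero h3 h4) h2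
  have hψ' : classInner (fun n : S => (ψ : G → ℂ) n) (φ : S → ℂ) ≠ 0 := by
    rw [Cfsg.Agent.OddOrderCharacters.Clifford.classInner_indFun _ _ _ (isIrr_isClassFunction ψ.2)]
      at hψ
    intro h1
    apply hψ
    rw [← classInner_conj_symm, h1, map_zero]
  have hψk := fixed_of_cyc hk S hidx φ.2 hinv hφk hext ψ.2 hψ'
  -- the degree
  have hc : IsCharacter S (fun n : S => (ψ : G → ℂ) n) :=
    isCharacter_comp S.subtype (isIrr_isCharacter ψ.2)
  have hψ1 : (ψ : G → ℂ) 1 = (mu (fun n : S => (ψ : G → ℂ) n) (φ : S → ℂ) : ℂ) * (φ : S → ℂ) 1 :=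
    apply_one_of_invariant S φ.2 hinv ψ.2 (by
      intro h1
      apply hψ'
      rw [irr_mu_spec hc φ.2, h1]
      simp)
  obtain ⟨e, he⟩ : ∃ e : ℕ, (e : ℤ) = mu (fun n : S => (ψ : G → ℂ) n) (φ : S → ℂ) := by
    obtain ⟨e, he⟩ := classInner_isNat hc (isIrr_isCharacter φ.2)
    refine ⟨e, ?_⟩
    have : mu (fun n : S => (ψ : G → ℂ) n) (φ : S → ℂ) = (e : ℤ) :=
      mu_eq (by rw [he]; push_cast; rfl)
    rw [this]
  have hdeg : charDegree (ψ : G → ℂ) = e * charDegree (φ : S → ℂ) := by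
    rw [← he, Cfsg.Agent.Blocks.Basic.irr_one_eq_charDegree φ.2,
      Cfsg.Agent.Blocks.Basic.irr_one_eq_charDegree ψ.2] at hψ1
    exact_mod_cast hψ1
  refine ⟨ψ, mem_of_over hM S hidx hφ hψ', ?_, hψk, hψ'⟩
  rw [hdeg]
  exact heven.mul_left e

theorem ne_one_of_even {S : Type*} [Group S] [Fintype S] {φ : S → ℂ}
    (heven : Even (charDegree φ)) : φ ≠ fun _ => 1 := by
  intro h1
  rw [h1] at heven
  have h2 : charDegree (fun _ : S => (1 : ℂ)) = 1 := by
    have h3 := Cfsg.Agent.Blocks.Basic.irr_one_eq_charDegree (isIrrCharacter_one (G := S))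
    exact_mod_cast h3.symm
  rw [h2] at heven
  exact absurd heven (by decide)

end main

end Cfsg.Agent.H610.EB
end

-- part: H610/EB/CycSub
section
/-!
# Odd extensions by induction from supplements

* `CycExt.of_sub`: a power-fixed generalized character `π₀` of `P`, `S P = S⟨g⟩`, with
  `[π₀, χ]` odd on `S ∩ P`.
* `CycExt.of_norm`: the norm of the restriction of `χ` to a Sylow 2-subgroup is odd.
-/

set_option autoImplicit false
set_option linter.unusedSectionVars false
set_option linter.style.haveILetI false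

namespace Cfsg.Agent.H610.EB

open Cfsg Cfsg.Agent.Characters Cfsg.Agent.H694
open scoped ComplexConjugate
open Cfsg.Agent.Characters.Core
open Cfsg.Agent.OddOrderCharacters.NormalInduced (conjFn)
open Cfsg.Agent.OddOrderCharacters.PF9.CliffGen (resTo irr_ind)
open Cfsg.Agent.Blocks.Local Cfsg.Agent.Blocks.Basic
open Cfsg.Agent.Blocks.Covering (conjIrr)

universe u v

/-- Inner products and bijections. -/
theorem classInner_equiv {A : Type*} {B : Type*} [Group A] [Group B] [Fintype A] [Fintype B]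
    (e : A ≃ B) (f g : B → ℂ) : classInner (fun a => f (e a)) (fun a => g (e a)) = classInner f g := by
  rw [Core.classInner_def, Core.classInner_def, Nat.card_congr e]
  congr 1
  exact Fintype.sum_equiv e _ _ fun a => rfl

variable {G : Type u} [Group G] [Fintype G] {M : Ideal AlgInt} {k : ℕ}

/-- **Odd extensions by induction from a supplement.** -/
theorem CycExt.of_sub (hk : IsK G k) (S : Subgroup G) [hS : S.Normal] [Fintype S] (g : G)
    (P : Subgroup G) [Fintype P] (hP : P ≤ S ⊔ Subgroup.zpowers g)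
    (hSP : S ⊔ Subgroup.zpowers g ≤ S ⊔ P) (N : Subgroup G) [Fintype N] (hNS : N ≤ S) (hNP : N ≤ P)
    (hN : S ⊓ P ≤ N) {π₀ : P → ℂ} (hπ₀ : GC π₀) (hπ₀k : ∀ t : P, π₀ (t ^ k) = π₀ t) {χ : S → ℂ}
    (hχ : IsIrrCharacter S χ) (hodd : Odd (mu (resTo hNP π₀) (resTo hNS χ))) : CycExt S k χ g := by
  classical
  set H : Subgroup G := S ⊔ Subgroup.zpowers g with hH
  letI iH : Fintype H := Fintype.ofFinite _
  letI iS : Fintype (S.subgroupOf H) := Fintype.ofFinite _
  have hSH : S ≤ H := le_sup_left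
  show OddExt H (S.subgroupOf H) k (dn S H hSH χ)
  haveI : Fintype (P.subgroupOf H) := Fintype.ofFinite _
  let eP : P.subgroupOf H ≃* P := Subgroup.subgroupOfEquivOfLe hP
  have hπ₁ : GC (fun x : P.subgroupOf H => π₀ (eP x)) := hπ₀.comp eP.toMonoidHom
  have hkH : IsK H k := hk.sub H
  have htop : S.subgroupOf H ⊔ P.subgroupOf H = ⊤ := by
    rw [← Subgroup.subgroupOf_sup hSH hP, Subgroup.subgroupOf_eq_top]
    exact hSP
  refine ⟨indFun (P.subgroupOf H) (fun x : P.subgroupOf H => π₀ (eP x)), hπ₁.indFun _,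
    fun t => indFun_pow _ hkH (fun x => by
      show π₀ (eP (x ^ k)) = π₀ (eP x)
      rw [map_pow, hπ₀k]) t, ?_⟩
  have hres := res_indFun (S.subgroupOf H) (P.subgroupOf H) htop hπ₁.cf
  haveI : Fintype ((P.subgroupOf H).subgroupOf (S.subgroupOf H)) := Fintype.ofFinite _
  -- the equivalence with `N`
  let ε : ((P.subgroupOf H).subgroupOf (S.subgroupOf H)) ≃ N :=
    { toFun := fun x => ⟨((x : S.subgroupOf H) : H), hN ⟨Subgroup.mem_subgroupOf.1 (x : S.subgroupOf H).2,
        Subgroup.mem_subgroupOf.1 (Subgroup.mem_subgroupOf.1 x.2)⟩⟩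
      invFun := fun n => ⟨⟨⟨n, hSH (hNS n.2)⟩, Subgroup.mem_subgroupOf.2 (hNS n.2)⟩,
        Subgroup.mem_subgroupOf.2 (Subgroup.mem_subgroupOf.2 (hNP n.2))⟩
      left_inv := fun x => rfl
      right_inv := fun n => rfl }
  have hcl : IsClassFunction (S.subgroupOf H) (dn S H hSH χ) :=
    isIrr_isClassFunction (irr_dn S H hSH hχ)
  have h1 : classInner (fun n : S.subgroupOf H =>
      indFun (P.subgroupOf H) (fun x : P.subgroupOf H => π₀ (eP x)) n) (dn S H hSH χ) =
      classInner (resTo hNP π₀) (resTo hNS χ) := by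
    rw [hres, Cfsg.Agent.OddOrderCharacters.Clifford.classInner_indFun _ _ _ hcl]
    exact classInner_equiv ε (resTo hNP π₀) (resTo hNS χ)
  have h2 : mu (fun n : S.subgroupOf H =>
      indFun (P.subgroupOf H) (fun x : P.subgroupOf H => π₀ (eP x)) n) (dn S H hSH χ) =
      mu (resTo hNP π₀) (resTo hNS χ) := by
    rw [mu, mu, h1]
  rw [h2]
  exact hodd

/-! ### Odd extensions in a group with cyclic quotient -/

section ext

variable {H : Type u} [Group H] [Fintype H]

/-- **Odd extensions by induction from a supplement**, general form. -/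
theorem OddExt.of_sup (hk : IsK H k) (N : Subgroup H) [hN : N.Normal] [Fintype N]
    (P : Subgroup H) [Fintype P] (htop : N ⊔ P = ⊤) [Fintype (N.subgroupOf P)] {π₀ : P → ℂ}
    (hπ₀ : GC π₀) (hπ₀k : ∀ t : P, π₀ (t ^ k) = π₀ t) {φ : N → ℂ} (hφ : IsIrrCharacter N φ)
    (hodd : Odd (mu (fun d : N.subgroupOf P => π₀ d)
      (fun d : N.subgroupOf P => φ ⟨((d : P) : H), Subgroup.mem_subgroupOf.1 d.2⟩))) :
    OddExt H N k φ := by
  classical
  refine ⟨indFun P π₀, hπ₀.indFun P, fun t => indFun_pow P hk hπ₀k t, ?_⟩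
  haveI : Fintype (P.subgroupOf N) := Fintype.ofFinite _
  have hres := res_indFun N P htop hπ₀.cf
  let ε : (P.subgroupOf N) ≃ (N.subgroupOf P) :=
    { toFun := fun x => ⟨⟨((x : N) : H), Subgroup.mem_subgroupOf.1 x.2⟩,
        Subgroup.mem_subgroupOf.2 (x : N).2⟩
      invFun := fun x => ⟨⟨((x : P) : H), Subgroup.mem_subgroupOf.1 x.2⟩,
        Subgroup.mem_subgroupOf.2 (x : P).2⟩
      left_inv := fun x => rfl
      right_inv := fun x => rfl }
  have h1 : classInner (fun n : N => indFun P π₀ n) φ = classInner (fun d : N.subgroupOf P => π₀ d)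
      (fun d : N.subgroupOf P => φ ⟨((d : P) : H), Subgroup.mem_subgroupOf.1 d.2⟩) := by
    rw [hres, Cfsg.Agent.OddOrderCharacters.Clifford.classInner_indFun _ _ _
      (isIrr_isClassFunction hφ)]
    exact classInner_equiv ε (fun d : N.subgroupOf P => π₀ d)
      (fun d : N.subgroupOf P => φ ⟨((d : P) : H), Subgroup.mem_subgroupOf.1 d.2⟩)
  have h2 : mu (fun n : N => indFun P π₀ n) φ = mu (fun d : N.subgroupOf P => π₀ d)
      (fun d : N.subgroupOf P => φ ⟨((d : P) : H), Subgroup.mem_subgroupOf.1 d.2⟩) := by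
    rw [mu, mu, h1]
  rw [h2]
  exact hodd

/-- The parity of the number of constituents of odd multiplicity. -/
theorem odd_card_norm {π : H → ℂ} (hπ : GC π) {a : ℤ} (ha : classInner π π = a) (hodd : Odd a) :
    Odd (Nat.card {χ : IrrCharacter H // Odd (mu π (χ : H → ℂ))}) := by
  classical
  haveI := @Fintype.ofFinite (IrrCharacter H) finite_irr
  have h1 : a = ∑ φ : IrrCharacter H, mu π (φ : H → ℂ) * mu π (φ : H → ℂ) := by
    have h2 := classInner_eq_sum hπ.cf hπ.cf
    rw [ha] at h2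
    have h3 : ∀ φ : IrrCharacter H, classInner π (φ : H → ℂ) * conj (classInner π (φ : H → ℂ)) =
        ((mu π (φ : H → ℂ) * mu π (φ : H → ℂ) : ℤ) : ℂ) := by
      intro φ
      rw [hπ.mu_spec φ.2, map_intCast]
      push_cast
      rfl
    rw [Finset.sum_congr rfl fun φ _ => h3 φ] at h2
    exact_mod_cast h2
  have key : ((Nat.card {χ : IrrCharacter H // Odd (mu π (χ : H → ℂ))} : ℕ) : ZMod 2) =
      ((a : ℤ) : ZMod 2) := by
    rw [Nat.card_eq_fintype_card, Fintype.card_subtype, Finset.card_filter, h1]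
    push_cast
    refine Finset.sum_congr rfl fun φ _ => ?_
    split_ifs with h
    · obtain ⟨n, hn⟩ := h
      rw [hn]
      push_cast
      have e : ∀ x : ZMod 2, 1 = (2 * x + 1) * (2 * x + 1) := by decide
      exact e _
    · have h6 : Even (mu π (φ : H → ℂ)) := Int.not_odd_iff_even.1 h
      obtain ⟨n, hn⟩ := h6
      rw [hn]
      push_cast
      have e : ∀ x : ZMod 2, 0 = (x + x) * (x + x) := by decide
      exact e _
  rw [← Nat.not_even_iff_odd, even_iff_two_dvd, ← ZMod.natCast_eq_zero_iff, key,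
    ZMod.intCast_zmod_eq_zero_iff_dvd]
  intro h
  exact (Int.not_even_iff_odd.2 hodd) (even_iff_two_dvd.2 (by exact_mod_cast h))

/-- A power map on a 2-group is the identity. -/
theorem IsK.pow_eq (hk : IsK H k) {P : Subgroup H} (hP : IsPGroup 2 P) (x : P) : x ^ k = x := by
  obtain ⟨n, hn⟩ := hP x
  refine (hk.sub P).two x ?_
  obtain ⟨i, -, hi⟩ := (Nat.dvd_prime_pow Nat.prime_two).1 (orderOf_dvd_of_pow_eq_one hn)
  exact ⟨i, hi⟩

/-- `N P = H` for a Sylow 2-subgroup and a normal subgroup of 2-power index. -/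
theorem sup_sylow (N : Subgroup H) [N.Normal] (hidx : ∃ j : ℕ, N.index = 2 ^ j)
    (P : Sylow 2 H) : N ⊔ (P : Subgroup H) = ⊤ := by
  haveI : Fact (Nat.Prime 2) := ⟨Nat.prime_two⟩
  rw [← Subgroup.index_eq_one]
  obtain ⟨j, hj⟩ := hidx
  have h1 : (N ⊔ (P : Subgroup H)).index ∣ 2 ^ j := by
    rw [← hj]
    exact Subgroup.index_dvd_of_le le_sup_left
  have h2 : (N ⊔ (P : Subgroup H)).index ∣ (P : Subgroup H).index :=
    Subgroup.index_dvd_of_le le_sup_right
  have h3 : ¬ 2 ∣ (P : Subgroup H).index := P.not_dvd_index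
  have h4 : Nat.Coprime (2 ^ j) (P : Subgroup H).index :=
    Nat.Coprime.pow_left _ ((Nat.Prime.coprime_iff_not_dvd Nat.prime_two).2 h3)
  exact Nat.eq_one_of_dvd_coprimes h4 h1 h2

theorem odd_index_inf (N : Subgroup H) [N.Normal] (P : Sylow 2 H) :
    Odd ((P : Subgroup H).subgroupOf N).index := by
  haveI : Fact (Nat.Prime 2) := ⟨Nat.prime_two⟩
  have h1 : (P : Subgroup H).relIndex N * (N.relIndex (N ⊔ P) ) =
      (N.relIndex P) * (P : Subgroup H).relIndex (N ⊔ P) := by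
    have h2 := Subgroup.relIndex_mul_relIndex (N ⊓ P) N (N ⊔ P) inf_le_left le_sup_left
    have h3 := Subgroup.relIndex_mul_relIndex (N ⊓ P) (P : Subgroup H) (N ⊔ P) inf_le_right
      le_sup_right
    rw [← h3, Subgroup.inf_relIndex_left, Subgroup.inf_relIndex_right] at h2
    exact h2
  have h2 : N.relIndex (N ⊔ P) = N.relIndex P := by
    rw [sup_comm, Subgroup.relIndex_sup_right]
  have h3 : N.relIndex (P : Subgroup H) ≠ 0 := Subgroup.index_ne_zero_of_finite
  have h4 : (P : Subgroup H).relIndex N = (P : Subgroup H).relIndex (N ⊔ P) := by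
    rw [h2, mul_comm] at h1
    exact Nat.eq_of_mul_eq_mul_left (Nat.pos_of_ne_zero h3) h1
  have h5 : (P : Subgroup H).relIndex (N ⊔ P) ∣ (P : Subgroup H).index :=
    Subgroup.relIndex_dvd_index_of_le le_sup_right
  rw [← Nat.not_even_iff_odd, even_iff_two_dvd]
  intro h
  exact P.not_dvd_index ((h.trans (by rw [← h4] at h5; exact h5)))

/-- The norm of the restriction to a Sylow subgroup. -/
theorem norm_sylow {N : Type*} [Group N] [Fintype N] {φ : N → ℂ} (hφ : IsClassFunction N φ)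
    (P Q : Subgroup N) [Fintype P] [Fintype Q] (hP : IsPGroup 2 P) (hPi : Odd P.index)
    (hQ : IsPGroup 2 Q) (hQi : Odd Q.index) :
    classInner (fun x : P => φ x) (fun x : P => φ x) =
      classInner (fun x : Q => φ x) (fun x : Q => φ x) := by
  haveI : Fact (Nat.Prime 2) := ⟨Nat.prime_two⟩
  let P' : Sylow 2 N := hP.toSylow (fun h => (Nat.not_even_iff_odd.2 hPi) (even_iff_two_dvd.2 h))
  let Q' : Sylow 2 N := hQ.toSylow (fun h => (Nat.not_even_iff_odd.2 hQi) (even_iff_two_dvd.2 h))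
  obtain ⟨g, hg⟩ := MulAction.exists_smul_eq N P' Q'
  have hg' : ∀ x : N, x ∈ P → g * x * g⁻¹ ∈ Q := by
    intro x hx
    have h1 : (g • P' : Sylow 2 N) = Q' := hg
    have h2 : g * x * g⁻¹ ∈ (g • P' : Sylow 2 N) := by
      have h3 := Subgroup.smul_mem_pointwise_smul x (MulAut.conj g) P hx
      exact h3
    rw [h1] at h2
    exact h2
  have hg'' : ∀ x : N, x ∈ Q → g⁻¹ * x * g ∈ P := by
    intro x hx
    have h1 : (g • P' : Sylow 2 N) = Q' := hg
    have h2 : x ∈ (g • P' : Sylow 2 N) := by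
      rw [h1]
      exact hx
    obtain ⟨y, hy, hyx⟩ := h2
    have h3 : g * y * g⁻¹ = x := hyx
    have h4 : g⁻¹ * x * g = y := by
      rw [← h3]
      group
    rw [h4]
    exact hy
  let e : P ≃ Q :=
    { toFun := fun x => ⟨g * x * g⁻¹, hg' x x.2⟩
      invFun := fun x => ⟨g⁻¹ * x * g, hg'' x x.2⟩
      left_inv := fun x => Subtype.ext (by
        show g⁻¹ * (g * x * g⁻¹) * g = x
        group)
      right_inv := fun x => Subtype.ext (by
        show g * (g⁻¹ * x * g) * g⁻¹ = x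
        group) }
  have h1 := classInner_equiv e (fun x : Q => φ x) (fun x : Q => φ x)
  rw [← h1]
  have h2 : (fun a : P => (fun x : Q => φ x) (e a)) = fun x : P => φ x := by
    funext a
    exact hφ (a : N) g
  rw [h2]

/-- **SYL-NORM**: if the norm of the restriction of the invariant character `φ` to a Sylow
2-subgroup is odd, there is an odd extension. -/
theorem OddExt.of_norm (N : Subgroup H) [hN : N.Normal] [Fintype N] (hcyc : IsCyclic (H ⧸ N))
    (hidx : ∃ j : ℕ, N.index = 2 ^ j) (hk : IsK H k) {φ : N → ℂ} (hφ : IsIrrCharacter N φ)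
    (hinv : ∀ g, conjFn N φ g = φ) (Q : Subgroup N) [Fintype Q] (hQ : IsPGroup 2 Q)
    (hQi : Odd Q.index) {a : ℤ} (ha : classInner (fun x : Q => φ x) (fun x : Q => φ x) = a)
    (hodd : Odd a) : OddExt H N k φ := by
  classical
  haveI : Fact (Nat.Prime 2) := ⟨Nat.prime_two⟩
  obtain ⟨P⟩ : Nonempty (Sylow 2 H) := inferInstance
  haveI : Fintype (P : Subgroup H) := Fintype.ofFinite _
  haveI : Fintype (N.subgroupOf (P : Subgroup H)) := Fintype.ofFinite _
  haveI : Fintype ((P : Subgroup H).subgroupOf N) := Fintype.ofFinite _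
  have htop := sup_sylow N hidx P
  set F : N.subgroupOf (P : Subgroup H) → ℂ :=
    fun d => φ ⟨((d : P) : H), Subgroup.mem_subgroupOf.1 d.2⟩ with hF
  -- the norm
  let ε : ((P : Subgroup H).subgroupOf N) ≃ (N.subgroupOf (P : Subgroup H)) :=
    { toFun := fun x => ⟨⟨((x : N) : H), Subgroup.mem_subgroupOf.1 x.2⟩,
        Subgroup.mem_subgroupOf.2 (x : N).2⟩
      invFun := fun x => ⟨⟨((x : P) : H), Subgroup.mem_subgroupOf.1 x.2⟩,
        Subgroup.mem_subgroupOf.2 (x : P).2⟩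
      left_inv := fun x => rfl
      right_inv := fun x => rfl }
  have hP1 : IsPGroup 2 ((P : Subgroup H).subgroupOf N) := by
    refine P.isPGroup'.of_injective ((N.subtype.comp (Subgroup.subtype _)).codRestrict
      (P : Subgroup H) (fun x => Subgroup.mem_subgroupOf.1 x.2)) ?_
    intro x y hxy
    have h1 := congrArg Subtype.val hxy
    exact Subtype.ext (Subtype.ext h1)
  have hFn : classInner F F = a := by
    rw [← classInner_equiv ε F F, ← ha]
    exact norm_sylow (isIrr_isClassFunction hφ) _ _ hP1 (odd_index_inf N P) hQ hQi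
  let f₀ : N.subgroupOf (P : Subgroup H) →* N :=
    { toFun := fun d => ⟨((d : P) : H), Subgroup.mem_subgroupOf.1 d.2⟩
      map_one' := rfl
      map_mul' := fun _ _ => rfl }
  have hFc : IsCharacter (N.subgroupOf (P : Subgroup H)) F :=
    isCharacter_comp f₀ (isIrr_isCharacter hφ)
  have hcard := odd_card_norm (GC.of_isCharacter hFc) hFn hodd
  have hPN : ∃ j : ℕ, (N.subgroupOf (P : Subgroup H)).index = 2 ^ j := by
    obtain ⟨n, hn⟩ := IsPGroup.iff_card.1 P.isPGroup'
    have h1 : (N.subgroupOf (P : Subgroup H)).index ∣ 2 ^ n := by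
      rw [← hn]
      exact Subgroup.index_dvd_card (N.subgroupOf (P : Subgroup H))
    obtain ⟨i, -, hi⟩ := (Nat.dvd_prime_pow Nat.prime_two).1 h1
    exact ⟨i, hi⟩
  have hf1 : ∀ d ∈ (⊤ : Subgroup (P : Subgroup H)), ∀ ξ : IrrCharacter (N.subgroupOf (P : Subgroup H)),
      Odd (mu F (ξ : N.subgroupOf (P : Subgroup H) → ℂ)) →
      Odd (mu F (conjIrr (N.subgroupOf (P : Subgroup H)) d ξ : N.subgroupOf (P : Subgroup H) → ℂ)) := by
    intro d _ ξ hξ
    rw [mu_conj_of_inv (N.subgroupOf (P : Subgroup H)) d (F := F) _ ξ]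
    · exact hξ
    · intro s
      exact congrFun (hinv (d : H)) ⟨((s : P) : H), Subgroup.mem_subgroupOf.1 s.2⟩
  have hf2 : ∀ ξ : IrrCharacter (N.subgroupOf (P : Subgroup H)),
      Odd (mu F (ξ : N.subgroupOf (P : Subgroup H) → ℂ)) →
      Odd (mu F (Twist.pw ((hk.sub (P : Subgroup H)).sub
        (N.subgroupOf (P : Subgroup H))).coprime ξ : N.subgroupOf (P : Subgroup H) → ℂ)) := by
    intro ξ hξ
    have h1 : (Twist.pw ((hk.sub (P : Subgroup H)).sub (N.subgroupOf (P : Subgroup H))).coprime ξ :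
        N.subgroupOf (P : Subgroup H) → ℂ) = ξ := by
      funext x
      have hD : IsPGroup 2 (N.subgroupOf (P : Subgroup H)) := P.isPGroup'.to_subgroup _
      rw [Twist.pw_apply, (hk.sub (P : Subgroup H)).pow_eq hD x]
    rw [h1]
    exact hξ
  have hex := exists_inv (N.subgroupOf (P : Subgroup H)) hPN (hk.sub (P : Subgroup H)) ⊤
    (fun ξ : IrrCharacter (N.subgroupOf (P : Subgroup H)) =>
      Odd (mu F (ξ : N.subgroupOf (P : Subgroup H) → ℂ))) hf1 hf2 hcard
  obtain ⟨ξ, hξ1, hξ2, -⟩ := hex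
  -- extend to `P`
  have hcycP : IsCyclic ((P : Subgroup H) ⧸ N.subgroupOf (P : Subgroup H)) := by
    let f : (P : Subgroup H) ⧸ N.subgroupOf (P : Subgroup H) →* H ⧸ N :=
      QuotientGroup.map (N.subgroupOf (P : Subgroup H)) N (P : Subgroup H).subtype (fun x hx => hx)
    refine isCyclic_of_injective f ?_
    rw [injective_iff_map_eq_one]
    intro x
    obtain ⟨y, rfl⟩ := QuotientGroup.mk_surjective x
    intro hx
    rw [QuotientGroup.eq_one_iff]
    have h1 : (QuotientGroup.mk ((y : H)) : H ⧸ N) = 1 := hx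
    exact Subgroup.mem_subgroupOf.2 ((QuotientGroup.eq_one_iff _).1 h1)
  have hexχ := Cfsg.Agent.S0886.result (N.subgroupOf (P : Subgroup H)) hcycP
    (ξ : N.subgroupOf (P : Subgroup H) → ℂ) ξ.2 (by
      intro g n
      have h1 := congrArg Subtype.val (hξ2 g (Subgroup.mem_top g))
      exact congrFun h1 n)
  obtain ⟨χ, hχ, hχξ⟩ := hexχ
  refine OddExt.of_sup hk N P htop (GC.of_irr hχ) (fun t => by rw [hk.pow_eq P.isPGroup' t]) hφ ?_
  have h2 : (fun d : N.subgroupOf (P : Subgroup H) => χ d) = (ξ : _ → ℂ) := funext hχξ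
  rw [h2]
  -- symmetric
  have h3 : mu (ξ : N.subgroupOf (P : Subgroup H) → ℂ) F = mu F (ξ : _ → ℂ) := by
    have h4 := irr_mu_spec hFc ξ.2
    apply mu_eq
    rw [← classInner_conj_symm, h4, map_intCast]
  show Odd (mu (ξ : N.subgroupOf (P : Subgroup H) → ℂ) F)
  rw [h3]
  exact hξ1

end ext

end Cfsg.Agent.H610.EB
end

-- part: H611/EB/Odd
section
/-!
# Fixed characters and normal subgroups of odd index

The versions of the reduction lemmas of `H610/EB/Red` where `N ≤ J ≤ G`, `J / N` has odd order and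
`G / J` is a `2`-group.
-/

set_option autoImplicit false
set_option linter.unusedSectionVars false
set_option linter.style.haveILetI false

namespace Cfsg.Agent.H611.EB

open Cfsg Cfsg.Agent.Characters Cfsg.Agent.H694
open scoped ComplexConjugate
open Cfsg.Agent.Characters.Core
open Cfsg.Agent.OddOrderCharacters.NormalInduced (conjFn)
open Cfsg.Agent.Blocks.Local Cfsg.Agent.Blocks.Basic
open Cfsg.Agent.H610.EB
open Cfsg.Agent.H610

universe u v

section odd

variable {G : Type u} [Group G] [Fintype G] {M : Ideal AlgInt} {k : ℕ}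

theorem exists_tw' (hk : IsK G k) : ∃ k' : ℕ, (∀ g : G, g ^ k' = g ^ k) ∧ OddIndex.Tw G k' 1 :=
  Main4516.exists_tw hk.two hk.odd

theorem pow_sub {k k' : ℕ} (h : ∀ g : G, g ^ k' = g ^ k) (N : Subgroup G) (n : N) : n ^ k' = n ^ k := by
  apply Subtype.ext
  rw [Subgroup.coe_pow, Subgroup.coe_pow, h]

/-- Constituents of the restriction of a fixed character to a normal subgroup of odd index are
fixed. -/
theorem fixed_of_over (hk : IsK G k) (N : Subgroup G) [N.Normal] [Fintype N] (hidx : Odd N.index)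
    (χ : IrrCharacter G) (hχ : ∀ g : G, (χ : G → ℂ) (g ^ k) = (χ : G → ℂ) g) (θ : IrrCharacter N)
    (hover : classInner (fun n : N => (χ : G → ℂ) n) (θ : N → ℂ) ≠ 0) :
    ∀ n : N, (θ : N → ℂ) (n ^ k) = (θ : N → ℂ) n := by
  haveI : Fact (Nat.Prime 2) := ⟨Nat.prime_two⟩
  obtain ⟨k', h1, h2⟩ := exists_tw' hk
  intro n
  rw [← pow_sub h1 N]
  refine Cfsg.Agent.S4518.result 2 N ?_ k' 1 h2.cop h2.ord χ (fun g => by rw [h1, hχ]) θ hover n
  intro h3
  exact (Nat.not_even_iff_odd.2 hidx) (even_iff_two_dvd.2 h3)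

/-- The fixed character over a fixed character. -/
theorem exists_over (hk : IsK G k) (N : Subgroup G) [N.Normal] [Fintype N] (hidx : Odd N.index)
    (θ : IrrCharacter N) (hθ : ∀ n : N, (θ : N → ℂ) (n ^ k) = (θ : N → ℂ) n) :
    ∃ χ : IrrCharacter G, classInner (fun n : N => (χ : G → ℂ) n) (θ : N → ℂ) ≠ 0 ∧
      ∀ g : G, (χ : G → ℂ) (g ^ k) = (χ : G → ℂ) g := by
  obtain ⟨k', h1, h2⟩ := exists_tw' hk
  obtain ⟨χ, h3, h4⟩ := OddIndex.exists_over h2 N hidx θ (fun n => by rw [pow_sub h1 N, hθ])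
  exact ⟨χ, h3, fun g => by rw [← h1, h4]⟩

theorem unique_over (hk : IsK G k) (N : Subgroup G) [N.Normal] [Fintype N] (hidx : Odd N.index)
    (θ : IrrCharacter N) (χ₁ χ₂ : IrrCharacter G)
    (h₁ : ∀ g : G, (χ₁ : G → ℂ) (g ^ k) = (χ₁ : G → ℂ) g)
    (h₂ : ∀ g : G, (χ₂ : G → ℂ) (g ^ k) = (χ₂ : G → ℂ) g)
    (o₁ : classInner (fun n : N => (χ₁ : G → ℂ) n) (θ : N → ℂ) ≠ 0)
    (o₂ : classInner (fun n : N => (χ₂ : G → ℂ) n) (θ : N → ℂ) ≠ 0) : χ₁ = χ₂ := by
  obtain ⟨k', h1, h2⟩ := exists_tw' hk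
  exact OddIndex.unique_over h2 N hidx θ χ₁ χ₂ (fun g => by rw [h1, h₁]) (fun g => by rw [h1, h₂])
    o₁ o₂

theorem mem_iff (hM : IsPModular 2 M) (hk : IsK G k) (N : Subgroup G) [N.Normal] [Fintype N]
    (hidx : Odd N.index) (χ : IrrCharacter G)
    (hχ : ∀ g : G, (χ : G → ℂ) (g ^ k) = (χ : G → ℂ) g) (θ : IrrCharacter N)
    (hover : classInner (fun n : N => (χ : G → ℂ) n) (θ : N → ℂ) ≠ 0) :
    χ ∈ principalBlock M G ↔ θ ∈ principalBlock M N := by
  obtain ⟨k', h1, h2⟩ := exists_tw' hk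
  have h3 := fixed_of_over hk N hidx χ hχ θ hover
  exact Cfsg.Agent.S4520.result M hM N hidx k' 1 h2.cop h2.ord h2.odd θ
    (fun n => by rw [pow_sub h1 N, h3]) χ (fun g => by rw [h1, hχ]) hover

/-- The parity of the norm. -/
theorem norm_odd (hk : IsK G k) (N : Subgroup G) [N.Normal] [Fintype N] (hidx : Odd N.index)
    (χ : IrrCharacter G) (hχ : ∀ g : G, (χ : G → ℂ) (g ^ k) = (χ : G → ℂ) g) :
    ∃ c : ℕ, classInner (fun n : N => (χ : G → ℂ) n) (fun n : N => (χ : G → ℂ) n) = c ∧ Odd c := by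
  obtain ⟨k', h1, h2⟩ := exists_tw' hk
  have hc : IsCharacter N (fun n : N => (χ : G → ℂ) n) :=
    Clifford.isCharacter_restrict N (Core.isIrr_isCharacter χ.2)
  obtain ⟨c, hc'⟩ := Core.classInner_isNat hc hc
  refine ⟨c, hc', ?_⟩
  have h3 := OddIndex.parity_inner h2 N hidx χ χ (fun g => by rw [h1, hχ])
    (fun g => by rw [h1, hχ]) (a := 1) (by rw [Core.classInner_irr_self χ.2, Nat.cast_one]) hc'
  exact Nat.odd_iff.2 h3.symm

/-- The multiplicity is odd and the degrees have the same parity. -/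
theorem over_parity (hk : IsK G k) (N : Subgroup G) [N.Normal] [Fintype N] (hidx : Odd N.index)
    (χ : IrrCharacter G) (hχ : ∀ g : G, (χ : G → ℂ) (g ^ k) = (χ : G → ℂ) g) (φ : IrrCharacter N)
    (hover : classInner (fun n : N => (χ : G → ℂ) n) (φ : N → ℂ) ≠ 0) :
    Odd (mu (fun n : N => (χ : G → ℂ) n) (φ : N → ℂ)) ∧
      (Even (charDegree (χ : G → ℂ)) ↔ Even (charDegree (φ : N → ℂ))) := by
  classical
  have hc : IsCharacter N (fun n : N => (χ : G → ℂ) n) :=
    Clifford.isCharacter_restrict N (Core.isIrr_isCharacter χ.2)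
  obtain ⟨e, he⟩ := Core.classInner_isNat hc (Core.isIrr_isCharacter φ.2)
  have he0 : e ≠ 0 := by
    rintro rfl
    exact hover (by rw [he, Nat.cast_zero])
  obtain ⟨c, hc1, hc2⟩ := norm_odd hk N hidx χ hχ
  have h1 := Cfsg.Agent.CharactersDeep.CliffordSum.classInner_restrict_self_eq N χ.2 φ.2 he he0
  have h2 := Cfsg.Agent.CharactersDeep.CliffordSum.restrict_eq_smul_sum N χ.2 φ.2 hover
  set t := (Finset.univ.image (fun x : G => (φ : N → ℂ) ∘ (MulAut.conjNormal x : MulAut N))) with ht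
  rw [hc1] at h1
  have h5 : c = e ^ 2 * t.card := by exact_mod_cast h1
  rw [h5] at hc2
  have h6 := Nat.odd_mul.1 hc2
  have he_odd : Odd e := by
    have := h6.1
    rw [sq] at this
    exact (Nat.odd_mul.1 this).1
  have h3 : (charDegree (χ : G → ℂ) : ℂ) = e * (t.card * charDegree (φ : N → ℂ)) := by
    have h4 := congrFun h2 1
    simp only [Pi.smul_apply, smul_eq_mul, Finset.sum_apply] at h4
    rw [he] at h4
    rw [← irr_one_eq_charDegree χ.2]
    have h5 : ∀ ψ ∈ t, ψ 1 = charDegree (φ : N → ℂ) := by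
      intro ψ hψ
      obtain ⟨x, -, rfl⟩ := Finset.mem_image.1 hψ
      rw [← irr_one_eq_charDegree φ.2, Function.comp_apply, map_one]
    rw [Finset.sum_congr rfl h5, Finset.sum_const, nsmul_eq_mul] at h4
    exact h4
  have h4 : charDegree (χ : G → ℂ) = e * (t.card * charDegree (φ : N → ℂ)) := by exact_mod_cast h3
  refine ⟨?_, ?_⟩
  · have h7 : mu (fun n : N => (χ : G → ℂ) n) (φ : N → ℂ) = (e : ℤ) :=
      mu_eq (by rw [he]; push_cast; rfl)
    rw [h7]
    exact_mod_cast he_odd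
  · rw [h4, ← Nat.not_odd_iff_even, ← Nat.not_odd_iff_even, Nat.odd_mul, Nat.odd_mul]
    (clear * - h6 he_odd; tauto)

/-- The number of constituents is odd. -/
theorem odd_card_constituents (hk : IsK G k) (N : Subgroup G) [N.Normal] [Fintype N]
    (hidx : Odd N.index) (χ : IrrCharacter G)
    (hχ : ∀ g : G, (χ : G → ℂ) (g ^ k) = (χ : G → ℂ) g) :
    Odd (Nat.card {φ : IrrCharacter N //
      classInner (fun n : N => (χ : G → ℂ) n) (φ : N → ℂ) ≠ 0}) := by
  classical
  haveI := @Fintype.ofFinite (IrrCharacter N) finite_irr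
  have hc : IsCharacter N (fun n : N => (χ : G → ℂ) n) :=
    Clifford.isCharacter_restrict N (Core.isIrr_isCharacter χ.2)
  obtain ⟨c, hc1, hc2⟩ := norm_odd hk N hidx χ hχ
  have h1 := classInner_eq_sum (isCharacter_isClassFunction hc) (isCharacter_isClassFunction hc)
  rw [hc1] at h1
  have h2 : (c : ℤ) = ∑ φ : IrrCharacter N, mu (fun n : N => (χ : G → ℂ) n) (φ : N → ℂ) *
      mu (fun n : N => (χ : G → ℂ) n) (φ : N → ℂ) := by
    have h3 : ∀ φ : IrrCharacter N, classInner (fun n : N => (χ : G → ℂ) n) (φ : N → ℂ) *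
        conj (classInner (fun n : N => (χ : G → ℂ) n) (φ : N → ℂ)) =
        ((mu (fun n : N => (χ : G → ℂ) n) (φ : N → ℂ) *
          mu (fun n : N => (χ : G → ℂ) n) (φ : N → ℂ) : ℤ) : ℂ) := by
      intro φ
      rw [irr_mu_spec hc φ.2, map_intCast]
      push_cast
      rfl
    rw [Finset.sum_congr rfl fun φ _ => h3 φ] at h1
    exact_mod_cast h1
  have h4 : ((c : ℕ) : ZMod 2) = ((Nat.card {φ : IrrCharacter N //
      classInner (fun n : N => (χ : G → ℂ) n) (φ : N → ℂ) ≠ 0} : ℕ) : ZMod 2) := by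
    rw [Nat.card_eq_fintype_card, Fintype.card_subtype, Finset.card_filter]
    have h5 := congrArg (Int.cast : ℤ → ZMod 2) h2
    push_cast at h5 ⊢
    rw [h5]
    refine Finset.sum_congr rfl fun φ _ => ?_
    split_ifs with h
    · obtain ⟨m, hm⟩ := (over_parity hk N hidx χ hχ φ h).1
      rw [hm]
      push_cast
      have e : ∀ x : ZMod 2, (2 * x + 1) * (2 * x + 1) = 1 := by decide
      exact e _
    · rw [not_not] at h
      have h6 : mu (fun n : N => (χ : G → ℂ) n) (φ : N → ℂ) = 0 := mu_eq (by rw [h]; simp)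
      rw [h6]
      simp
  rw [← Nat.not_even_iff_odd, even_iff_two_dvd, ← ZMod.natCast_eq_zero_iff, ← h4,
    ZMod.natCast_eq_zero_iff, ← even_iff_two_dvd, Nat.not_even_iff_odd]
  exact hc2

/-- parity of a set with an involution -/
theorem odd_card_iff_fixed {X : Type*} [Finite X] (s : X → X) (hs : ∀ x, s (s x) = x)
    (f : X → Prop) (hf : ∀ x, f x → f (s x)) :
    ((Nat.card {x // f x} : ℕ) : ZMod 2) = ((Nat.card {x // f x ∧ s x = x} : ℕ) : ZMod 2) := by
  classical
  haveI := Fintype.ofFinite X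
  rw [Nat.card_eq_fintype_card, Fintype.card_subtype, Finset.card_filter, Nat.card_eq_fintype_card,
    Fintype.card_subtype, Finset.card_filter]
  push_cast
  rw [← sub_eq_zero, ← Finset.sum_sub_distrib]
  refine Finset.sum_involution (fun x _ => s x) ?_ ?_ (fun _ _ => Finset.mem_univ _)
    (fun x _ => hs x)
  · intro x _
    have h1 : f (s x) ↔ f x := ⟨fun h => by rw [← hs x]; exact hf _ h, hf x⟩
    have h2 : (f (s x) ∧ s (s x) = s x) ↔ (f x ∧ s x = x) := by
      rw [h1, hs]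
      exact ⟨fun h => ⟨h.1, h.2.symm⟩, fun h => ⟨h.1, h.2.symm⟩⟩
    by_cases ha : f x
    · by_cases hb : s x = x
      · rw [if_pos (h1.2 ha), if_pos (h2.2 ⟨ha, hb⟩), if_pos ha, if_pos ⟨ha, hb⟩]
        ring
      · rw [if_pos (h1.2 ha), if_neg (fun h => hb (h2.1 h).2), if_pos ha, if_neg (fun h => hb h.2)]
        have e : (1 - 0 + (1 - 0) : ZMod 2) = 0 := by decide
        exact e
    · rw [if_neg (fun h => ha (h1.1 h)), if_neg (fun h => ha (h2.1 h).1), if_neg ha,
        if_neg (fun h => ha h.1)]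
      ring
  · intro x _ hx hsx
    apply hx
    by_cases h : f x
    · rw [if_pos h, if_pos ⟨h, hsx⟩, sub_self]
    · rw [if_neg h, if_neg (fun h' => h h'.1), sub_self]

/-- **The count**: corresponding families of fixed characters of `N` and `G` have cardinalities of
the same parity. -/
theorem card_up (hk : IsK G k) (N : Subgroup G) [N.Normal] [Fintype N] (hidx : Odd N.index)
    (f : IrrCharacter N → Prop) (F : IrrCharacter G → Prop)
    (hf : ∀ φ, f φ → f (Twist.pw (hk.sub N).coprime φ))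
    (hF : ∀ χ, F χ → F (Twist.pw hk.coprime χ))
    (hfF : ∀ (χ : IrrCharacter G) (φ : IrrCharacter N),
      (∀ g : G, (χ : G → ℂ) (g ^ k) = (χ : G → ℂ) g) →
      (∀ n : N, (φ : N → ℂ) (n ^ k) = (φ : N → ℂ) n) →
      classInner (fun n : N => (χ : G → ℂ) n) (φ : N → ℂ) ≠ 0 → (F χ ↔ f φ)) :
    ((Nat.card {φ // f φ} : ℕ) : ZMod 2) = ((Nat.card {χ // F χ} : ℕ) : ZMod 2) := by
  classical
  haveI := @Fintype.ofFinite (IrrCharacter N) finite_irr
  haveI := @Fintype.ofFinite (IrrCharacter G) finite_irr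
  rw [odd_card_iff_fixed (Twist.pw (hk.sub N).coprime) (pw_pw (hk.sub N)) f hf,
    odd_card_iff_fixed (Twist.pw hk.coprime) (pw_pw hk) F hF]
  have hfix1 : ∀ φ : IrrCharacter N, Twist.pw (hk.sub N).coprime φ = φ ↔
      ∀ n : N, (φ : N → ℂ) (n ^ k) = (φ : N → ℂ) n := Twist.fixed_iff (hk.sub N).coprime
  have hfix2 : ∀ χ : IrrCharacter G, Twist.pw hk.coprime χ = χ ↔
      ∀ g : G, (χ : G → ℂ) (g ^ k) = (χ : G → ℂ) g := Twist.fixed_iff hk.coprime
  simp only [hfix1, hfix2]
  -- the map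
  have hex : ∀ φ : {φ : IrrCharacter N // f φ ∧ ∀ n : N, (φ : N → ℂ) (n ^ k) = (φ : N → ℂ) n},
      ∃ χ : {χ : IrrCharacter G // F χ ∧ ∀ g : G, (χ : G → ℂ) (g ^ k) = (χ : G → ℂ) g},
        classInner (fun n : N => ((χ : IrrCharacter G) : G → ℂ) n) ((φ : IrrCharacter N) : N → ℂ) ≠ 0 := by
    rintro ⟨φ, hφ1, hφ2⟩
    obtain ⟨χ, h1, h2⟩ := exists_over hk N hidx φ hφ2
    exact ⟨⟨χ, (hfF χ φ h2 hφ2 h1).2 hφ1, h2⟩, h1⟩
  choose up hup using hex
  have hcard : ∀ χ : {χ : IrrCharacter G // F χ ∧ ∀ g : G, (χ : G → ℂ) (g ^ k) = (χ : G → ℂ) g},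
      (((Finset.univ.filter fun φ => up φ = χ).card : ℕ) : ZMod 2) = 1 := by
    rintro ⟨χ, hχ1, hχ2⟩
    have h1 := odd_card_constituents hk N hidx χ hχ2
    have h2 : (Finset.univ.filter fun φ => up φ = ⟨χ, hχ1, hχ2⟩).card =
        Nat.card {φ : IrrCharacter N //
          classInner (fun n : N => (χ : G → ℂ) n) (φ : N → ℂ) ≠ 0} := by
      rw [← Fintype.card_subtype, ← Nat.card_eq_fintype_card]
      refine Nat.card_congr
        { toFun := fun φ => ⟨φ.1.1, by
            have h3 := hup φ.1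
            rw [φ.2] at h3
            exact h3⟩
          invFun := fun φ => ⟨⟨φ.1, (hfF χ φ.1 hχ2 (fixed_of_over hk N hidx χ hχ2 φ.1 φ.2) φ.2).1 hχ1,
            fixed_of_over hk N hidx χ hχ2 φ.1 φ.2⟩, by
              apply Subtype.ext
              exact unique_over hk N hidx φ.1 _ _ (up _).2.2 hχ2 (hup _) φ.2⟩
          left_inv := fun φ => by
            apply Subtype.ext
            apply Subtype.ext
            rfl
          right_inv := fun φ => by
            apply Subtype.ext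
            rfl }
    rw [h2]
    obtain ⟨m, hm⟩ := h1
    rw [hm]
    push_cast
    have e : ∀ x : ZMod 2, 2 * x + 1 = 1 := by decide
    exact e _
  rw [Nat.card_eq_fintype_card, Nat.card_eq_fintype_card, ← Finset.card_univ,
    Finset.card_eq_sum_card_fiberwise (f := up) (t := Finset.univ) (fun _ _ => Finset.mem_univ _)]
  push_cast
  rw [Finset.sum_congr rfl fun χ _ => hcard χ, Finset.sum_const, Finset.card_univ, nsmul_eq_mul,
    mul_one]

/-- Multiplicities of fixed characters in a fixed generalized character. -/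
theorem mu_parity (hk : IsK G k) (N : Subgroup G) [N.Normal] [Fintype N] (hidx : Odd N.index)
    {π : G → ℂ} (hπ : GC π) (hπk : ∀ g, π (g ^ k) = π g) (χ : IrrCharacter G)
    (hχ : ∀ g : G, (χ : G → ℂ) (g ^ k) = (χ : G → ℂ) g) (φ : IrrCharacter N)
    (hover : classInner (fun n : N => (χ : G → ℂ) n) (φ : N → ℂ) ≠ 0) :
    Odd (mu π (χ : G → ℂ)) ↔ Odd (mu (fun n : N => π n) (φ : N → ℂ)) := by
  classical
  haveI := @Fintype.ofFinite (IrrCharacter G) finite_irr
  have hφ := fixed_of_over hk N hidx χ hχ φ hover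
  have h1 := hπ.classInner_comp N.subtype φ.2
  have h2 : mu (fun n : N => π n) (φ : N → ℂ) =
      ∑ ψ : IrrCharacter G, mu π (ψ : G → ℂ) *
        mu (fun x : N => (ψ : G → ℂ) (N.subtype x)) (φ : N → ℂ) := mu_eq h1
  set F : IrrCharacter G → ℤ := fun ψ => mu π (ψ : G → ℂ) *
        mu (fun x : N => (ψ : G → ℂ) (N.subtype x)) (φ : N → ℂ) with hF
  have hinv : ∀ ψ : IrrCharacter G, F (Twist.pw hk.coprime ψ) = F ψ := by
    intro χ
    rw [hF]
    simp only
    rw [mu_pow hk hπk]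
    congr 1
    have h3 := Twist.classInner_pow (Twist.coprime_subgroup hk.coprime N)
      (fun x : N => (χ : G → ℂ) x) (φ : N → ℂ)
    rw [mu, mu]
    congr 2
    have h4 : (fun x : N => (Twist.pw hk.coprime χ : G → ℂ) (N.subtype x)) =
        fun x : N => (fun x : N => (χ : G → ℂ) x) (x ^ k) := by
      funext x
      rw [Twist.pw_apply]
      rfl
    have h5 : (fun g : N => (φ : N → ℂ) (g ^ k)) = (φ : N → ℂ) := funext hφ
    rw [h4]
    rw [h5] at h3
    exact h3
  have h3 : ((∑ ψ ∈ Finset.univ.erase χ, F ψ : ℤ) : ZMod 2) = 0 := by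
    rw [Int.cast_sum]
    refine Finset.sum_involution (fun x _ => Twist.pw hk.coprime x) ?_ ?_ ?_
      (fun x _ => pw_pw hk x)
    · intro x _
      rw [hinv]
      exact zmod_two_add_self _
    · intro x hx hx0 hsx
      have h4 : mu (fun n : N => (x : G → ℂ) n) (φ : N → ℂ) ≠ 0 := by
        intro h4
        apply hx0
        have h5 : F x = mu π (x : G → ℂ) * mu (fun n : N => (x : G → ℂ) n) (φ : N → ℂ) := rfl
        rw [h5, h4, mul_zero, Int.cast_zero]
      have h5 : classInner (fun n : N => (x : G → ℂ) n) (φ : N → ℂ) ≠ 0 := by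
        rw [irr_mu_spec (Clifford.isCharacter_restrict N (Core.isIrr_isCharacter x.2)) φ.2]
        exact_mod_cast h4
      exact (Finset.mem_erase.1 hx).1 (unique_over hk N hidx φ x χ
        ((Twist.fixed_iff hk.coprime x).1 hsx) hχ h5 hover)
    · intro x hx
      refine Finset.mem_erase.2 ⟨fun h4 => (Finset.mem_erase.1 hx).1 ?_, Finset.mem_univ _⟩
      rw [← pw_pw hk x, h4]
      exact (Twist.fixed_iff hk.coprime χ).2 hχ
  rw [← Finset.add_sum_erase _ _ (Finset.mem_univ χ)] at h2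
  have h4 : Odd (mu (fun n : N => (χ : G → ℂ) n) (φ : N → ℂ)) :=
    (over_parity hk N hidx χ hχ φ hover).1
  have h5 : F χ = mu π (χ : G → ℂ) * mu (fun n : N => (χ : G → ℂ) n) (φ : N → ℂ) := rfl
  have h6 : Even (∑ ψ ∈ Finset.univ.erase χ, F ψ) := by
    rw [ZMod.intCast_zmod_eq_zero_iff_dvd] at h3
    exact even_iff_two_dvd.2 (by exact_mod_cast h3)
  have h7 : mu (fun n : N => π n) (φ : N → ℂ) =
      mu π (χ : G → ℂ) * mu (fun n : N => (χ : G → ℂ) n) (φ : N → ℂ) +
        ∑ ψ ∈ Finset.univ.erase χ, F ψ := h2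
  rw [h7, Int.odd_add, Int.odd_mul]
  constructor
  · intro h
    exact ⟨fun _ => h6, fun _ => ⟨h, h4⟩⟩
  · intro h
    exact (h.2 h6).1

end odd

/-! ### The conclusion with a constituent -/

section concl

open Cfsg.Agent.Blocks.Covering (conjIrr conjIrr_conjIrr conjIrr_one conjIrr_apply conjIrr_at_one)
open Cfsg.Agent.OddOrderCharacters.PF9.CliffGen (resTo irr_ind)

variable {G : Type u} [Group G] [Fintype G] {M : Ideal AlgInt} {k : ℕ}

/-- The conclusion of S4522, with the property of a constituent. -/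
def ConclF (M : Ideal AlgInt) (G : Type u) [Group G] (S : Subgroup G) [Fintype S] (k : ℕ)
    (F : IrrCharacter S → Prop) : Prop :=
  ∃ χ ∈ Cfsg.principalBlock M G, Even (Cfsg.charDegree (χ : G → ℂ)) ∧
    (∀ g : G, (χ : G → ℂ) (g ^ k) = (χ : G → ℂ) g) ∧
    ∃ φ : IrrCharacter S, F φ ∧ (∀ s : S, (φ : S → ℂ) (s ^ k) = (φ : S → ℂ) s) ∧
      Cfsg.classInner (fun s : S => (χ : G → ℂ) s) (φ : S → ℂ) ≠ 0

theorem over_trans {G : Type u} [Group G] [Fintype G] (S T : Subgroup G) [Fintype S] [Fintype T]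
    (hST : S ≤ T) {χ : G → ℂ} (hχ : IsCharacter G χ) {ψ : T → ℂ} (hψ : IsIrrCharacter T ψ)
    {φ : S → ℂ} (hφ : IsIrrCharacter S φ) (h1 : classInner (fun t : T => χ t) ψ ≠ 0)
    (h2 : classInner (resTo hST ψ) φ ≠ 0) : classInner (fun s : S => χ s) φ ≠ 0 := by
  have hcI2 : IsCharacter T (fun t : T => χ t) := isCharacter_comp T.subtype hχ
  have h7 := Cfsg.Agent.OddOrderCharacters.Clifford.isCharacter_sub_irr hcI2 hψ h1
  set ρ : T → ℂ := (fun t : T => χ (t : G)) - ψ with hρ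
  have h8 : (fun n : S => χ (n : G)) = resTo hST ρ + resTo hST ψ := by
    funext n
    show _ = ρ _ + ψ _
    rw [hρ]
    show χ (n : G) = χ (n : G) - ψ _ + ψ _
    rw [sub_add_cancel]
  obtain ⟨m, hm⟩ := classInner_isNat
    (Cfsg.Agent.OddOrderCharacters.PF9.CliffGen.isCharacter_resTo hST h7) (isIrr_isCharacter hφ)
  obtain ⟨e, he⟩ := classInner_isNat
    (Cfsg.Agent.OddOrderCharacters.PF9.CliffGen.isCharacter_resTo hST (isIrr_isCharacter hψ))
    (isIrr_isCharacter hφ)
  rw [he] at h2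
  have he0 : e ≠ 0 := by exact_mod_cast h2
  rw [h8, classInner_add_left, hm, he]
  have : (m : ℂ) + (e : ℂ) = ((m + e : ℕ) : ℂ) := by push_cast; ring
  rw [this]
  exact_mod_cast (by omega : m + e ≠ 0)

/-- **The conclusion from the inertia group.** -/
theorem of_inertia' (hM : IsPModular 2 M) (S : Subgroup G) [hS : S.Normal] [Fintype S]
    (hidx : ∃ j : ℕ, S.index = 2 ^ j) (hk : IsK G k) (φ : IrrCharacter S)
    (hφ : φ ∈ principalBlock M S) (hφk : ∀ s : S, (φ : S → ℂ) (s ^ k) = (φ : S → ℂ) s)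
    (I : Subgroup G) [Fintype I]
    (hI : ∀ g, g ∈ I ↔ conjFn S (φ : S → ℂ) g = φ) (hSI : S ≤ I) {π : I → ℂ} (hπ : GC π)
    (hπk : ∀ t : I, π (t ^ k) = π t) (hodd : Odd (mu (resTo hSI π) (φ : S → ℂ)))
    (heven : Even (charDegree (φ : S → ℂ)) ∨ I ≠ ⊤) :
    ∃ χ ∈ Cfsg.principalBlock M G, Even (Cfsg.charDegree (χ : G → ℂ)) ∧
      (∀ g : G, (χ : G → ℂ) (g ^ k) = (χ : G → ℂ) g) ∧
      Cfsg.classInner (fun s : S => (χ : G → ℂ) s) (φ : S → ℂ) ≠ 0 := by
  classical
  haveI : Fact (Nat.Prime 2) := ⟨Nat.prime_two⟩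
  haveI : Fintype (S.subgroupOf I) := Fintype.ofFinite _
  have hkI : IsK I k := hk.sub I
  -- the character of `I`
  obtain ⟨ψ, hψk, hψodd⟩ := exists_odd hkI (S.subgroupOf I) (irr_dn S I hSI φ.2)
    (by
      intro s
      show (φ : S → ℂ) (Subgroup.subgroupOfEquivOfLe hSI (s ^ k)) = (φ : S → ℂ) (Subgroup.subgroupOfEquivOfLe hSI s)
      rw [map_pow, hφk]) hπ hπk (by
      rw [mu_dn S I hSI]
      exact hodd)
  rw [mu_dn S I hSI] at hψodd
  have hmu0 : mu (resTo hSI (ψ : I → ℂ)) (φ : S → ℂ) ≠ 0 := by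
    intro h0
    rw [h0] at hψodd
    exact absurd hψodd (by decide)
  have hcr : IsCharacter S (resTo hSI (ψ : I → ℂ)) :=
    Cfsg.Agent.OddOrderCharacters.PF9.CliffGen.isCharacter_resTo hSI (isIrr_isCharacter ψ.2)
  have hcI : classInner (resTo hSI (ψ : I → ℂ)) (φ : S → ℂ) =
      (mu (resTo hSI (ψ : I → ℂ)) (φ : S → ℂ) : ℂ) := irr_mu_spec hcr φ.2
  have h0 : classInner (resTo hSI (ψ : I → ℂ)) (φ : S → ℂ) ≠ 0 := by
    rw [hcI]
    exact_mod_cast hmu0
  have hirr : IsIrrCharacter G (indFun I (ψ : I → ℂ)) := irr_ind φ.2 hI hSI ψ.2 h0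
  -- the degree
  have hψ1 : (ψ : I → ℂ) 1 = (mu (resTo hSI (ψ : I → ℂ)) (φ : S → ℂ) : ℂ) * (φ : S → ℂ) 1 := by
    have h := apply_one_of_invariant (S.subgroupOf I) (irr_dn S I hSI φ.2)
      (fun g => inv_dn S I hSI (fun g hg => (hI g).1 hg) g) ψ.2 (by
        rw [mu_dn S I hSI]
        exact hmu0)
    rw [mu_dn S I hSI] at h
    rw [h]
    rfl
  obtain ⟨e, he⟩ : ∃ e : ℕ, (e : ℤ) = mu (resTo hSI (ψ : I → ℂ)) (φ : S → ℂ) := by
    obtain ⟨e, he⟩ := classInner_isNat hcr (isIrr_isCharacter φ.2)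
    refine ⟨e, ?_⟩
    have : mu (resTo hSI (ψ : I → ℂ)) (φ : S → ℂ) = (e : ℤ) := mu_eq (by rw [he]; push_cast; rfl)
    rw [this]
  have hdeg : charDegree (indFun I (ψ : I → ℂ)) = I.index * (e * charDegree (φ : S → ℂ)) := by
    have h1 := Cfsg.Agent.OddOrderCharacters.IndRes.indFun_apply_one (H := I) (ψ : I → ℂ)
    rw [hψ1, ← he, Cfsg.Agent.Blocks.Basic.irr_one_eq_charDegree φ.2,
      Cfsg.Agent.Blocks.Basic.irr_one_eq_charDegree hirr] at h1
    exact_mod_cast h1
  -- `φ` is a constituent of the restriction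
  have h5 : classInner (fun t : I => indFun I (ψ : I → ℂ) (t : G)) (ψ : I → ℂ) = 1 := by
    have h6 := Cfsg.Agent.OddOrderCharacters.Clifford.classInner_indFun I (ψ : I → ℂ)
      (indFun I (ψ : I → ℂ)) (isIrr_isClassFunction hirr)
    rw [classInner_irr_self hirr] at h6
    rw [← classInner_conj_symm, ← h6, map_one]
  have h9 : classInner (fun n : S => indFun I (ψ : I → ℂ) (n : G)) (φ : S → ℂ) ≠ 0 :=
    over_trans S I hSI (isIrr_isCharacter hirr) ψ.2 φ.2 (by rw [h5]; exact one_ne_zero) h0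
  refine ⟨⟨indFun I (ψ : I → ℂ), hirr⟩, mem_of_over hM S hidx hφ h9, ?_,
    fun g => indFun_pow I hk hψk g, h9⟩
  show Even (charDegree (indFun I (ψ : I → ℂ)))
  rw [hdeg]
  rcases heven with h | h
  · exact (h.mul_left e).mul_left _
  · obtain ⟨j, hj⟩ := hidx
    have h10 : I.index ∣ 2 ^ j := by
      rw [← hj]
      exact Subgroup.index_dvd_of_le hSI
    obtain ⟨i, -, hi⟩ := (Nat.dvd_prime_pow Nat.prime_two).1 h10
    have hi0 : i ≠ 0 := by
      rintro rfl
      rw [pow_zero, Subgroup.index_eq_one] at hi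
      exact h hi
    rw [hi]
    exact ((even_two.pow_of_ne_zero hi0)).mul_right _

/-- **The conclusion from an odd number of constituents.** -/
theorem of_sum' (hM : IsPModular 2 M) (S : Subgroup G) [hS : S.Normal] [Fintype S]
    (hidx : ∃ j : ℕ, S.index = 2 ^ j) (hk : IsK G k) {π : G → ℂ} (hπ : GC π)
    (hπk : ∀ t : G, π (t ^ k) = π t)
    (hodd : Odd (Nat.card {φ : IrrCharacter S // φ ∈ principalBlock M S ∧
      Even (charDegree (φ : S → ℂ)) ∧ Odd (mu (fun s : S => π s) (φ : S → ℂ))})) :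
    ConclF M G S k (fun φ => φ ∈ principalBlock M S ∧
      Even (charDegree (φ : S → ℂ)) ∧ Odd (mu (fun s : S => π s) (φ : S → ℂ))) := by
  classical
  obtain ⟨φ, ⟨hφ1, hφ2, hφ3⟩, hφ4, hφ5⟩ := exists_inv S hidx hk ⊤
    (fun φ : IrrCharacter S => φ ∈ principalBlock M S ∧
      Even (charDegree (φ : S → ℂ)) ∧ Odd (mu (fun s : S => π s) (φ : S → ℂ)))
    (by
      rintro d - φ ⟨h1, h2, h3⟩
      exact ⟨conjIrr_mem S d h1, by rwa [charDegree_conjIrr], by rwa [mu_conjIrr S hπ.cf]⟩)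
    (by
      rintro φ ⟨h1, h2, h3⟩
      refine ⟨pw_mem (hk.sub S) h1, by rwa [charDegree_pw (hk.sub S)], ?_⟩
      rwa [mu_pow (hk.sub S) (π := fun s : S => π s) (fun s => by
        show π ((s ^ k : S) : G) = π s
        rw [Subgroup.coe_pow, hπk])])
    hodd
  haveI : Fintype (⊤ : Subgroup G) := Fintype.ofFinite _
  have hφk := (Twist.fixed_iff (hk.sub S).coprime φ).1 hφ5
  obtain ⟨χ, h1, h2, h3, h4⟩ := of_inertia' hM S hidx hk φ hφ1 hφk ⊤
    (fun g => ⟨fun _ => congrArg Subtype.val (hφ4 g (Subgroup.mem_top g)), fun _ => Subgroup.mem_top g⟩)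
    le_top (π := fun t : (⊤ : Subgroup G) => π t) (hπ.comp (Subgroup.subtype ⊤))
    (fun t => by
      show π ((t ^ k : (⊤ : Subgroup G)) : G) = π t
      rw [Subgroup.coe_pow, hπk]) hφ3 (Or.inl hφ2)
  exact ⟨χ, h1, h2, h3, φ, ⟨hφ1, hφ2, hφ3⟩, hφk, h4⟩

/-- **The conclusion from an odd number of constituents of one of two swapped classes.** -/
theorem of_sum_pair' (hM : IsPModular 2 M) (S : Subgroup G) [hS : S.Normal] [Fintype S]
    (hidx : ∃ j : ℕ, S.index = 2 ^ j) (hk : IsK G k) (D : Subgroup G) [Fintype D]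
    (hD : D.index = 2) (hSD : S ≤ D) {π : D → ℂ} (hπ : GC π) (hπk : ∀ t : D, π (t ^ k) = π t)
    (g₀ : G) (hg₀ : g₀ ∉ D)
    (hodd : Odd (Nat.card {φ : IrrCharacter S // φ ∈ principalBlock M S ∧
      Odd (mu (resTo hSD π) (φ : S → ℂ)) ∧
      Even (mu (fun s : S => resTo hSD π (MulAut.conjNormal g₀ s)) (φ : S → ℂ))})) :
    ConclF M G S k (fun φ => φ ∈ principalBlock M S ∧
      Odd (mu (resTo hSD π) (φ : S → ℂ)) ∧
      Even (mu (fun s : S => resTo hSD π (MulAut.conjNormal g₀ s)) (φ : S → ℂ))) := by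
  classical
  haveI : D.Normal := Subgroup.normal_of_index_eq_two hD
  have hinv1 : ∀ d ∈ D, ∀ s : S, resTo hSD π (MulAut.conjNormal d s) = resTo hSD π s := by
    intro d hd s
    have h1 := hπ.cf ⟨s, hSD s.2⟩ ⟨d, hd⟩
    rw [← show π ⟨s, hSD s.2⟩ = resTo hSD π s from rfl, ← h1]
    rfl
  have hinv2 : ∀ d ∈ D, ∀ s : S,
      (fun s : S => resTo hSD π (MulAut.conjNormal g₀ s)) (MulAut.conjNormal d s) =
        (fun s : S => resTo hSD π (MulAut.conjNormal g₀ s)) s := by
    intro d hd s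
    have hd' : g₀ * d * g₀⁻¹ ∈ D := ‹D.Normal›.conj_mem d hd g₀
    show resTo hSD π ((MulAut.conjNormal g₀ : MulAut S) (MulAut.conjNormal d s)) = _
    have h1 : (MulAut.conjNormal g₀ : MulAut S) (MulAut.conjNormal d s) =
        MulAut.conjNormal (g₀ * d * g₀⁻¹) ((MulAut.conjNormal g₀ : MulAut S) s) := by
      ext
      simp only [MulAut.conjNormal_apply]
      group
    rw [h1, hinv1 _ hd']
  obtain ⟨φ, ⟨hφ1, hφ2, hφ3⟩, hφ4, hφ5⟩ := exists_inv S hidx hk D
    (fun φ : IrrCharacter S => φ ∈ principalBlock M S ∧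
      Odd (mu (resTo hSD π) (φ : S → ℂ)) ∧
      Even (mu (fun s : S => resTo hSD π (MulAut.conjNormal g₀ s)) (φ : S → ℂ)))
    (by
      rintro d hd φ ⟨h1, h2, h3⟩
      exact ⟨conjIrr_mem S d h1, by rwa [mu_conj_of_inv S d (hinv1 d hd)],
        by rwa [mu_conj_of_inv S d (hinv2 d hd)]⟩)
    (by
      rintro φ ⟨h1, h2, h3⟩
      refine ⟨pw_mem (hk.sub S) h1, ?_, ?_⟩
      · rwa [mu_pow (hk.sub S) (π := resTo hSD π) (fun s => hπk ⟨s, hSD s.2⟩)]
      · rwa [mu_pow (hk.sub S) (π := fun s : S => resTo hSD π (MulAut.conjNormal g₀ s)) (fun s => by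
          show resTo hSD π ((MulAut.conjNormal g₀ : MulAut S) (s ^ k)) = _
          rw [map_pow]
          exact hπk ⟨_, hSD ((MulAut.conjNormal g₀ : MulAut S) s).2⟩)])
    hodd
  have hne : conjIrr S g₀ φ ≠ φ := by
    intro h1
    have h2 := Clifford.classInner_comp_mulEquiv (MulAut.conjNormal g₀ : MulAut S) (resTo hSD π)
      (φ : S → ℂ)
    have h3 : ((φ : S → ℂ) ∘ (MulAut.conjNormal g₀ : MulAut S)) = (φ : S → ℂ) :=
      congrArg Subtype.val h1
    rw [h3] at h2
    have h4 : mu (fun s : S => resTo hSD π (MulAut.conjNormal g₀ s)) (φ : S → ℂ) =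
        mu (resTo hSD π) (φ : S → ℂ) := by
      rw [mu, mu, ← h2]
      rfl
    rw [h4] at hφ3
    exact (Int.not_even_iff_odd.2 hφ2) hφ3
  have hI : ∀ g, g ∈ D ↔ conjFn S (φ : S → ℂ) g = φ := by
    intro g
    refine ⟨fun hg => congrArg Subtype.val (hφ4 g hg), fun hg => ?_⟩
    by_contra hgD
    have h1 : g * g₀⁻¹ ∈ D := by
      rw [Subgroup.mul_mem_iff_of_index_two hD]
      exact ⟨fun h => absurd h hgD, fun h => absurd (D.inv_mem_iff.1 h) hg₀⟩
    have h2 : conjIrr S g φ = φ := Subtype.ext hg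
    have h3 := hφ4 _ h1
    apply hne
    have h4 := conjIrr_conjIrr (N := S) g₀ (g * g₀⁻¹) φ
    rw [h3, inv_mul_cancel_right, h2] at h4
    exact h4
  have hφk := (Twist.fixed_iff (hk.sub S).coprime φ).1 hφ5
  obtain ⟨χ, h1, h2, h3, h4⟩ := of_inertia' hM S hidx hk φ hφ1 hφk D hI hSD
    hπ hπk hφ2 (Or.inr (by
      rintro rfl
      rw [Subgroup.index_top] at hD
      exact absurd hD (by norm_num)))
  exact ⟨χ, h1, h2, h3, φ, ⟨hφ1, hφ2, hφ3⟩, hφk, h4⟩

end concl

/-! ### The three-step chain `N ≤ J ≤ G` -/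

section chain

open Cfsg.Agent.Blocks.Covering (conjIrr)
open Cfsg.Agent.OddOrderCharacters.PF9.CliffGen (resTo irr_ind)

variable {G : Type u} [Group G] [Fintype G] {M : Ideal AlgInt} {k : ℕ}

theorem mem_comp_equiv {H K : Type*} [Group H] [Group K] (e : H ≃* K) {χ : K → ℂ}
    (hχ : IsIrrCharacter K χ) (hχ' : IsIrrCharacter H (χ ∘ e)) :
    (⟨χ ∘ e, hχ'⟩ : IrrCharacter H) ∈ principalBlock M H ↔
      (⟨χ, hχ⟩ : IrrCharacter K) ∈ principalBlock M K := by
  have h1 : ∀ (ψ : K → ℂ) (h : H), centralChar (ψ ∘ e) h = centralChar ψ (e h) := fun ψ h =>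
    Cfsg.Agent.Blocks.Covering.centralChar_comp_equiv e ψ h
  constructor
  · intro h g
    obtain ⟨g, rfl⟩ := e.surjective g
    have h2 := h g
    have h3 := h1 (fun _ => 1) g
    have h4 := h1 χ g
    show MemLocalIdeal M (centralChar (fun _ => 1) (e g) - centralChar χ (e g))
    rw [← h3, ← h4]
    exact h2
  · intro h g
    have h2 := h (e g)
    have h3 := h1 (fun _ => 1) g
    have h4 := h1 χ g
    show MemLocalIdeal M (centralChar ((fun _ => 1) ∘ e) g - centralChar (χ ∘ e) g)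
    rw [h3, h4]
    exact h2

variable (N J : Subgroup G) [hN : N.Normal] [hJ : J.Normal] [Fintype N] [Fintype J] (hNJ : N ≤ J)

/-- The characters of `N` as characters of `N.subgroupOf J`. -/
def dnIrr (φ : IrrCharacter N) : IrrCharacter (N.subgroupOf J) :=
  ⟨dn N J hNJ (φ : N → ℂ), irr_dn N J hNJ φ.2⟩

/-- The characters of `N.subgroupOf J` as characters of `N`. -/
def upIrr (φ : IrrCharacter (N.subgroupOf J)) : IrrCharacter N :=
  ⟨(φ : N.subgroupOf J → ℂ) ∘ (Subgroup.subgroupOfEquivOfLe hNJ).symm,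
    isIrr_comp (Subgroup.subgroupOfEquivOfLe hNJ : N.subgroupOf J ≃* N).symm.toMonoidHom
    (Subgroup.subgroupOfEquivOfLe hNJ : N.subgroupOf J ≃* N).symm.surjective φ.2⟩

theorem up_dn (φ : IrrCharacter N) : upIrr N J hNJ (dnIrr N J hNJ φ) = φ := by
  apply Subtype.ext
  funext n
  show (φ : N → ℂ) (Subgroup.subgroupOfEquivOfLe hNJ ((Subgroup.subgroupOfEquivOfLe hNJ).symm n)) = _
  rw [MulEquiv.apply_symm_apply]

theorem dn_up (φ : IrrCharacter (N.subgroupOf J)) : dnIrr N J hNJ (upIrr N J hNJ φ) = φ := by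
  apply Subtype.ext
  funext n
  show (φ : N.subgroupOf J → ℂ) ((Subgroup.subgroupOfEquivOfLe hNJ).symm
    (Subgroup.subgroupOfEquivOfLe hNJ n)) = _
  rw [MulEquiv.symm_apply_apply]

theorem card_up' (hodd : Odd (N.relIndex J)) (hk : IsK G k)
    (f : IrrCharacter N → Prop) (F : IrrCharacter J → Prop)
    (hf : ∀ φ, f φ → f (Twist.pw (hk.sub N).coprime φ))
    (hF : ∀ χ, F χ → F (Twist.pw (hk.sub J).coprime χ))
    (hfF : ∀ (χ : IrrCharacter J) (φ : IrrCharacter N),
      (∀ g : J, (χ : J → ℂ) (g ^ k) = (χ : J → ℂ) g) →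
      (∀ n : N, (φ : N → ℂ) (n ^ k) = (φ : N → ℂ) n) →
      classInner (resTo hNJ (χ : J → ℂ)) (φ : N → ℂ) ≠ 0 → (F χ ↔ f φ)) :
    ((Nat.card {φ // f φ} : ℕ) : ZMod 2) = ((Nat.card {χ // F χ} : ℕ) : ZMod 2) := by
  classical
  haveI : Fintype (N.subgroupOf J) := Fintype.ofFinite _
  have h1 : Nat.card {φ // f φ} = Nat.card {φ // f (upIrr N J hNJ φ)} :=
    Nat.card_congr
      { toFun := fun φ => ⟨dnIrr N J hNJ φ.1, by rw [up_dn]; exact φ.2⟩
        invFun := fun φ => ⟨upIrr N J hNJ φ.1, φ.2⟩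
        left_inv := fun φ => Subtype.ext (up_dn N J hNJ φ.1)
        right_inv := fun φ => Subtype.ext (dn_up N J hNJ φ.1) }
  rw [h1]
  have hover : ∀ (χ : IrrCharacter J) (φ : IrrCharacter (N.subgroupOf J)),
      classInner (fun n : N.subgroupOf J => (χ : J → ℂ) n) (φ : N.subgroupOf J → ℂ) =
        classInner (resTo hNJ (χ : J → ℂ)) (upIrr N J hNJ φ : N → ℂ) := by
    intro χ φ
    rw [← classInner_dn N J hNJ]
    have h2 : dn N J hNJ (upIrr N J hNJ φ : N → ℂ) = (φ : N.subgroupOf J → ℂ) :=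
      congrArg Subtype.val (dn_up N J hNJ φ)
    rw [h2]
    rfl
  have hpw : ∀ φ : IrrCharacter (N.subgroupOf J),
      upIrr N J hNJ (Twist.pw ((hk.sub J).sub (N.subgroupOf J)).coprime φ) =
        Twist.pw (hk.sub N).coprime (upIrr N J hNJ φ) := by
    intro φ
    apply Subtype.ext
    funext n
    show (φ : N.subgroupOf J → ℂ) (((Subgroup.subgroupOfEquivOfLe hNJ).symm n) ^ k) =
      (φ : N.subgroupOf J → ℂ) ((Subgroup.subgroupOfEquivOfLe hNJ).symm (n ^ k))
    rw [map_pow]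
  refine card_up (hk.sub J) (N.subgroupOf J) hodd _ F ?_ hF ?_
  · intro φ hφ
    rw [hpw]
    exact hf _ hφ
  · intro χ φ h2 h3 h4
    rw [hover] at h4
    refine hfF χ _ h2 (fun n => ?_) h4
    show (φ : N.subgroupOf J → ℂ) ((Subgroup.subgroupOfEquivOfLe hNJ).symm (n ^ k)) =
      (φ : N.subgroupOf J → ℂ) ((Subgroup.subgroupOfEquivOfLe hNJ).symm n)
    rw [map_pow, h3]

/-- The facts about a fixed character of `J` over a fixed character of `N`. -/
theorem chain_facts (hM : IsPModular 2 M) (hodd : Odd (N.relIndex J)) (hk : IsK G k)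
    (χ : IrrCharacter J) (φ : IrrCharacter N)
    (hχ : ∀ g : J, (χ : J → ℂ) (g ^ k) = (χ : J → ℂ) g)
    (hover : classInner (resTo hNJ (χ : J → ℂ)) (φ : N → ℂ) ≠ 0) :
    (χ ∈ principalBlock M J ↔ φ ∈ principalBlock M N) ∧
      (Even (charDegree (χ : J → ℂ)) ↔ Even (charDegree (φ : N → ℂ))) ∧
      ∀ π : J → ℂ, GC π → (∀ g, π (g ^ k) = π g) →
        (Odd (mu π (χ : J → ℂ)) ↔ Odd (mu (resTo hNJ π) (φ : N → ℂ))) := by
  classical
  haveI : Fintype (N.subgroupOf J) := Fintype.ofFinite _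
  have h1 : classInner (fun n : N.subgroupOf J => (χ : J → ℂ) n)
      (dnIrr N J hNJ φ : N.subgroupOf J → ℂ) ≠ 0 := by
    have h2 := classInner_dn N J hNJ (resTo hNJ (χ : J → ℂ)) (φ : N → ℂ)
    rw [← h2] at hover
    exact hover
  refine ⟨?_, ?_, fun π hπ hπk => ?_⟩
  · rw [mem_iff hM (hk.sub J) (N.subgroupOf J) hodd χ hχ (dnIrr N J hNJ φ) h1]
    exact mem_comp_equiv (Subgroup.subgroupOfEquivOfLe hNJ) φ.2 _
  · rw [(over_parity (hk.sub J) (N.subgroupOf J) hodd χ hχ (dnIrr N J hNJ φ) h1).2]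
    have h2 : charDegree (dnIrr N J hNJ φ : N.subgroupOf J → ℂ) = charDegree (φ : N → ℂ) := by
      rw [charDegree_def, charDegree_def]
      have h3 : (dnIrr N J hNJ φ : N.subgroupOf J → ℂ) 1 = (φ : N → ℂ) 1 := by
        show (φ : N → ℂ) ((Subgroup.subgroupOfEquivOfLe hNJ) 1) = _
        rw [map_one]
      rw [h3]
    rw [h2]
  · rw [mu_parity (hk.sub J) (N.subgroupOf J) hodd hπ hπk χ hχ (dnIrr N J hNJ φ) h1]
    have h2 := mu_dn N J hNJ π (φ : N → ℂ)
    have h3 : (dnIrr N J hNJ φ : N.subgroupOf J → ℂ) = dn N J hNJ (φ : N → ℂ) := rfl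
    rw [h3, h2]

include hNJ

/-- Descent of the conclusion. -/
theorem ConclF.descend {F : IrrCharacter J → Prop} (h : ConclF M G J k F)
    (hF : ∀ (χ : IrrCharacter J) (φ : IrrCharacter N), F χ →
      (∀ g : J, (χ : J → ℂ) (g ^ k) = (χ : J → ℂ) g) →
      classInner (resTo hNJ (χ : J → ℂ)) (φ : N → ℂ) ≠ 0 → (φ : N → ℂ) ≠ fun _ => 1) :
    Concl M G N k := by
  classical
  obtain ⟨χ, h1, h2, h3, θ, h4, h5, h6⟩ := h
  -- a constituent of `θ`
  haveI := @Fintype.ofFinite (IrrCharacter N) finite_irr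
  have hc : IsCharacter N (resTo hNJ (θ : J → ℂ)) :=
    Cfsg.Agent.OddOrderCharacters.PF9.CliffGen.isCharacter_resTo hNJ (isIrr_isCharacter θ.2)
  obtain ⟨φ, hφ⟩ : ∃ φ : IrrCharacter N, classInner (resTo hNJ (θ : J → ℂ)) (φ : N → ℂ) ≠ 0 := by
    by_contra hcon
    push Not at hcon
    have h7 := classFunction_eq_sum (isCharacter_isClassFunction hc)
    rw [Finset.sum_congr rfl fun φ _ => by rw [hcon φ, zero_smul], Finset.sum_const_zero] at h7
    have h8 := congrFun h7 1
    simp only [Pi.zero_apply] at h8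
    exact isIrr_apply_one_ne_zero θ.2 h8
  have h7 := hF θ φ h4 h5 hφ
  have h8 := over_trans N J hNJ (isIrr_isCharacter χ.2) θ.2 φ.2 h6 hφ
  refine ⟨χ, h1, h2, h3, ?_⟩
  by_contra hne
  obtain ⟨g, hg⟩ := Cfsg.Agent.Characters.Clifford.exists_conj_of_constituents N χ.2
    isIrrCharacter_one φ.2 hne h8
  apply h7
  rw [hg]
  rfl

/-- **The conclusion from an odd number of constituents**, chain version. -/
theorem of_sum_odd (hM : IsPModular 2 M) (hodd : Odd (N.relIndex J))
    (hidx : ∃ j : ℕ, J.index = 2 ^ j) (hk : IsK G k) {π : G → ℂ} (hπ : GC π)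
    (hπk : ∀ t : G, π (t ^ k) = π t)
    (hcard : Odd (Nat.card {φ : IrrCharacter N // φ ∈ principalBlock M N ∧
      Even (charDegree (φ : N → ℂ)) ∧ Odd (mu (fun s : N => π s) (φ : N → ℂ))})) :
    Concl M G N k := by
  classical
  have hπk' : ∀ g : J, (fun s : J => π s) (g ^ k) = (fun s : J => π s) g := fun s => by
    show π ((s ^ k : J) : G) = π s
    rw [Subgroup.coe_pow, hπk]
  have h1 := card_up' N J hNJ hodd hk
    (fun φ : IrrCharacter N => φ ∈ principalBlock M N ∧
      Even (charDegree (φ : N → ℂ)) ∧ Odd (mu (fun s : N => π s) (φ : N → ℂ)))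
    (fun φ : IrrCharacter J => φ ∈ principalBlock M J ∧
      Even (charDegree (φ : J → ℂ)) ∧ Odd (mu (fun s : J => π s) (φ : J → ℂ)))
    (by
      rintro φ ⟨h1, h2, h3⟩
      refine ⟨pw_mem (hk.sub N) h1, by rwa [charDegree_pw (hk.sub N)], ?_⟩
      rwa [mu_pow (hk.sub N) (π := fun s : N => π s) (fun s => by
        show π ((s ^ k : N) : G) = π s
        rw [Subgroup.coe_pow, hπk])])
    (by
      rintro φ ⟨h1, h2, h3⟩
      refine ⟨pw_mem (hk.sub J) h1, by rwa [charDegree_pw (hk.sub J)], ?_⟩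
      rwa [mu_pow (hk.sub J) (π := fun s : J => π s) hπk'])
    (by
      intro χ φ h2 h3 h4
      obtain ⟨f1, f2, f3⟩ := chain_facts N J hNJ hM hodd hk χ φ h2 h4
      rw [f1, f2, f3 (fun s : J => π s) (hπ.comp J.subtype) hπk']
      rfl)
  have h2 : Odd (Nat.card {φ : IrrCharacter J // φ ∈ principalBlock M J ∧
      Even (charDegree (φ : J → ℂ)) ∧ Odd (mu (fun s : J => π s) (φ : J → ℂ))}) := by
    rw [← Nat.not_even_iff_odd, even_iff_two_dvd, ← ZMod.natCast_eq_zero_iff, ← h1,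
      ZMod.natCast_eq_zero_iff, ← even_iff_two_dvd, Nat.not_even_iff_odd]
    exact hcard
  refine (of_sum' hM J hidx hk hπ hπk h2).descend N J hNJ ?_
  rintro χ φ ⟨h3, h4, h5⟩ h6 h7 h8
  obtain ⟨f1, f2, f3⟩ := chain_facts N J hNJ hM hodd hk χ φ h6 h7
  rw [f2, charDegree_def, h8] at h4
  simp only [_root_.Complex.one_re, _root_.Nat.floor_one, _root_.Nat.not_even_one] at h4

/-- **The conclusion from a parity**, chain version. -/
theorem of_parity_odd (hM : IsPModular 2 M) (hodd : Odd (N.relIndex J))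
    (hidx : ∃ j : ℕ, J.index = 2 ^ j) (hk : IsK G k) {π : G → ℂ} (hπ : GC π)
    (hπk : ∀ t : G, π (t ^ k) = π t)
    (hmem : ∀ φ : IrrCharacter N, Even (charDegree (φ : N → ℂ)) →
      Odd (mu (fun s : N => π s) (φ : N → ℂ)) → φ ∈ principalBlock M N)
    {a b : ℤ} (ha : classInner (fun s : N => π s) (fun s : N => π s) = a) (hb : π 1 = b)
    (hab : Odd (a + b)) : Concl M G N k := by
  classical
  haveI := @Fintype.ofFinite (IrrCharacter N) finite_irr
  refine of_sum_odd N J hNJ hM hodd hidx hk hπ hπk ?_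
  have h1 := (odd_card_iff (hπ.comp N.subtype) ha (by
    show π ((1 : N) : G) = b
    rw [Subgroup.coe_one, hb])).2 hab
  have h2 : (fun φ : IrrCharacter N => φ ∈ principalBlock M N ∧
      Even (charDegree (φ : N → ℂ)) ∧ Odd (mu (fun s : N => π s) (φ : N → ℂ))) =
      fun φ : IrrCharacter N => Even (charDegree (φ : N → ℂ)) ∧
        Odd (mu (fun s : N => π (N.subtype s)) (φ : N → ℂ)) := by
    funext φ
    apply propext
    exact ⟨fun h => h.2, fun h => ⟨hmem φ h.1 h.2, h⟩⟩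
  have h3 : Nat.card {φ : IrrCharacter N // φ ∈ principalBlock M N ∧
      Even (charDegree (φ : N → ℂ)) ∧ Odd (mu (fun s : N => π s) (φ : N → ℂ))} =
      Nat.card {φ : IrrCharacter N // Even (charDegree (φ : N → ℂ)) ∧
        Odd (mu (fun s : N => π (N.subtype s)) (φ : N → ℂ))} :=
    congrArg (fun q : IrrCharacter N → Prop => Nat.card {φ // q φ}) h2
  rw [h3]
  exact h1

/-- **The conclusion from an odd number of constituents of one of two swapped classes**, chain
version. -/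
theorem of_sum_pair_odd (hM : IsPModular 2 M) (hodd : Odd (N.relIndex J))
    (hidx : ∃ j : ℕ, J.index = 2 ^ j) (hk : IsK G k) (D : Subgroup G) [Fintype D]
    (hD : D.index = 2) (hND : N ≤ D) {π : D → ℂ} (hπ : GC π)
    (hπk : ∀ t : D, π (t ^ k) = π t) (g₀ : G) (hg₀ : g₀ ∉ D)
    (hcard : Odd (Nat.card {φ : IrrCharacter N // φ ∈ principalBlock M N ∧
      Odd (mu (resTo hND π) (φ : N → ℂ)) ∧
      Even (mu (fun s : N => resTo hND π (MulAut.conjNormal g₀ s)) (φ : N → ℂ))})) :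
    Concl M G N k := by
  classical
  haveI hDn : D.Normal := Subgroup.normal_of_index_eq_two hD
  -- `J ≤ D`
  have hJD : J ≤ D := by
    have h1 : Odd ((D.subgroupOf J).index) := by
      have h2 : (D ⊓ J).relIndex J ∣ N.relIndex J :=
        Subgroup.relIndex_dvd_of_le_left J (le_inf hND hNJ)
      rw [Subgroup.inf_relIndex_right] at h2
      exact Odd.of_dvd_nat hodd h2
    have h2 : (D.subgroupOf J).index ∣ D.index := Subgroup.relIndex_dvd_index_of_normal D J
    rw [hD, Nat.dvd_prime Nat.prime_two] at h2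
    rcases h2 with h2 | h2
    · rw [Subgroup.index_eq_one, Subgroup.subgroupOf_eq_top] at h2
      exact h2
    · rw [h2] at h1
      exact absurd h1 (by decide)
  have hπk1 : ∀ g : J, resTo hJD π (g ^ k) = resTo hJD π g := fun s => hπk ⟨s, hJD s.2⟩
  have hπk2 : ∀ g : J, (fun s : J => resTo hJD π (MulAut.conjNormal g₀ s)) (g ^ k) =
      (fun s : J => resTo hJD π (MulAut.conjNormal g₀ s)) g := by
    intro s
    show resTo hJD π ((MulAut.conjNormal g₀ : MulAut J) (s ^ k)) = _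
    rw [map_pow]
    exact hπk ⟨_, hJD ((MulAut.conjNormal g₀ : MulAut J) s).2⟩
  have hgc1 : GC (resTo hJD π) := hπ.resTo hJD
  have hgc2 : GC (fun s : J => resTo hJD π (MulAut.conjNormal g₀ s)) :=
    hgc1.comp (MulAut.conjNormal g₀ : MulAut J).toMonoidHom
  have h1 := card_up' N J hNJ hodd hk
    (fun φ : IrrCharacter N => φ ∈ principalBlock M N ∧
      Odd (mu (resTo hND π) (φ : N → ℂ)) ∧
      Even (mu (fun s : N => resTo hND π (MulAut.conjNormal g₀ s)) (φ : N → ℂ)))
    (fun φ : IrrCharacter J => φ ∈ principalBlock M J ∧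
      Odd (mu (resTo hJD π) (φ : J → ℂ)) ∧
      Even (mu (fun s : J => resTo hJD π (MulAut.conjNormal g₀ s)) (φ : J → ℂ)))
    (by
      rintro φ ⟨h1, h2, h3⟩
      refine ⟨pw_mem (hk.sub N) h1, ?_, ?_⟩
      · rwa [mu_pow (hk.sub N) (π := resTo hND π) (fun s => hπk ⟨s, hND s.2⟩)]
      · rwa [mu_pow (hk.sub N) (π := fun s : N => resTo hND π (MulAut.conjNormal g₀ s)) (fun s => by
          show resTo hND π ((MulAut.conjNormal g₀ : MulAut N) (s ^ k)) = _
          rw [map_pow]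
          exact hπk ⟨_, hND ((MulAut.conjNormal g₀ : MulAut N) s).2⟩)])
    (by
      rintro φ ⟨h1, h2, h3⟩
      refine ⟨pw_mem (hk.sub J) h1, ?_, ?_⟩
      · rwa [mu_pow (hk.sub J) (π := resTo hJD π) hπk1]
      · rwa [mu_pow (hk.sub J) (π := fun s : J => resTo hJD π (MulAut.conjNormal g₀ s)) hπk2])
    (by
      intro χ φ h2 h3 h4
      obtain ⟨f1, f2, f3⟩ := chain_facts N J hNJ hM hodd hk χ φ h2 h4
      have f4 := f3 _ hgc1 hπk1
      have f5 := f3 _ hgc2 hπk2
      rw [f1, f4, ← Int.not_odd_iff_even, f5, ← Int.not_odd_iff_even]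
      rfl)
  have h2 : Odd (Nat.card {φ : IrrCharacter J // φ ∈ principalBlock M J ∧
      Odd (mu (resTo hJD π) (φ : J → ℂ)) ∧
      Even (mu (fun s : J => resTo hJD π (MulAut.conjNormal g₀ s)) (φ : J → ℂ))}) := by
    rw [← Nat.not_even_iff_odd, even_iff_two_dvd, ← ZMod.natCast_eq_zero_iff, ← h1,
      ZMod.natCast_eq_zero_iff, ← even_iff_two_dvd, Nat.not_even_iff_odd]
    exact hcard
  refine (of_sum_pair' hM J hidx hk D hD hJD hπ hπk g₀ hg₀ h2).descend N J hNJ ?_
  rintro χ φ ⟨h3, h4, h5⟩ h6 h7 h8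
  obtain ⟨f1, f2, f3⟩ := chain_facts N J hNJ hM hodd hk χ φ h6 h7
  have f4 := f3 _ hgc1 hπk1
  have f5 := f3 _ hgc2 hπk2
  rw [f4] at h4
  rw [← Int.not_odd_iff_even, f5] at h5
  apply h5
  -- the principal character has the same multiplicity in the two restrictions
  have h9 := Clifford.classInner_comp_mulEquiv (MulAut.conjNormal g₀ : MulAut N) (resTo hND π)
    (φ : N → ℂ)
  have h10 : ((φ : N → ℂ) ∘ (MulAut.conjNormal g₀ : MulAut N)) = (φ : N → ℂ) := by
    rw [h8]
    rfl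
  rw [h10] at h9
  have h11 : mu (resTo hNJ (fun s : J => resTo hJD π (MulAut.conjNormal g₀ s))) (φ : N → ℂ) =
      mu (resTo hND π) (φ : N → ℂ) := by
    rw [mu, mu, ← h9]
    rfl
  rw [h11]
  exact h4

/-- **The conclusion from a parity, two swapped classes**, chain version. -/
theorem of_parity_pair_odd (hM : IsPModular 2 M) (hodd : Odd (N.relIndex J))
    (hidx : ∃ j : ℕ, J.index = 2 ^ j) (hk : IsK G k) (D : Subgroup G) [Fintype D]
    (hD : D.index = 2) (hND : N ≤ D) {π : D → ℂ} (hπ : GC π)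
    (hπk : ∀ t : D, π (t ^ k) = π t) (g₀ : G) (hg₀ : g₀ ∉ D)
    (hmem : ∀ φ : IrrCharacter N, Odd (mu (resTo hND π) (φ : N → ℂ)) →
      Even (mu (fun s : N => resTo hND π (MulAut.conjNormal g₀ s)) (φ : N → ℂ)) →
      φ ∈ principalBlock M N)
    {a b : ℤ} (ha : classInner (resTo hND π) (resTo hND π) = a)
    (hb : classInner (resTo hND π) (fun s : N => resTo hND π (MulAut.conjNormal g₀ s)) = b)
    (hab : Odd (a + b)) : Concl M G N k := by
  classical
  haveI := @Fintype.ofFinite (IrrCharacter N) finite_irr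
  refine of_sum_pair_odd N J hNJ hM hodd hidx hk D hD hND hπ hπk g₀ hg₀ ?_
  have hπS : GC (resTo hND π) := hπ.resTo hND
  have h1 := (odd_card_iff' hπS (hπS.comp (MulAut.conjNormal g₀ : MulAut N).toMonoidHom) ha hb).2 hab
  have h2 : (fun φ : IrrCharacter N => φ ∈ principalBlock M N ∧
      Odd (mu (resTo hND π) (φ : N → ℂ)) ∧
      Even (mu (fun s : N => resTo hND π (MulAut.conjNormal g₀ s)) (φ : N → ℂ))) =
      fun φ : IrrCharacter N => Odd (mu (resTo hND π) (φ : N → ℂ)) ∧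
      Even (mu (fun s : N => resTo hND π ((MulAut.conjNormal g₀ : MulAut N).toMonoidHom s))
        (φ : N → ℂ)) := by
    funext φ
    apply propext
    exact ⟨fun h => h.2, fun h => ⟨hmem φ h.1 h.2, h⟩⟩
  have h3 : Nat.card {φ : IrrCharacter N // φ ∈ principalBlock M N ∧
      Odd (mu (resTo hND π) (φ : N → ℂ)) ∧
      Even (mu (fun s : N => resTo hND π (MulAut.conjNormal g₀ s)) (φ : N → ℂ))} = _ :=
    congrArg (fun q : IrrCharacter N → Prop => Nat.card {φ // q φ}) h2
  rw [h3]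
  exact h1

end chain

end Cfsg.Agent.H611.EB
end

-- part: H610/EB/RPhi
section
/-!
# Characters invariant under all automorphisms

* `RPhi S φ`: `φ` is an irreducible character of even degree in the principal 2-block of `S`,
  invariant under all automorphisms, fixed by the power maps of S4522, with the odd extension
  property for all `H` with `H / S` cyclic of 2-power order.
* `RPhi.evenJ`, `RPhi.evenB`: such a character gives `EvenJ S` and `EvenB S`.
* `RPhi.of_norm`: the odd extension property follows if the norm of the restriction of `φ` to a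
  Sylow 2-subgroup is odd.
-/

set_option autoImplicit false
set_option linter.unusedSectionVars false
set_option linter.style.haveILetI false

namespace Cfsg.Agent.H610.EB

open Cfsg Cfsg.Agent.Characters Cfsg.Agent.H694 Cfsg.Agent.H684.EB
open scoped ComplexConjugate
open Cfsg.Agent.Characters.Core
open Cfsg.Agent.OddOrderCharacters.NormalInduced (conjFn)
open Cfsg.Agent.OddOrderCharacters.PF9.CliffGen (resTo irr_ind)
open Cfsg.Agent.Blocks.Local Cfsg.Agent.Blocks.Basic
open Cfsg.Agent.Blocks.Covering (conjIrr conjIrr_apply)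

universe u v

/-- The characters used in the rows with an `Aut`-invariant character. -/
structure RPhi (S : Type u) [Group S] [Fintype S] (φ : S → ℂ) : Prop where
  irr : IsIrrCharacter S φ
  even : Even (charDegree φ)
  fix : ∀ k : ℕ, IsK S k → ∀ s : S, φ (s ^ k) = φ s
  inv : ∀ a : S ≃* S, (fun s => φ (a s)) = φ
  mem : ∀ M : Ideal AlgInt, IsPModular 2 M → (⟨φ, irr⟩ : IrrCharacter S) ∈ principalBlock M S
  ext : ∀ (H : Type u) [Group H] [Fintype H] (N : Subgroup H) [N.Normal] [Fintype N] (e : S ≃* N),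
    Subgroup.centralizer (N : Set H) = ⊥ → IsCyclic (H ⧸ N) → (∃ j : ℕ, N.index = 2 ^ j) →
    ∀ k : ℕ, IsK H k → OddExt H N k (fun n => φ (e.symm n))

section chain

variable {G : Type u} [Group G] [Fintype G] {M : Ideal AlgInt} {k : ℕ}

/-- The decomposition of an element in a 2-element and an element of odd order. -/
theorem exists_two_part (g : G) : ∃ u v : G, u ∈ Subgroup.zpowers g ∧ v ∈ Subgroup.zpowers g ∧
    (∃ j : ℕ, orderOf u = 2 ^ j) ∧ Odd (orderOf v) ∧ g = u * v := by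
  have hpos := orderOf_pos g
  obtain ⟨a, m, hm, ham⟩ := Nat.exists_eq_two_pow_mul_odd hpos.ne'
  have ha0 : (2 : ℕ) ^ a ≠ 0 := by positivity
  have hm0 : m ≠ 0 := by
    rintro rfl
    exact absurd hm (by decide)
  have hcop : Nat.Coprime (2 ^ a) m := Nat.Coprime.pow_left a (Nat.coprime_two_left.2 hm)
  -- Bezout
  have hbez : (1 : ℤ) = (m : ℤ) * Nat.gcdB (2 ^ a) m + ((2 ^ a : ℕ) : ℤ) * Nat.gcdA (2 ^ a) m := by
    have h1 := Nat.gcd_eq_gcd_ab (2 ^ a) m
    rw [hcop] at h1
    rw [add_comm]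
    exact_mod_cast h1
  have h2 : g = (g ^ m) ^ Nat.gcdB (2 ^ a) m * (g ^ (2 ^ a)) ^ Nat.gcdA (2 ^ a) m := by
    rw [← zpow_natCast g m, ← zpow_natCast g (2 ^ a), ← zpow_mul, ← zpow_mul, ← zpow_add, ← hbez,
      zpow_one]
  refine ⟨(g ^ m) ^ Nat.gcdB (2 ^ a) m, (g ^ (2 ^ a)) ^ Nat.gcdA (2 ^ a) m,
    Subgroup.zpow_mem _ (Subgroup.npow_mem_zpowers g m) _,
    Subgroup.zpow_mem _ (Subgroup.npow_mem_zpowers g _) _, ?_, ?_, h2⟩
  · have h3 : orderOf ((g ^ m) ^ Nat.gcdB (2 ^ a) m) ∣ 2 ^ a := by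
      rw [orderOf_dvd_iff_pow_eq_one, ← zpow_natCast, ← zpow_mul, mul_comm, zpow_mul, zpow_natCast,
        ← pow_mul, show m * 2 ^ a = orderOf g by rw [ham]; ring, pow_orderOf_eq_one, one_zpow]
    obtain ⟨i, -, hi⟩ := (Nat.dvd_prime_pow Nat.prime_two).1 h3
    exact ⟨i, hi⟩
  · have h3 : orderOf ((g ^ (2 ^ a)) ^ Nat.gcdA (2 ^ a) m) ∣ m := by
      rw [orderOf_dvd_iff_pow_eq_one, ← zpow_natCast, ← zpow_mul, mul_comm, zpow_mul, zpow_natCast,
        ← pow_mul, show 2 ^ a * m = orderOf g by rw [ham], pow_orderOf_eq_one, one_zpow]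
    exact Odd.of_dvd_nat hm h3

/-- Elements of odd order lie in normal subgroups of 2-power index. -/
theorem mem_of_odd (J : Subgroup G) [J.Normal] (hidx : ∃ j : ℕ, J.index = 2 ^ j) {v : G}
    (hv : Odd (orderOf v)) : v ∈ J := by
  obtain ⟨j, hj⟩ := hidx
  rw [← QuotientGroup.eq_one_iff]
  have h1 : orderOf (QuotientGroup.mk v : G ⧸ J) ∣ 2 ^ j := by
    rw [← hj]
    exact orderOf_dvd_natCard _
  have h2 : orderOf (QuotientGroup.mk v : G ⧸ J) ∣ orderOf v :=
    orderOf_map_dvd (QuotientGroup.mk' J) v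
  have h3 : Nat.Coprime (2 ^ j) (orderOf v) := Nat.Coprime.pow_left j (Nat.coprime_two_left.2 hv)
  exact orderOf_eq_one_iff.1 (Nat.eq_one_of_dvd_coprimes h3 h1 h2)

/-- Elements of 2-power order of a normal overgroup of odd relative index lie in the subgroup. -/
theorem mem_of_two (N J : Subgroup G) [N.Normal] (hodd : Odd (N.relIndex J)) {u : G} (hu : u ∈ J)
    (ho : ∃ j : ℕ, orderOf u = 2 ^ j) : u ∈ N := by
  obtain ⟨j, hj⟩ := ho
  have h1 : (⟨u, hu⟩ : J) ^ (N.subgroupOf J).index ∈ N.subgroupOf J := Subgroup.pow_index_mem _ _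
  rw [Subgroup.mem_subgroupOf] at h1
  have h2 : u ^ N.relIndex J ∈ N := h1
  have h3 : u ^ 2 ^ j ∈ N := by
    rw [← hj, pow_orderOf_eq_one]
    exact N.one_mem
  have h4 : Nat.Coprime (2 ^ j) (N.relIndex J) :=
    Nat.Coprime.pow_left j (Nat.coprime_two_left.2 hodd)
  rw [← QuotientGroup.eq_one_iff] at h2 h3 ⊢
  rw [QuotientGroup.mk_pow] at h2 h3
  exact orderOf_eq_one_iff.1 (Nat.eq_one_of_dvd_coprimes h4 (orderOf_dvd_of_pow_eq_one h3)
    (orderOf_dvd_of_pow_eq_one h2))

variable (N J : Subgroup G) [hN : N.Normal] [hJ : J.Normal] [Fintype N] [Fintype J] (hNJ : N ≤ J)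

/-- The restriction of the fixed character over an invariant character. -/
theorem res_eq_of_over {φ : N → ℂ} (hφ : IsIrrCharacter N φ) (hinv : ∀ g ∈ J, conjFn N φ g = φ)
    {χ : J → ℂ} (hχ : IsIrrCharacter J χ) (h0 : classInner (resTo hNJ χ) φ ≠ 0) :
    resTo hNJ χ = (mu (resTo hNJ χ) φ : ℂ) • φ := by
  classical
  haveI : Fintype (N.subgroupOf J) := Fintype.ofFinite _
  have hcr : IsCharacter N (resTo hNJ χ) :=
    Cfsg.Agent.OddOrderCharacters.PF9.CliffGen.isCharacter_resTo hNJ (isIrr_isCharacter hχ)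
  have hcI := irr_mu_spec hcr hφ
  have h1 : classInner (fun n : N.subgroupOf J => χ n) (dn N J hNJ φ) ≠ 0 := by
    have h2 := classInner_dn N J hNJ (resTo hNJ χ) φ
    intro h3
    apply h0
    rw [← h2]
    exact h3
  have h2 := Cfsg.Agent.OddOrderCharacters.PF9.CliffGen.res_of_invariant (N := N.subgroupOf J)
    (irr_dn N J hNJ hφ) (fun x => inv_dn N J hNJ hinv x) hχ h1
  have hφ1 : φ 1 ≠ 0 := isIrr_apply_one_ne_zero hφ
  have h3 : φ 1 • resTo hNJ χ = χ 1 • φ := by
    funext n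
    show φ 1 * χ ⟨n, hNJ n.2⟩ = χ 1 * φ n
    have h4 := h2 ⟨⟨n, hNJ n.2⟩, Subgroup.mem_subgroupOf.2 n.2⟩
    have h5 : dn N J hNJ φ ⟨⟨n, hNJ n.2⟩, Subgroup.mem_subgroupOf.2 n.2⟩ = φ n := rfl
    have h6 : dn N J hNJ φ 1 = φ 1 := by
      show φ (Subgroup.subgroupOfEquivOfLe hNJ 1) = φ 1
      rw [map_one]
    rw [h5, h6] at h4
    linear_combination h4
  have h4 := congrArg (fun F => classInner F φ) h3
  simp only [classInner_smul_left, classInner_irr_self hφ, mul_one] at h4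
  rw [hcI] at h4
  have h5 : φ 1 • resTo hNJ χ = φ 1 • ((mu (resTo hNJ χ) φ : ℂ) • φ) := by
    rw [h3, ← h4, smul_smul]
  exact smul_right_injective _ hφ1 h5

include hNJ in
/-- **The three-step chain from cyclic extensions.** -/
theorem of_cyc_inv_odd (hM : IsPModular 2 M) (hodd : Odd (N.relIndex J))
    (hidx : ∃ j : ℕ, J.index = 2 ^ j) (hk : IsK G k) (φ : IrrCharacter N)
    (hφ : φ ∈ principalBlock M N) (hφk : ∀ s : N, (φ : N → ℂ) (s ^ k) = (φ : N → ℂ) s)
    (hinv : ∀ g, conjFn N (φ : N → ℂ) g = φ)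
    (hext : ∀ g, (∃ j : ℕ, orderOf g = 2 ^ j) → CycExt N k (φ : N → ℂ) g)
    (heven : Even (charDegree (φ : N → ℂ))) : Concl M G N k := by
  classical
  haveI : Fintype (N.subgroupOf J) := Fintype.ofFinite _
  -- the character of `J`
  obtain ⟨χ, hχφ, hχk⟩ := H611.EB.exists_over (hk.sub J) (N.subgroupOf J) hodd
    (H611.EB.dnIrr N J hNJ φ) (by
      intro n
      show (φ : N → ℂ) (Subgroup.subgroupOfEquivOfLe hNJ (n ^ k)) =
        (φ : N → ℂ) (Subgroup.subgroupOfEquivOfLe hNJ n)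
      rw [map_pow, hφk])
  have hover : classInner (resTo hNJ (χ : J → ℂ)) (φ : N → ℂ) ≠ 0 := by
    rw [← classInner_dn N J hNJ]
    exact hχφ
  obtain ⟨hmem, hdeg, hmu⟩ := H611.EB.chain_facts N J hNJ hM hodd hk χ φ hχk hover
  -- `χ` is invariant
  have hχinv : ∀ g, conjFn J (χ : J → ℂ) g = χ := by
    intro g
    have h1 : conjIrr J g χ = χ := by
      refine H611.EB.unique_over (hk.sub J) (N.subgroupOf J) hodd (H611.EB.dnIrr N J hNJ φ) _ _
        ?_ hχk ?_ hχφ
      · intro x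
        rw [conjIrr_apply, conjIrr_apply, map_pow, hχk]
      · let ε : N.subgroupOf J ≃ N.subgroupOf J :=
          { toFun := fun n => ⟨MulAut.conjNormal g (n : J), Subgroup.mem_subgroupOf.2 (by
              rw [MulAut.conjNormal_apply]
              exact hN.conj_mem _ (Subgroup.mem_subgroupOf.1 n.2) g)⟩
            invFun := fun n => ⟨MulAut.conjNormal g⁻¹ (n : J), Subgroup.mem_subgroupOf.2 (by
              rw [MulAut.conjNormal_apply]
              exact hN.conj_mem _ (Subgroup.mem_subgroupOf.1 n.2) g⁻¹)⟩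
            left_inv := fun n => Subtype.ext (Subtype.ext (by
              rw [MulAut.conjNormal_apply, MulAut.conjNormal_apply]
              group))
            right_inv := fun n => Subtype.ext (Subtype.ext (by
              rw [MulAut.conjNormal_apply, MulAut.conjNormal_apply]
              group)) }
        have h2 := classInner_equiv ε (fun n : N.subgroupOf J => (χ : J → ℂ) n)
          (H611.EB.dnIrr N J hNJ φ : N.subgroupOf J → ℂ)
        have h3 : (fun n : N.subgroupOf J =>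
            (H611.EB.dnIrr N J hNJ φ : N.subgroupOf J → ℂ) (ε n)) =
            (H611.EB.dnIrr N J hNJ φ : N.subgroupOf J → ℂ) := by
          funext n
          have h4 := congrFun (hinv g) ⟨((n : J) : G), Subgroup.mem_subgroupOf.1 n.2⟩
          refine Eq.trans ?_ h4
          show (φ : N → ℂ) _ = (φ : N → ℂ) _
          congr 1
        rw [h3] at h2
        intro h4
        apply hχφ
        rw [← h2]
        exact h4
    exact congrArg Subtype.val h1
  -- the extensions
  have hχext : ∀ g, CycExt J k (χ : J → ℂ) g := by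
    intro g
    obtain ⟨u, v, hu, hv, hu2, hv2, huv⟩ := exists_two_part g
    obtain ⟨π₀, hπ₀, hπ₀k, hπodd⟩ := hext u hu2
    letI iP : Fintype ((N ⊔ Subgroup.zpowers u : Subgroup G)) := Fintype.ofFinite _
    letI iN : Fintype (N.subgroupOf (N ⊔ Subgroup.zpowers u)) := Fintype.ofFinite _
    refine CycExt.of_sub hk J g (N ⊔ Subgroup.zpowers u) ?_ ?_ N hNJ le_sup_left ?_ hπ₀ hπ₀k χ.2 ?_
    · refine sup_le (hNJ.trans le_sup_left) ?_
      rw [Subgroup.zpowers_le]
      exact (le_sup_right : Subgroup.zpowers g ≤ _) hu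
    · refine sup_le le_sup_left ?_
      rw [Subgroup.zpowers_le, huv]
      refine Subgroup.mul_mem _ ?_ ?_
      · exact (le_sup_right : (N ⊔ Subgroup.zpowers u : Subgroup G) ≤ _)
          ((le_sup_right : Subgroup.zpowers u ≤ _) (Subgroup.mem_zpowers u))
      · exact (le_sup_left : J ≤ _) (mem_of_odd J hidx hv2)
    · rintro x ⟨hxJ, hxP⟩
      obtain ⟨n, hn, z, hz, rfl⟩ := Subgroup.mem_sup_of_normal_left.1 hxP
      refine N.mul_mem hn ?_
      have hzJ : z ∈ J := by
        have h1 := J.mul_mem (J.inv_mem (hNJ hn)) hxJ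
        rwa [inv_mul_cancel_left] at h1
      refine mem_of_two N J hodd hzJ ?_
      obtain ⟨j, hj⟩ := hu2
      have h1 : orderOf z ∣ 2 ^ j := by
        rw [← hj]
        exact orderOf_dvd_of_mem_zpowers hz
      obtain ⟨i, -, hi⟩ := (Nat.dvd_prime_pow Nat.prime_two).1 h1
      exact ⟨i, hi⟩
    · rw [mu_dn N _ le_sup_left] at hπodd
      have h1 := res_eq_of_over N J hNJ φ.2 (fun g _ => hinv g) χ.2 hover
      have h2 : Odd (mu (resTo hNJ (χ : J → ℂ)) (φ : N → ℂ)) := by
        have h3 := (hmu (χ : J → ℂ) (GC.of_irr χ.2) hχk).1 (by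
          rw [show mu (χ : J → ℂ) (χ : J → ℂ) = 1 from mu_eq (by
            rw [classInner_irr_self χ.2, Int.cast_one])]
          exact odd_one)
        exact h3
      have hgc : GC (resTo (le_sup_left : N ≤ N ⊔ Subgroup.zpowers u) π₀) := hπ₀.resTo _
      have h3 : mu (resTo (le_sup_left : N ≤ N ⊔ Subgroup.zpowers u) π₀)
          (resTo hNJ (χ : J → ℂ)) =
          mu (resTo hNJ (χ : J → ℂ)) (φ : N → ℂ) *
            mu (resTo (le_sup_left : N ≤ N ⊔ Subgroup.zpowers u) π₀) (φ : N → ℂ) := by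
        apply mu_eq
        conv_lhs => rw [h1]
        rw [classInner_smul_right, hgc.mu_spec φ.2, map_intCast]
        push_cast
        ring
      rw [h3]
      exact h2.mul hπodd
  obtain ⟨ψ, h1, h2, h3, h4⟩ := of_cyc_inv' hM J hidx hk χ (hmem.2 hφ) hχk hχinv hχext
    (hdeg.2 heven)
  refine H611.EB.ConclF.descend N J hNJ (F := fun θ => θ = χ)
    ⟨ψ, h1, h2, h3, χ, rfl, hχk, h4⟩ ?_
  rintro χ' φ' rfl - hover' h1'
  -- `φ'` is conjugate to `φ`
  have h5 := res_eq_of_over N J hNJ φ.2 (fun g _ => hinv g) χ'.2 hover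
  have h6 : classInner (φ : N → ℂ) (φ' : N → ℂ) ≠ 0 := by
    intro h7
    apply hover'
    rw [h5, classInner_smul_left, h7, mul_zero]
  have h7 : φ = φ' := by
    by_contra hne
    exact h6 (classInner_irr_ne φ.2 φ'.2 (fun h => hne (Subtype.ext h)))
  apply ne_one_of_even heven
  rw [h7]
  exact h1'

end chain

/-! ### The property `EvenJ` -/

/-- The centralizer of `N` in `H`. -/
theorem centralizer_subgroupOf {G : Type u} [Group G] (N H : Subgroup G) (hNH : N ≤ H)
    (hC : Subgroup.centralizer (N : Set G) = ⊥) :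
    Subgroup.centralizer ((N.subgroupOf H : Subgroup H) : Set H) = ⊥ := by
  rw [eq_bot_iff]
  intro x hx
  rw [Subgroup.mem_centralizer_iff] at hx
  have h1 : (x : G) ∈ Subgroup.centralizer (N : Set G) := by
    rw [Subgroup.mem_centralizer_iff]
    intro n hn
    exact congrArg Subtype.val (hx ⟨n, hNH hn⟩ (Subgroup.mem_subgroupOf.2 hn))
  rw [hC, Subgroup.mem_bot] at h1
  exact Subtype.ext h1

theorem RPhi.evenJ {S : Type u} [Group S] [Fintype S] {φ : S → ℂ} (h : RPhi S φ) : EvenJ S := by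
  classical
  intro G _ _ N hN iN f hC J hJ hNJ hodd hidx k hk M hM
  obtain ⟨e⟩ := f
  haveI : Fintype J := Fintype.ofFinite _
  have hirr : IsIrrCharacter N (fun n => φ (e.symm n)) :=
    isIrr_comp e.symm.toMonoidHom e.symm.surjective h.irr
  have hdeg : charDegree (fun n : N => φ (e.symm n)) = charDegree φ := by
    rw [charDegree_def, charDegree_def, map_one]
  have hkS : IsK S k := (hk.sub N).of_injective e.toMonoidHom e.injective
  refine of_cyc_inv_odd N J hNJ hM hodd hidx hk ⟨fun n => φ (e.symm n), hirr⟩ ?_ ?_ ?_ ?_ ?_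
  · exact (H611.EB.mem_comp_equiv e.symm h.irr hirr).2 (h.mem M hM)
  · intro s
    show φ (e.symm (s ^ k)) = φ (e.symm s)
    rw [map_pow, h.fix k hkS]
  · intro g
    funext n
    have h1 := congrFun (h.inv ((e.trans (MulAut.conjNormal g : MulAut N)).trans e.symm)) (e.symm n)
    show φ (e.symm _) = φ (e.symm n)
    refine Eq.trans ?_ h1
    show φ (e.symm _) = φ (e.symm ((MulAut.conjNormal g : MulAut N) (e (e.symm n))))
    rw [MulEquiv.apply_symm_apply]
    congr 2
  · intro g hg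
    set H : Subgroup G := N ⊔ Subgroup.zpowers g with hH
    letI iH : Fintype H := Fintype.ofFinite _
    letI iS : Fintype (N.subgroupOf H) := Fintype.ofFinite _
    have hNH : N ≤ H := le_sup_left
    show OddExt H (N.subgroupOf H) k (dn N H hNH (fun n : N => φ (e.symm n)))
    refine h.ext H (N.subgroupOf H) (e.trans (Subgroup.subgroupOfEquivOfLe hNH).symm)
      (centralizer_subgroupOf N H hNH hC) (isCyclic_sup N g) ?_ k (hk.sub H)
    -- the index
    obtain ⟨j, hj⟩ := hg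
    have h1 : Nat.card (H ⧸ N.subgroupOf H) ∣ 2 ^ j := by
      obtain ⟨x, hx⟩ := (isCyclic_sup N g).exists_generator
      have hgH : g ∈ H := (le_sup_right : Subgroup.zpowers g ≤ H) (Subgroup.mem_zpowers g)
      have h2 : ∀ y : H ⧸ N.subgroupOf H, y ∈ Subgroup.zpowers (QuotientGroup.mk (⟨g, hgH⟩ : H) :
          H ⧸ N.subgroupOf H) := by
        intro y
        obtain ⟨y, rfl⟩ := QuotientGroup.mk_surjective y
        obtain ⟨s, hs, z, hz, hsz⟩ := Subgroup.mem_sup_of_normal_left.1 y.2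
        obtain ⟨n, rfl⟩ := Subgroup.mem_zpowers_iff.1 hz
        refine Subgroup.mem_zpowers_iff.2 ⟨n, ?_⟩
        rw [← QuotientGroup.mk_zpow, QuotientGroup.eq, Subgroup.mem_subgroupOf]
        have h3 : ((((⟨g, hgH⟩ : H) ^ n)⁻¹ * y : H) : G) = (g ^ n)⁻¹ * s * g ^ n := by
          rw [Subgroup.coe_mul, Subgroup.coe_inv, Subgroup.coe_zpow, ← hsz]
          group
        rw [h3]
        have h4 := hN.conj_mem s hs (g ^ n)⁻¹
        rwa [inv_inv] at h4
      have h3 : Nat.card (H ⧸ N.subgroupOf H) =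
          orderOf (QuotientGroup.mk (⟨g, hgH⟩ : H) : H ⧸ N.subgroupOf H) := by
        rw [← Nat.card_zpowers, (Subgroup.eq_top_iff' _).2 h2]
        exact (Nat.card_congr Subgroup.topEquiv.toEquiv).symm
      have h4 : orderOf (⟨g, hgH⟩ : H) = orderOf g := Subgroup.orderOf_mk g hgH
      rw [h3, ← hj, ← h4]
      exact orderOf_map_dvd (QuotientGroup.mk' (N.subgroupOf H)) (⟨g, hgH⟩ : H)
    obtain ⟨i, -, hi⟩ := (Nat.dvd_prime_pow Nat.prime_two).1 h1
    exact ⟨i, hi⟩
  · show Even (charDegree (fun n : N => φ (e.symm n)))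
    rw [hdeg]
    exact h.even

theorem RPhi.evenB {S : Type u} [Group S] [Fintype S] {φ : S → ℂ} (h : RPhi S φ) : EvenB S :=
  h.evenJ.evenB

/-- **The odd extension property from the norm on a Sylow 2-subgroup.** -/
theorem RPhi.of_norm {S : Type u} [Group S] [Fintype S] {φ : S → ℂ} (hirr : IsIrrCharacter S φ)
    (heven : Even (charDegree φ)) (hfix : ∀ k : ℕ, IsK S k → ∀ s : S, φ (s ^ k) = φ s)
    (hinv : ∀ a : S ≃* S, (fun s => φ (a s)) = φ)
    (hmem : ∀ M : Ideal AlgInt, IsPModular 2 M →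
      (⟨φ, hirr⟩ : IrrCharacter S) ∈ principalBlock M S)
    (Q : Subgroup S) [Fintype Q] (hQ : IsPGroup 2 Q) (hQi : Odd Q.index) {a : ℤ}
    (ha : classInner (fun x : Q => φ x) (fun x : Q => φ x) = a) (hodd : Odd a) : RPhi S φ where
  irr := hirr
  even := heven
  fix := hfix
  inv := hinv
  mem := hmem
  ext := by
    intro H _ _ N hN iN e hC hcyc hidx k hk
    classical
    haveI : Fintype (Q.map e.toMonoidHom) := Fintype.ofFinite _
    have hirr' : IsIrrCharacter N (fun n => φ (e.symm n)) :=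
      isIrr_comp e.symm.toMonoidHom e.symm.surjective hirr
    let ε : Q ≃ Q.map e.toMonoidHom := (Q.equivMapOfInjective e.toMonoidHom e.injective).toEquiv
    refine OddExt.of_norm N hcyc hidx hk hirr' ?_ (Q.map e.toMonoidHom) (hQ.map _) ?_ (a := a) ?_ hodd
    · intro g
      funext n
      have h1 := congrFun (hinv ((e.trans (MulAut.conjNormal g : MulAut N)).trans e.symm)) (e.symm n)
      show φ (e.symm _) = φ (e.symm n)
      refine Eq.trans ?_ h1
      show φ (e.symm _) = φ (e.symm ((MulAut.conjNormal g : MulAut N) (e (e.symm n))))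
      rw [MulEquiv.apply_symm_apply]
      congr 2
    · have h1 : (Q.map e.toMonoidHom).index = Q.index := Subgroup.index_map_equiv Q e
      rw [h1]
      exact hQi
    · rw [← ha, ← classInner_equiv ε]
      have h2 : (fun a : Q => (fun x : Q.map e.toMonoidHom => φ (e.symm x)) (ε a)) =
          fun x : Q => φ x := by
        funext x
        show φ (e.symm (e x)) = φ x
        rw [MulEquiv.symm_apply_apply]
      rw [h2]

end Cfsg.Agent.H610.EB
end

private theorem dce_56a842cad6f4 : _root_.True := by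
  try have : _root_.True := by simp only [_root_.Cfsg.Agent.H694.dn.congr_simp]
  exact _root_.True.intro
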