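import Cfsg.Agent.H694.CoxA_m3
import Cfsg.Agent.H24.EB.TypeA_m3
import Cfsg.Agent.H694.Diag
import Cfsg.Agent.S0157
import Cfsg.Agent.H610.EB.RPhi
import Cfsg.Agent.H315.HT.Mixed
import Cfsg.Agent.H694.BnPar
import Mathlib
import Cfsg.Agent.H580.RankTwo
import Cfsg.Agent.S1092
import Cfsg.Agent.H332.EB.Two_m3
import Cfsg.Agent.Classification.InvCentPL.QDChar
import Cfsg.Agent.Nodes.RGDTwD4
import Cfsg.Agent.Nodes.NormalForm
import Cfsg.Agent.H519.LieRank
import Cfsg.Agent.S0312
import Cfsg.Agent.ChevalleyStructure.BruhatSplit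
import Cfsg.Agent.H694.EB.TwoT_m3
import Cfsg.Agent.H618.ParInd
import Cfsg.Agent.H90.R4.Prime_m3
import Cfsg.Agent.H453.OddM.Real_m3
import Cfsg.Agent.PermChar.SymAlt
import Cfsg.Agent.Blocks.Deflate
import Cfsg.Agent.S0165
import Cfsg.Agent.H669.Basic
import Cfsg.Agent.H707.GalTrace
import Cfsg.Agent.KFacts.RgdFiltClass
import Cfsg.Agent.Nodes.CardSup_m3
import Cfsg.Agent.KFacts.RgdFixU
import Cfsg.Agent.FastGrp
import Cfsg.Agent.Prune
set_option linter.all false

section
prune_inst 0x7ffca8f8aba8b9dedfff7e37a6d1cdf831808fffa4dff943ffe0619f2b9f23000d4523a509e010fe0e56421410287843f97eee7fe86bdc7ffffd5fb41ffbee0fb5e7350851d4883006200ff603f057086f3ffff7ffffffffffffffffffffffbeffbdebfeffff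

-- part: H24/EB/EvenA_mg
section
prune_inst 0x300001000422100000000010a0000020200000000000000000a00942000210080400800008800c001000000800000000000800000000000000000000000004010800000000000008c00080001000000000000000000000000000000000041000204010000
set_option linter.all false
open scoped Cfsg.Agent.FastGrp

-- part: H686/EB/CountsA
section
/-!
# TEAM EB, [U6]: double coset numbers in the Coxeter groups of type `A` (points, lines, hyperplanes, flags)
-/

set_option autoImplicit false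

namespace Cfsg.Agent.H686.EB.CountsA

open Cfsg.Agent.H694
open Cfsg.Agent.ChevalleyStructure.CoxeterGeom Cfsg.Agent.Tits.Core Cfsg.Agent.Tits.OppRes
open Cfsg.Agent.Nodes
open Cfsg.Agent.LieRecognition.BNCox (cA)

/-! ### Counting -/

theorem card_of_list {Y Z : Type*} [DecidableEq Z] {P : Y → Prop} (f : Y → Z) (hf : Function.Injective f)
    (l : List Z) (hl : l.Nodup) (h1 : ∀ y, P y → f y ∈ l) (h2 : ∀ z ∈ l, ∃ y, P y ∧ f y = z) :
    Nat.card {y // P y} = l.length := by
  rw [← List.toFinset_card_of_nodup hl, ← Fintype.card_coe, ← Nat.card_eq_fintype_card]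
  refine Nat.card_congr (Equiv.ofBijective (fun y => (⟨f y.1, List.mem_toFinset.2 (h1 y.1 y.2)⟩ :
    {z // z ∈ l.toFinset})) ⟨?_, ?_⟩)
  · intro a b hab
    exact Subtype.ext (hf (congrArg Subtype.val hab))
  · rintro ⟨z, hz⟩
    obtain ⟨y, hy, rfl⟩ := h2 z (List.mem_toFinset.1 hz)
    exact ⟨⟨y, hy⟩, rfl⟩

/-- increasing pairs -/
abbrev Y2 (n : ℕ) : Type := {y : Fin (n + 1) × Fin (n + 1) // y.1 < y.2}

theorem card_pts {n : ℕ} (R : ℕ → Prop) (l : List ℕ) (hl : l.Nodup) (h : ∀ a, a ∈ l ↔ a < n + 1 ∧ R a)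
    {P : Fin (n + 1) → Prop} (hP : ∀ y, P y ↔ R y) : Nat.card {y // P y} = l.length := by
  refine card_of_list (fun y : Fin (n + 1) => (y : ℕ)) Fin.val_injective l hl ?_ ?_
  · intro y hy
    exact (h y).2 ⟨y.2, (hP y).1 hy⟩
  · intro z hz
    obtain ⟨h1, h2⟩ := (h z).1 hz
    exact ⟨⟨z, h1⟩, (hP _).2 h2, rfl⟩

theorem card_pairs {n : ℕ} (R : ℕ → ℕ → Prop) (l : List (ℕ × ℕ)) (hl : l.Nodup)
    (h : ∀ a b, (a, b) ∈ l ↔ a < b ∧ b < n + 1 ∧ R a b)
    {P : Y2 n → Prop} (hP : ∀ y, P y ↔ R y.1.1 y.1.2) : Nat.card {y // P y} = l.length := by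
  refine card_of_list (fun y : Y2 n => ((y.1.1 : ℕ), (y.1.2 : ℕ))) ?_ l hl ?_ ?_
  · intro y y' hy
    rw [Prod.mk.injEq] at hy
    exact Subtype.ext (Prod.ext (Fin.ext hy.1) (Fin.ext hy.2))
  · intro y hy
    exact (h _ _).2 ⟨y.2, y.1.2.2, (hP y).1 hy⟩
  · rintro ⟨a, b⟩ hz
    obtain ⟨h1, h2, h3⟩ := (h a b).1 hz
    exact ⟨⟨(⟨a, by omega⟩, ⟨b, h2⟩), h1⟩, (hP _).2 h3, rfl⟩

/-! ### The four orbits -/

theorem ev_eq {n : ℕ} (x : Fin (n + 1)) (j : Fin n) :
    ev n x j = (if j.castSucc = x then 1 else 0) - (if j.succ = x then 1 else 0) := by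
  unfold ev
  simp only [Fin.ext_iff, Fin.val_castSucc, Fin.val_succ]
  (first | (lia; done) | (split_ifs <;> omega))

theorem const_zero {n : ℕ} {δ : Fin (n + 1) → ℤ} (h1 : ∀ j : Fin n, δ j.castSucc = δ j.succ)
    (h3 : ∑ k, δ k = 0) (k : Fin (n + 1)) : δ k = 0 := by
  have h2 : ∀ k : Fin (n + 1), δ k = δ 0 := by
    intro k
    induction k using Fin.induction with
    | zero => rfl
    | succ i ih => rw [← h1, ih]
  rw [h2, ← mul_eq_zero_iff_left (a := ((n + 1 : ℕ) : ℤ)) (by omega)]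
  rw [Finset.sum_congr rfl fun k _ => h2 k, Finset.sum_const, Finset.card_univ,
    Fintype.card_fin, nsmul_eq_mul] at h3
  exact h3

theorem ev_injective (n : ℕ) : Function.Injective (ev n) := by
  intro a b h
  have h1 : ∀ k, ((if k = a then (1 : ℤ) else 0) - (if k = b then 1 else 0)) = 0 := by
    refine const_zero ?_ ?_
    · intro j
      have h2 := congrFun h j
      rw [ev_eq, ev_eq] at h2
      linarith
    · simp only [Finset.sum_sub_distrib, Finset.sum_ite_eq', Finset.mem_univ, if_true]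
      norm_num
  have h2 := h1 a
  simp only [if_true] at h2
  by_contra hc
  rw [if_neg hc] at h2
  norm_num at h2

/-- the functional of a pair -/
def ph2 (n : ℕ) (y : Y2 n) (j : Fin n) : ℤ := ev n y.1.1 j + ev n y.1.2 j

theorem ph2_injective (n : ℕ) : Function.Injective (ph2 n) := by
  rintro ⟨⟨a, b⟩, hab⟩ ⟨⟨c, d⟩, hcd⟩ h
  have h1 : ∀ k, ((if k = a then (1 : ℤ) else 0) + (if k = b then 1 else 0)) -
      ((if k = c then 1 else 0) + (if k = d then 1 else 0)) = 0 := by
    refine const_zero ?_ ?_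
    · intro j
      have h2 := congrFun h j
      simp only [ph2, ev_eq] at h2
      linarith
    · simp only [Finset.sum_sub_distrib, Finset.sum_add_distrib, Finset.sum_ite_eq', Finset.mem_univ, if_true]
      norm_num
  have h5 := h1 a
  have h6 := h1 b
  simp only [if_true] at h5 h6
  simp only at hab hcd
  have hab' : a ≠ b := hab.ne
  rw [if_neg hab'] at h5
  rw [if_neg hab'.symm] at h6
  have h7 : a = c ∨ a = d := by
    by_contra hc
    push Not at hc
    rw [if_neg hc.1, if_neg hc.2] at h5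
    norm_num at h5
  have h8 : b = c ∨ b = d := by
    by_contra hc
    push Not at hc
    rw [if_neg hc.1, if_neg hc.2] at h6
    norm_num at h6
  apply Subtype.ext
  rw [Prod.mk.injEq]
  rcases h7 with rfl | rfl
  · rcases h8 with rfl | rfl
    · exact absurd rfl hab'
    · exact ⟨rfl, rfl⟩
  · rcases h8 with rfl | rfl
    · exact absurd (hab.trans hcd) (lt_irrefl _)
    · exact absurd rfl hab'

/-- sort a pair -/
def srt {n : ℕ} (a b : Fin (n + 1)) (h : a ≠ b) : Y2 n :=
  if h' : a < b then ⟨(a, b), h'⟩ else ⟨(b, a), lt_of_le_of_ne (not_lt.1 h') h.symm⟩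

theorem ph2_srt {n : ℕ} (a b : Fin (n + 1)) (h : a ≠ b) (j : Fin n) :
    ph2 n (srt a b h) j = ev n a j + ev n b j := by
  by_cases h' : a < b
  · rw [srt, dif_pos h']
    rfl
  · rw [srt, dif_neg h']
    exact add_comm _ _

theorem sum_srt {n : ℕ} (a b : Fin (n + 1)) (h : a ≠ b) :
    ((srt a b h).1.1 : ℕ) + ((srt a b h).1.2 : ℕ) = a + b := by
  by_cases h' : a < b
  · rw [srt, dif_pos h']
  · rw [srt, dif_neg h']
    exact add_comm _ _

/-- a pair -/
def mk2 {n : ℕ} (a b : ℕ) (hab : a < b) (hb : b < n + 1) : Y2 n := ⟨(⟨a, by omega⟩, ⟨b, hb⟩), hab⟩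

theorem ph2_mk2 {n : ℕ} (a b : ℕ) (hab : a < b) (hb : b < n + 1) (j : Fin n) :
    ph2 n (mk2 a b hab hb) j = (if a = j then 1 else if a = (j : ℕ) + 1 then -1 else 0) +
      (if b = j then 1 else if b = (j : ℕ) + 1 then -1 else 0) := rfl

theorem eq_mk2 {n : ℕ} {a b : ℕ} {hab : a < b} {hb : b < n + 1} {y : Y2 n} (h1 : (y.1.1 : ℕ) = a)
    (h2 : (y.1.2 : ℕ) = b) : y = mk2 a b hab hb :=
  Subtype.ext (Prod.ext (Fin.ext h1) (Fin.ext h2))

/-- the simple reflections on pairs -/
def s2 (n : ℕ) (i : Fin n) (y : Y2 n) : Y2 n :=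
  srt (Equiv.swap i.castSucc i.succ y.1.1) (Equiv.swap i.castSucc i.succ y.1.2) fun h =>
    y.2.ne ((Equiv.swap i.castSucc i.succ).injective h)

theorem ph2_s2 {n : ℕ} (i : Fin n) (y : Y2 n) (j : Fin n) :
    ph2 n (s2 n i y) j = ph2 n y j - RootsA.AA n i j * ph2 n y i := by
  unfold s2
  rw [ph2_srt, ev_swap, ev_swap]
  unfold ph2
  ring

/-- the characteristic functional of a node -/
def dl (n k : ℕ) (j : Fin n) : ℤ := if (j : ℕ) = k then 1 else 0

theorem dl_nonneg (n k : ℕ) (j : Fin n) : 0 ≤ dl n k j := by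
  unfold dl
  split_ifs <;> norm_num

theorem dl_set (n k : ℕ) : {i : Fin n | dl n k i = 0} = {i : Fin n | (i : ℕ) ≠ k} := by
  ext i
  simp only [Set.mem_ofPred_eq, dl]
  split_ifs with h <;> simp [h]

variable {W : Type*} [Group W] [Finite W]

/-- points -/
theorem pts {n : ℕ} (hn : 3 ≤ n) (cs : CoxeterSystem (cA n) W) (L : Set (Fin n)) :
    Nat.card (DoubleCoset.Quotient (WJ cs L : Set W) (WJ cs {i | (i : ℕ) ≠ 0} : Set W)) =
      Nat.card {y : Fin (n + 1) // ∀ i ∈ L, 0 ≤ ev n y i} := by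
  have h := (count cs (RootsA.isCartan n) (dl_nonneg n 0) (ev n) (ev_injective n) 0 (by
    funext j
    simp only [ev, dl, Fin.val_zero]
    (first | (lia; done) | (split_ifs <;> omega))) (fun i y => Equiv.swap i.castSucc i.succ y) (fun i y j => ev_swap i y j)
    (fun y => (y : ℕ)) (by
      intro y hy
      have h1 := y.2
      have h2 : (y : ℕ) ≠ 0 := fun h => hy (Fin.ext h)
      refine ⟨⟨y - 1, by omega⟩, ?_⟩
      simp only [RootsA.swap_val]
      split_ifs <;> omega)).2 L
  rwa [dl_set] at h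

/-- hyperplanes -/
theorem hyp {n : ℕ} (hn : 3 ≤ n) (cs : CoxeterSystem (cA n) W) (L : Set (Fin n)) :
    Nat.card (DoubleCoset.Quotient (WJ cs L : Set W) (WJ cs {i | (i : ℕ) ≠ n - 1} : Set W)) =
      Nat.card {y : Fin (n + 1) // ∀ i ∈ L, 0 ≤ -ev n y i} := by
  have h := (count cs (RootsA.isCartan n) (dl_nonneg n (n - 1)) (fun y j => -ev n y j) (by
      intro a b hab
      apply ev_injective n
      funext j
      exact neg_injective (congrFun hab j)) (Fin.last n) (by
    funext j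
    have := j.2
    simp only [ev, dl, Fin.val_last]
    split_ifs <;> omega) (fun i y => Equiv.swap i.castSucc i.succ y) (fun i y j => by
      rw [ev_swap]
      ring)
    (fun y => n - (y : ℕ)) (by
      intro y hy
      have h1 := y.2
      have h2 : (y : ℕ) ≠ n := fun h => hy (Fin.ext h)
      refine ⟨⟨y, by omega⟩, ?_⟩
      simp only [RootsA.swap_val]
      split_ifs <;> omega)).2 L
  rwa [dl_set] at h

/-- lines -/
theorem lns {n : ℕ} (hn : 3 ≤ n) (cs : CoxeterSystem (cA n) W) (L : Set (Fin n)) :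
    Nat.card (DoubleCoset.Quotient (WJ cs L : Set W) (WJ cs {i | (i : ℕ) ≠ 1} : Set W)) =
      Nat.card {y : Y2 n // ∀ i ∈ L, 0 ≤ ph2 n y i} := by
  have h := (count cs (RootsA.isCartan n) (dl_nonneg n 1) (ph2 n) (ph2_injective n)
    (mk2 0 1 (by omega) (by omega)) (by
    funext j
    rw [ph2_mk2]
    unfold dl
    split_ifs <;> first | contradiction | omega) (s2 n) (fun i y j => ph2_s2 i y j)
    (fun y => (y.1.1 : ℕ) + (y.1.2 : ℕ)) (by
      rintro ⟨⟨a, b⟩, hab⟩ hy
      have ha := a.2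
      have hb := b.2
      have hab' : (a : ℕ) < b := hab
      by_cases h0 : (a : ℕ) = 0
      · have hb1 : (b : ℕ) ≠ 1 := by
          intro hb1
          exact hy (eq_mk2 h0 hb1)
        refine ⟨⟨b - 1, by omega⟩, ?_⟩
        unfold s2
        rw [sum_srt]
        simp only [RootsA.swap_val]
        (first | (lia; done) | (split_ifs <;> omega))
      · refine ⟨⟨a - 1, by omega⟩, ?_⟩
        unfold s2
        rw [sum_srt]
        simp only [RootsA.swap_val]
        (first | (lia; done) | (split_ifs <;> omega)))).2 L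
  rwa [dl_set] at h

/-- subspaces of codimension two -/
theorem cln {n : ℕ} (hn : 3 ≤ n) (cs : CoxeterSystem (cA n) W) (L : Set (Fin n)) :
    Nat.card (DoubleCoset.Quotient (WJ cs L : Set W) (WJ cs {i | (i : ℕ) ≠ n - 2} : Set W)) =
      Nat.card {y : Y2 n // ∀ i ∈ L, 0 ≤ -ph2 n y i} := by
  have h := (count cs (RootsA.isCartan n) (dl_nonneg n (n - 2)) (fun y j => -ph2 n y j) (by
      intro a b hab
      apply ph2_injective n
      funext j
      exact neg_injective (congrFun hab j))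
    (mk2 (n - 1) n (by omega) (by omega)) (by
    funext j
    have := j.2
    rw [ph2_mk2]
    unfold dl
    split_ifs <;> first | contradiction | omega) (s2 n) (fun i y j => by
      rw [ph2_s2]
      ring)
    (fun y => 2 * n - ((y.1.1 : ℕ) + (y.1.2 : ℕ))) (by
      rintro ⟨⟨a, b⟩, hab⟩ hy
      have ha := a.2
      have hb := b.2
      have hab' : (a : ℕ) < b := hab
      by_cases h0 : (b : ℕ) = n
      · have hb1 : (a : ℕ) ≠ n - 1 := by
          intro hb1
          exact hy (eq_mk2 hb1 h0)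
        refine ⟨⟨a, by omega⟩, ?_⟩
        unfold s2
        rw [sum_srt]
        simp only [RootsA.swap_val]
        (first | (lia; done) | (split_ifs <;> omega))
      · refine ⟨⟨b, by omega⟩, ?_⟩
        unfold s2
        rw [sum_srt]
        simp only [RootsA.swap_val]
        split_ifs <;> omega)).2 L
  rwa [dl_set] at h

/-! ### Dominance -/

theorem dom_pts {n : ℕ} (Lp : ℕ → Prop) (y : Fin (n + 1)) :
    (∀ i ∈ {i : Fin n | Lp i}, 0 ≤ ev n y i) ↔ ((y : ℕ) = 0 ∨ ¬ Lp ((y : ℕ) - 1)) := by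
  have hy := y.2
  constructor
  · intro h
    by_contra hc
    push Not at hc
    have h1 := h ⟨y - 1, by omega⟩ hc.2
    simp only [ev] at h1
    split_ifs at h1 <;> omega
  · intro h i hi
    have hi' : Lp (i : ℕ) := hi
    have := i.2
    unfold ev
    split_ifs with h1 h2
    · norm_num
    · exfalso
      rcases h with h | h
      · omega
      · apply h
        rw [h2, Nat.add_sub_cancel]
        exact hi'
    · exact le_rfl

theorem dom_hyp {n : ℕ} (Lp : ℕ → Prop) (y : Fin (n + 1)) :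
    (∀ i ∈ {i : Fin n | Lp i}, 0 ≤ -ev n y i) ↔ ((y : ℕ) = n ∨ ¬ Lp (y : ℕ)) := by
  have hy := y.2
  constructor
  · intro h
    by_contra hc
    push Not at hc
    have h1 := h ⟨y, by omega⟩ hc.2
    simp only [ev] at h1
    split_ifs at h1 <;> omega
  · intro h i hi
    have hi' : Lp (i : ℕ) := hi
    have := i.2
    unfold ev
    split_ifs with h1 h2
    · exfalso
      rcases h with h | h
      · omega
      · apply h
        rw [h1]
        exact hi'
    · norm_num
    · norm_num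

theorem dom_lns {n : ℕ} (Lp : ℕ → Prop) (y : Y2 n) :
    (∀ i ∈ {i : Fin n | Lp i}, 0 ≤ ph2 n y i) ↔
      (((y.1.1 : ℕ) = 0 ∨ ¬ Lp ((y.1.1 : ℕ) - 1)) ∧ ((y.1.2 : ℕ) = y.1.1 + 1 ∨ ¬ Lp ((y.1.2 : ℕ) - 1))) := by
  obtain ⟨⟨a, b⟩, hab⟩ := y
  have ha := a.2
  have hb := b.2
  have hab' : (a : ℕ) < b := hab
  simp only
  constructor
  · intro h
    constructor
    · by_contra hc
      push Not at hc
      have h1 := h ⟨a - 1, by omega⟩ hc.2
      simp only [ph2, ev] at h1
      (first | (lia; done) | (split_ifs at h1 <;> omega))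
    · by_contra hc
      push Not at hc
      have h1 := h ⟨b - 1, by omega⟩ hc.2
      simp only [ph2, ev] at h1
      (first | (omega; done) | (split_ifs at h1 <;> omega))
  · rintro ⟨h1, h2⟩ i hi
    have hi' : Lp (i : ℕ) := hi
    have hin := i.2
    have h3 : (a : ℕ) ≠ i + 1 := by
      intro h3
      rcases h1 with h1 | h1
      · omega
      · apply h1
        rw [h3, Nat.add_sub_cancel]
        exact hi'
    have h4 : (b : ℕ) = i + 1 → (a : ℕ) = i := by
      intro h4
      rcases h2 with h2 | h2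
      · omega
      · exfalso
        apply h2
        rw [h4, Nat.add_sub_cancel]
        exact hi'
    simp only [ph2, ev]
    (first | (lia; done) | (split_ifs <;> omega))

theorem dom_cln {n : ℕ} (Lp : ℕ → Prop) (y : Y2 n) :
    (∀ i ∈ {i : Fin n | Lp i}, 0 ≤ -ph2 n y i) ↔
      (((y.1.2 : ℕ) = n ∨ ¬ Lp (y.1.2 : ℕ)) ∧ ((y.1.2 : ℕ) = y.1.1 + 1 ∨ ¬ Lp (y.1.1 : ℕ))) := by
  obtain ⟨⟨a, b⟩, hab⟩ := y
  have ha := a.2
  have hb := b.2
  have hab' : (a : ℕ) < b := hab
  simp only
  constructor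
  · intro h
    constructor
    · by_contra hc
      push Not at hc
      have h1 := h ⟨b, by omega⟩ hc.2
      simp only [ph2, ev] at h1
      split_ifs at h1 <;> omega
    · by_contra hc
      push Not at hc
      have h1 := h ⟨a, by omega⟩ hc.2
      simp only [ph2, ev] at h1
      (first | (lia; done) | (split_ifs at h1 <;> omega))
  · rintro ⟨h1, h2⟩ i hi
    have hi' : Lp (i : ℕ) := hi
    have hin := i.2
    have h3 : (b : ℕ) ≠ i := by
      intro h3
      rcases h1 with h1 | h1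
      · omega
      · apply h1
        rw [h3]
        exact hi'
    have h4 : (a : ℕ) = i → (b : ℕ) = i + 1 := by
      intro h4
      rcases h2 with h2 | h2
      · omega
      · exfalso
        apply h2
        rw [h4]
        exact hi'
    simp only [ph2, ev]
    (first | (lia; done) | (split_ifs <;> omega))

/-- **[U6]** -/
theorem counts_A {n : ℕ} (hn : 3 ≤ n) (cs : CoxeterSystem (cA n) W) :
    (Nat.card (DoubleCoset.Quotient (WJ cs {i | (i : ℕ) ≠ 0} : Set W) (WJ cs {i | (i : ℕ) ≠ 0} : Set W)) = 2 ∧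
     Nat.card (DoubleCoset.Quotient (WJ cs {i | (i : ℕ) ≠ 0} : Set W) (WJ cs {i | (i : ℕ) ≠ n - 1} : Set W)) = 2 ∧
     Nat.card (DoubleCoset.Quotient (WJ cs {i | (i : ℕ) ≠ n - 1} : Set W) (WJ cs {i | (i : ℕ) ≠ n - 1} : Set W)) = 2) ∧
    (Nat.card (DoubleCoset.Quotient (WJ cs {i | (i : ℕ) ≠ 1} : Set W) (WJ cs {i | (i : ℕ) ≠ 1} : Set W)) = 3 ∧
     Nat.card (DoubleCoset.Quotient (WJ cs {i | (i : ℕ) ≠ 1} : Set W) (WJ cs {i | (i : ℕ) ≠ n - 2} : Set W)) = 3 ∧
     Nat.card (DoubleCoset.Quotient (WJ cs {i | (i : ℕ) ≠ n - 2} : Set W) (WJ cs {i | (i : ℕ) ≠ n - 2} : Set W)) = 3) ∧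
    Nat.card (DoubleCoset.Quotient (WJ cs {i | (i : ℕ) ≠ 0} : Set W) (WJ cs {i | (i : ℕ) ≠ 1} : Set W)) = 2 ∧
    Nat.card (DoubleCoset.Quotient (WJ cs {i | ¬ ((i : ℕ) = 0 ∨ (i : ℕ) = n - 1)} : Set W) (WJ cs {i | (i : ℕ) ≠ 0} : Set W)) = 3 ∧
    Nat.card (DoubleCoset.Quotient (WJ cs {i | ¬ ((i : ℕ) = 0 ∨ (i : ℕ) = n - 1)} : Set W) (WJ cs {i | (i : ℕ) ≠ 1} : Set W)) = 4 := by
  refine ⟨⟨?_, ?_, ?_⟩, ⟨?_, ?_, ?_⟩, ?_, ?_, ?_⟩
  · rw [pts hn]
    refine card_pts (fun a => a = 0 ∨ ¬ a - 1 ≠ 0) [0, 1] (by simp) ?_ (dom_pts fun i => i ≠ 0)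
    intro a
    simp only [List.mem_cons, List.not_mem_nil, or_false]
    omega
  · rw [hyp hn]
    refine card_pts (fun a => a = n ∨ ¬ a ≠ 0) [0, n] (by simp; omega) ?_ (dom_hyp fun i => i ≠ 0)
    intro a
    simp only [List.mem_cons, List.not_mem_nil, or_false]
    omega
  · rw [hyp hn]
    refine card_pts (fun a => a = n ∨ ¬ a ≠ n - 1) [n - 1, n] (by simp; omega) ?_ (dom_hyp fun i => i ≠ n - 1)
    intro a
    simp only [List.mem_cons, List.not_mem_nil, or_false]
    omega
  · rw [lns hn]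
    refine card_pairs (fun a b => (a = 0 ∨ ¬ a - 1 ≠ 1) ∧ (b = a + 1 ∨ ¬ b - 1 ≠ 1)) [(0, 1), (0, 2), (2, 3)] (by simp) ?_ (dom_lns fun i => i ≠ 1)
    intro a b
    simp only [List.mem_cons, List.not_mem_nil, or_false, Prod.mk.injEq]
    omega
  · rw [cln hn]
    refine card_pairs (fun a b => (b = n ∨ ¬ b ≠ 1) ∧ (b = a + 1 ∨ ¬ a ≠ 1)) [(0, 1), (1, n), (n - 1, n)] (by simp; omega) ?_ (dom_cln fun i => i ≠ 1)
    intro a b
    simp only [List.mem_cons, List.not_mem_nil, or_false, Prod.mk.injEq]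
    omega
  · rw [cln hn]
    refine card_pairs (fun a b => (b = n ∨ ¬ b ≠ n - 2) ∧ (b = a + 1 ∨ ¬ a ≠ n - 2)) [(n - 3, n - 2), (n - 2, n), (n - 1, n)] (by simp only [_root_.List.nodup_cons, _root_.List.mem_cons, _root_.Prod.mk.injEq, _root_.List.not_mem_nil, _root_.or_false, _root_.not_or, _root_.not_and, _root_.and_true, _root_.not_false_eq_true, _root_.List.nodup_nil, _root_.and_self]; omega) ?_ (dom_cln fun i => i ≠ n - 2)
    intro a b
    simp only [List.mem_cons, List.not_mem_nil, or_false, Prod.mk.injEq]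
    omega
  · rw [card_double_comm, pts hn]
    refine card_pts (fun a => a = 0 ∨ ¬ a - 1 ≠ 1) [0, 2] (by simp) ?_ (dom_pts fun i => i ≠ 1)
    intro a
    simp only [List.mem_cons, List.not_mem_nil, or_false]
    omega
  · rw [pts hn]
    refine card_pts (fun a => a = 0 ∨ ¬ ¬ (a - 1 = 0 ∨ a - 1 = n - 1)) [0, 1, n] (by simp; omega) ?_ (dom_pts fun i => ¬ (i = 0 ∨ i = n - 1))
    intro a
    simp only [List.mem_cons, List.not_mem_nil, or_false]
    omega
  · rw [lns hn]
    refine card_pairs (fun a b => (a = 0 ∨ ¬ ¬ (a - 1 = 0 ∨ a - 1 = n - 1)) ∧ (b = a + 1 ∨ ¬ ¬ (b - 1 = 0 ∨ b - 1 = n - 1)))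
      [(0, 1), (0, n), (1, 2), (1, n)] (by simp; omega) ?_ (dom_lns fun i => ¬ (i = 0 ∨ i = n - 1))
    intro a b
    simp only [List.mem_cons, List.not_mem_nil, or_false, Prod.mk.injEq]
    omega

end Cfsg.Agent.H686.EB.CountsA
end

-- part: H24/EB/EvenA
section
/-!
# TEAM EB (S4522, S4515), [U7]: type `A_n`, `n ≥ 3`, in characteristic two (helper24)

`evenJ_of_diff` : two sets `𝒳`, `𝒴` of subgroups with `Aut`-invariant permutation characters whose difference has
norm one, and an `Aut`-stable set `ℱ` with constituents in the principal `2`-block.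

`evenJ_A` : `𝒳` = lines, `𝒴` = points, `ℱ` = flags (point, hyperplane).
-/

set_option autoImplicit false
set_option linter.style.haveILetI false

namespace Cfsg.Agent.H24.EB

open Cfsg Cfsg.Agent.H694 Cfsg.Agent.H694.EB Cfsg.Agent.H610.EB Cfsg.Agent.H684.EB
open Cfsg.Agent.Characters.Core
open Cfsg.Agent.LieExceptional.BNPairCore Cfsg.Agent.Tits.Core
  Cfsg.Agent.Tits.OfBN Cfsg.Agent.Schreier.BNSch Cfsg.Agent.FixBN
  Cfsg.Agent.OddHalf.Table.AutBldg
open Cfsg.Agent.Omega.ML.Ex.Typ (HasSplitT HasRGDT)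
open Cfsg.Agent.LieRecognition.BNCox (cA)

universe u

section

variable {S : Type u} [Group S] [Fintype S]

theorem isCharacter_permS (𝒳 : Set (Subgroup S))
    (h : ∀ g : S, ∀ H ∈ 𝒳, H.map (MulAut.conj g).toMonoidHom ∈ 𝒳) : IsCharacter S (permS 𝒳) := by
  haveI : Finite 𝒳 := Subtype.finite
  rw [permS_eq 𝒳 h]
  letI := actS 𝒳 h
  exact S0157.isCharacter_fixedBy (G := S) 𝒳

theorem permS_pow (𝒳 : Set (Subgroup S))
    (h : ∀ g : S, ∀ H ∈ 𝒳, H.map (MulAut.conj g).toMonoidHom ∈ 𝒳) {k : ℕ} (hk : IsK S k) (s : S) :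
    permS 𝒳 (s ^ k) = permS 𝒳 s := by
  rw [permS_eq 𝒳 h]
  letI := actS 𝒳 h
  show (Nat.card (MulAction.fixedBy 𝒳 (s ^ k)) : ℂ) = (Nat.card (MulAction.fixedBy 𝒳 s) : ℂ)
  rw [fixedBy_pow hk]

/-- **`EvenJ` from a difference of norm one.** -/
theorem evenJ_of_diff (𝒳 𝒴 ℱ : Set (Subgroup S))
    (hX : ∀ g : S, ∀ H ∈ 𝒳, H.map (MulAut.conj g).toMonoidHom ∈ 𝒳)
    (hY : ∀ g : S, ∀ H ∈ 𝒴, H.map (MulAut.conj g).toMonoidHom ∈ 𝒴)
    (hF : ∀ α : S ≃* S, ∀ H ∈ ℱ, H.map α.toMonoidHom ∈ ℱ)
    (hXα : ∀ (α : S ≃* S) (s : S), permS 𝒳 (α s) = permS 𝒳 s)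
    (hYα : ∀ (α : S ≃* S) (s : S), permS 𝒴 (α s) = permS 𝒴 s)
    {a b c d e : ℕ} (ha : Nat.card (Quotient (pairRel 𝒳 𝒳)) = a) (hb : Nat.card (Quotient (pairRel 𝒳 𝒴)) = b)
    (hc : Nat.card (Quotient (pairRel 𝒴 𝒴)) = c) (habc : a + c = 2 * b + 1)
    (hd : Nat.card (Quotient (pairRel ℱ 𝒳)) = d) (he : Nat.card (Quotient (pairRel ℱ 𝒴)) = e)
    (hodd : Odd (d + e)) (heven : Even (Nat.card 𝒳 + Nat.card 𝒴)) (hB : InB0 ℱ) : EvenJ S := by
  have hF' : ∀ g : S, ∀ H ∈ ℱ, H.map (MulAut.conj g).toMonoidHom ∈ ℱ := fun g H hH => hF (MulAut.conj g) H hH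
  have h1 := classInner_permS 𝒳 𝒳 hX hX
  have h2 := classInner_permS 𝒳 𝒴 hX hY
  have h3 := classInner_permS 𝒴 𝒴 hY hY
  have h4 := classInner_permS ℱ 𝒳 hF' hX
  have h5 := classInner_permS ℱ 𝒴 hF' hY
  rw [ha] at h1
  rw [hb] at h2
  rw [hc] at h3
  rw [hd] at h4
  rw [he] at h5
  have h6 : classInner (permS 𝒴) (permS 𝒳) = (b : ℂ) := by
    rw [← classInner_conj_symm, h2]
    simp
  have hnorm : classInner (permS 𝒳 - permS 𝒴) (permS 𝒳 - permS 𝒴) = 1 := by
    rw [classInner_sub_left, classInner_sub_right, classInner_sub_right, h1, h2, h3, h6]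
    have h7 : (a : ℂ) + c = 2 * b + 1 := by exact_mod_cast habc
    linear_combination h7
  have hgen : IsGeneralizedCharacter S (permS 𝒳 - permS 𝒴) :=
    ⟨_, _, isCharacter_permS 𝒳 hX, isCharacter_permS 𝒴 hY, rfl⟩
  -- the irreducible character and its sign
  obtain ⟨φ, ε, hφ, hε, hφe⟩ : ∃ (φ : S → ℂ) (ε : ℤ), IsIrrCharacter S φ ∧ (ε = 1 ∨ ε = -1) ∧
      φ = (ε : ℂ) • (permS 𝒳 - permS 𝒴) := by
    rcases isIrr_of_generalized hgen hnorm with h | h
    · exact ⟨_, 1, h, Or.inl rfl, by simp⟩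
    · exact ⟨_, -1, h, Or.inr rfl, by simp⟩
  have hεo : Odd ε := by
    rcases hε with rfl | rfl <;> decide
  have hmu : mu (permS ℱ) φ = ε * ((d : ℤ) - e) := by
    apply mu_eq
    rw [hφe, classInner_smul_right, classInner_sub_right, h4, h5]
    push_cast
    simp
  have hde : Odd ((d : ℤ) - e) := by
    rw [Int.odd_sub']
    have h8 : Odd ((d : ℤ) + e) := by exact_mod_cast hodd
    rw [Int.odd_add] at h8
    rw [Int.odd_iff, Int.even_iff] at *
    omega
  have hmuo : Odd (mu (permS ℱ) φ) := by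
    rw [hmu]
    exact hεo.mul hde
  refine RPhi.evenJ (rphi_of_set hφ ?_ ?_ ?_ ?_ ℱ hF hmuo)
  · obtain ⟨n, -, hn⟩ := isIrr_apply_one hφ
    have h7 : charDegree φ = n := by
      unfold charDegree
      rw [hn, Complex.natCast_re, Nat.floor_natCast]
    rw [h7]
    have h8 : (n : ℤ) = ε * ((Nat.card 𝒳 : ℤ) - Nat.card 𝒴) := by
      have h9 : (n : ℂ) = (ε : ℂ) * ((Nat.card 𝒳 : ℂ) - Nat.card 𝒴) := by
        rw [← hn, hφe]
        show (ε : ℂ) * (permS 𝒳 1 - permS 𝒴 1) = _
        rw [permS_one, permS_one]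
      exact_mod_cast h9
    have h9 : Even ((n : ℕ) : ℤ) := by
      rw [h8]
      refine Even.mul_left ?_ _
      have h10 : Even ((Nat.card 𝒳 : ℤ) + Nat.card 𝒴) := by exact_mod_cast heven
      rw [Int.even_sub]
      rwa [Int.even_add] at h10
    exact_mod_cast h9
  · intro k hk s
    rw [hφe]
    show (ε : ℂ) * (permS 𝒳 (s ^ k) - permS 𝒴 (s ^ k)) = (ε : ℂ) * (permS 𝒳 s - permS 𝒴 s)
    rw [permS_pow 𝒳 hX hk, permS_pow 𝒴 hY hk]
  · intro α
    funext s
    rw [hφe]
    show (ε : ℂ) * (permS 𝒳 (α s) - permS 𝒴 (α s)) = (ε : ℂ) * (permS 𝒳 s - permS 𝒴 s)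
    rw [hXα, hYα]
  · intro m hm
    refine hB m hm ⟨φ, hφ⟩ ?_
    show mu (permS ℱ) φ ≠ 0
    intro h0
    rw [h0] at hmuo
    exact absurd hmuo (by decide)

end

section

variable {K : Type u} [Group K]

/-- The permutation characters of the images under an automorphism. -/
theorem permS_cls_map (α : K ≃* K) {A B : Subgroup K} {g : K}
    (h : A.map α.toMonoidHom = B.map (MulAut.conj g).toMonoidHom) (s : K) :
    permS (cls B) (α s) = permS (cls A) s := by
  have hinj : Function.Injective (fun H : Subgroup K => H.map α.toMonoidHom) :=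
    Subgroup.map_injective α.injective
  have hc : ∀ (t : K) (H : Subgroup K), (H.map (MulAut.conj t).toMonoidHom).map α.toMonoidHom =
      (H.map α.toMonoidHom).map (MulAut.conj (α t)).toMonoidHom := by
    intro t H
    rw [Subgroup.map_map, Subgroup.map_map]
    congr 1
    ext x
    simp only [_root_.MulEquiv.toMonoidHom_eq_coe, _root_.MonoidHom.coe_comp, _root_.MonoidHom.coe_coe, _root_.Function.comp_apply, _root_.MulAut.conj_apply, _root_.map_mul, _root_.map_inv]
  have hB : B = (A.map α.toMonoidHom).map (MulAut.conj g⁻¹).toMonoidHom := by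
    rw [h, map_conj_conj, inv_mul_cancel, map_conj_one]
  have hs : {H : Subgroup K | H.map α.symm.toMonoidHom ∈ cls A} = cls B := by
    ext H
    constructor
    · rintro ⟨t, ht⟩
      have h1 : H = (H.map α.symm.toMonoidHom).map α.toMonoidHom := by
        rw [Subgroup.map_map]
        have h2 : α.toMonoidHom.comp α.symm.toMonoidHom = MonoidHom.id K := by
          ext x
          simp
        rw [h2, Subgroup.map_id]
      have ht' : A.map (MulAut.conj t).toMonoidHom = H.map α.symm.toMonoidHom := ht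
      refine ⟨α t * g, ?_⟩
      show B.map (MulAut.conj (α t * g)).toMonoidHom = H
      rw [h1, ← ht', hc, h, map_conj_conj]
    · rintro ⟨t, ht⟩
      have ht' : B.map (MulAut.conj t).toMonoidHom = H := ht
      refine ⟨α.symm (t * g⁻¹), ?_⟩
      show A.map (MulAut.conj (α.symm (t * g⁻¹))).toMonoidHom = H.map α.symm.toMonoidHom
      apply hinj
      show (A.map (MulAut.conj (α.symm (t * g⁻¹))).toMonoidHom).map α.toMonoidHom =
        (H.map α.symm.toMonoidHom).map α.toMonoidHom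
      have h2 : α.toMonoidHom.comp α.symm.toMonoidHom = MonoidHom.id K := by
        ext x
        simp
      rw [hc, α.apply_symm_apply, Subgroup.map_map H, h2, Subgroup.map_id, ← ht', hB, map_conj_conj]
  rw [← hs]
  exact permS_equiv α (cls A) s

end

/-- the images of the complement of a node -/
theorem image_ne {I : Type*} (σ : I ≃ I) (i : I) : σ '' {j | j ≠ i} = {j | j ≠ σ i} := by
  ext j
  constructor
  · rintro ⟨k, hk, rfl⟩ h
    exact hk (σ.injective h)
  · intro hj
    refine ⟨σ.symm j, fun h => hj ?_, σ.apply_symm_apply j⟩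
    rw [← h, σ.apply_symm_apply]

/-- the diagram automorphisms of `A_n` on the first two nodes -/
theorem diag_A {n : ℕ} (hn : 3 ≤ n) (σ : Fin n ≃ Fin n) (hσ : ∀ i j, cA n (σ i) (σ j) = cA n i j)
    {a b : Fin n} (ha : (a : ℕ) = 0) (hb : (b : ℕ) = 1) :
    ((σ a : ℕ) = 0 ∧ (σ b : ℕ) = 1) ∨ ((σ a : ℕ) = n - 1 ∧ (σ b : ℕ) = n - 2) := by
  have h1 := (A_three (σ a) (σ b)).1 (by rw [hσ, A_three]; omega)
  have h2 := leaf_A hn σ hσ a (Or.inl ha)
  have h3 := (σ b).2
  omega

/-- **[U7] Type `A_n`, `n ≥ 3`, in characteristic two.** -/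
theorem evenJ_A {n : ℕ} (hn : 3 ≤ n) {K : Type u} [Group K] [Finite K] (hK : HasSplitT 2 (cA n) K) (hdz : DZ K) :
    EvenJ K := by
  obtain ⟨P, U, e, S, hN, cs, hcs⟩ := hK
  haveI : Fact (Nat.Prime 2) := ⟨Nat.prime_two⟩
  haveI : Fintype K := Fintype.ofFinite K
  have hcard : ∀ J L : Set (Fin n), Nat.card (Quotient (pairRel (cls (PJ P e J)) (cls (PJ P e L)))) =
      Nat.card (DoubleCoset.Quotient (WJ cs J : Set (WP P)) (WJ cs L : Set (WP P))) := by
    intro J L
    rw [card_pairRel (normalizer_PJ e J) (normalizer_PJ e L), card_double e cs hcs]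
  have hconj : ∀ (J : Set (Fin n)) (g : K), ∀ H ∈ cls (PJ P e J), H.map (MulAut.conj g).toMonoidHom ∈ cls (PJ P e J) :=
    fun J g H hH => conj_mem_cls hH g
  obtain ⟨⟨c1, c2, c3⟩, ⟨c4, c5, c6⟩, c7, c8, c9⟩ := Cfsg.Agent.H686.EB.CountsA.counts_A hn cs
  -- the norm zero differences
  have hzero : ∀ (J L : Set (Fin n)) (m : ℕ),
      Nat.card (DoubleCoset.Quotient (WJ cs J : Set (WP P)) (WJ cs J : Set (WP P))) = m →
      Nat.card (DoubleCoset.Quotient (WJ cs J : Set (WP P)) (WJ cs L : Set (WP P))) = m →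
      Nat.card (DoubleCoset.Quotient (WJ cs L : Set (WP P)) (WJ cs L : Set (WP P))) = m →
      permS (cls (PJ P e J)) = permS (cls (PJ P e L)) := by
    intro J L m h1 h2 h3
    have h4 := classInner_permS _ _ (hconj J) (hconj J)
    have h5 := classInner_permS _ _ (hconj J) (hconj L)
    have h6 := classInner_permS _ _ (hconj L) (hconj L)
    rw [hcard, h1] at h4
    rw [hcard, h2] at h5
    rw [hcard, h3] at h6
    have h7 : classInner (permS (cls (PJ P e L))) (permS (cls (PJ P e J))) = (m : ℂ) := by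
      rw [← classInner_conj_symm, h5]
      simp
    refine sub_eq_zero.1 (classInner_self_eq_zero ?_)
    rw [classInner_sub_left, classInner_sub_right, classInner_sub_right, h4, h5, h6, h7]
    ring
  have hpts := hzero _ _ 2 c1 c2 c3
  have hlns := hzero _ _ 3 c4 c5 c6
  -- the nodes
  obtain ⟨a, ha⟩ : ∃ a : Fin n, (a : ℕ) = 0 := ⟨⟨0, by omega⟩, rfl⟩
  obtain ⟨b, hb⟩ : ∃ b : Fin n, (b : ℕ) = 1 := ⟨⟨1, by omega⟩, rfl⟩
  have hset : ∀ (i : Fin n) (m : ℕ), (i : ℕ) = m → {j : Fin n | (j : ℕ) ≠ m} = {j | j ≠ i} := by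
    intro i m him
    ext j
    show (j : ℕ) ≠ m ↔ j ≠ i
    rw [← him, ne_eq, ne_eq, Fin.ext_iff]
  -- invariance
  have hinv : ∀ (α : K ≃* K) (s : K),
      permS (cls (PJ P e {i | (i : ℕ) ≠ 1})) (α s) = permS (cls (PJ P e {i | (i : ℕ) ≠ 1})) s ∧
      permS (cls (PJ P e {i | (i : ℕ) ≠ 0})) (α s) = permS (cls (PJ P e {i | (i : ℕ) ≠ 0})) s := by
    intro α s
    obtain ⟨σ, hσ, h⟩ := exists_type_perm e cs hcs S α
    obtain ⟨g, hg⟩ := h {i | (i : ℕ) ≠ 0}
    obtain ⟨t, ht⟩ := h {i | (i : ℕ) ≠ 1}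
    have h1 := permS_cls_map α hg s
    have h2 := permS_cls_map α ht s
    have h3 : σ '' {i | (i : ℕ) ≠ 0} = {j | j ≠ σ a} := by rw [hset a 0 ha, image_ne]
    have h4 : σ '' {i | (i : ℕ) ≠ 1} = {j | j ≠ σ b} := by rw [hset b 1 hb, image_ne]
    rw [h3] at h1
    rw [h4] at h2
    rcases diag_A hn σ hσ ha hb with ⟨h5, h6⟩ | ⟨h5, h6⟩
    · rw [← hset _ _ h5] at h1
      rw [← hset _ _ h6] at h2
      exact ⟨h2, h1⟩
    · rw [← hset _ _ h5, ← hpts] at h1
      rw [← hset _ _ h6, ← hlns] at h2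
      exact ⟨h2, h1⟩
  refine evenJ_of_diff (cls (PJ P e {i | (i : ℕ) ≠ 1})) (cls (PJ P e {i | (i : ℕ) ≠ 0}))
    (cls (PJ P e {i | ¬ ((i : ℕ) = 0 ∨ (i : ℕ) = n - 1)})) (hconj _) (hconj _) ?_
    (fun α s => (hinv α s).1) (fun α s => (hinv α s).2) (a := 3) (b := 2) (c := 2) (d := 4) (e := 3)
    ?_ ?_ ?_ rfl ?_ ?_ (by decide) ?_ ?_
  · intro α
    obtain ⟨σ, hσ, h⟩ := exists_type_perm e cs hcs S α
    obtain ⟨g, hg⟩ := h {i | ¬ ((i : ℕ) = 0 ∨ (i : ℕ) = n - 1)}
    have h1 : σ '' {i : Fin n | ¬ ((i : ℕ) = 0 ∨ (i : ℕ) = n - 1)} = {i : Fin n | ¬ ((i : ℕ) = 0 ∨ (i : ℕ) = n - 1)} :=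
      image_compl_eq σ {i | (i : ℕ) = 0 ∨ (i : ℕ) = n - 1} fun i hi => leaf_A hn σ hσ i hi
    rw [h1] at hg
    rintro _ ⟨t, rfl⟩
    refine ⟨α t * g, ?_⟩
    rw [← map_conj_conj, ← hg, Subgroup.map_map, Subgroup.map_map]
    congr 1
    ext x
    simp only [_root_.MulEquiv.toMonoidHom_eq_coe, _root_.MonoidHom.coe_comp, _root_.MonoidHom.coe_coe, _root_.Function.comp_apply, _root_.MulAut.conj_apply, _root_.map_mul, _root_.map_inv]
  · rw [hcard, c4]
  · rw [hcard, card_double_comm, c7]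
  · rw [hcard, c1]
  · rw [hcard, c9]
  · rw [hcard, c8]
  · rw [card_cls (normalizer_PJ e _), card_cls (normalizer_PJ e _)]
    exact (index_odd e cs hcs S _).add_odd (index_odd e cs hcs S _)
  · refine inB0_two e cs hcs S hdz ⟨b, ?_⟩
    show ¬ ((b : ℕ) = 0 ∨ (b : ℕ) = n - 1)
    omega

end Cfsg.Agent.H24.EB
end

-- part: H610/EB/Idem
section
/-!
# Framework F: characters from idempotent matrices invariant under the overgroup

`X` is a finite `G`-set, `N` a normal subgroup of `G`, `e` a `G`-invariant idempotent matrix over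
`X` which is primitive among the `N`-invariant matrices. Then `g ↦ tr (e g)` is an irreducible
character of `G` whose restriction to `N` is irreducible.

* `ic e g = ∑ x, e x (g • x)`: the character.
* `idem_char`: it is an irreducible character (if `e` is primitive for `G`).
* `concl_of_idem`: the conclusion of S4522 (and the version with an odd normal step).
-/

set_option autoImplicit false
set_option linter.unusedSectionVars false
set_option linter.style.haveILetI false

namespace Cfsg.Agent.H610.EB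

open Cfsg Cfsg.Agent.Characters Cfsg.Agent.H694 Cfsg.Agent.H684.EB
open scoped ComplexConjugate
open Cfsg.Agent.Characters.Core
open Cfsg.Agent.OddOrderCharacters.NormalInduced (conjFn)
open Cfsg.Agent.OddOrderCharacters.PF9.CliffGen (resTo irr_ind)
open Cfsg.Agent.Blocks.Local Cfsg.Agent.Blocks.Basic
open Cfsg.Agent.H740.Eight.Hecke (Inv perm perm_apply perm_comm inv_of_comm irreducible_of_scalar)

universe u v

section idem

variable {G : Type*} [Group G] {X : Type*} [MulAction G X] [Fintype X] [DecidableEq X]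

/-- The trace function of a matrix. -/
def ic (G : Type*) [Group G] {X : Type*} [MulAction G X] [Fintype X] (e : Matrix X X ℂ) (g : G) : ℂ :=
  ∑ x, e x (g • x)

theorem ic_one (e : Matrix X X ℂ) : ic G e 1 = e.trace := by
  unfold ic Matrix.trace
  simp only [one_smul, Matrix.diag_apply]

theorem ic_sub (e f : Matrix X X ℂ) (g : G) : ic G (e - f) g = ic G e g - ic G f g := by
  unfold ic
  rw [← Finset.sum_sub_distrib]
  rfl

theorem ic_id (g : G) : ic G (1 : Matrix X X ℂ) g = (Nat.card {x : X // g • x = x} : ℂ) := by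
  classical
  unfold ic
  have h1 : ∀ x : X, (1 : Matrix X X ℂ) x (g • x) = if g • x = x then 1 else 0 := by
    intro x
    rw [Matrix.one_apply]
    simp only [eq_comm]
  rw [Finset.sum_congr rfl fun x _ => h1 x, Finset.sum_boole, Nat.card_eq_fintype_card,
    Fintype.card_subtype]

/-- The representation on the range of an invariant idempotent. -/
theorem exists_rep {e : Matrix X X ℂ} (hinv : Inv G e) (he : e * e = e) :
    ∃ (W : Submodule ℂ (X → ℂ)) (ρ : Representation ℂ G W), (∀ g, ρ.character g = ic G e g) ∧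
      W = LinearMap.range (Matrix.toLin' e) ∧ ∀ g (v : W), ((ρ g v : W) : X → ℂ) = perm G X g v := by
  set E := Matrix.toLin' e with hE
  have hEE : ∀ v, E (E v) = E v := fun v => by
    have h1 : E ∘ₗ E = E := by rw [hE, ← Matrix.toLin'_mul, he]
    exact LinearMap.congr_fun h1 v
  set W := LinearMap.range E with hW
  have hWE : ∀ v ∈ W, E v = v := by
    rintro _ ⟨v, rfl⟩
    exact hEE v
  have hWinv : ∀ g, ∀ v ∈ W, perm G X g v ∈ W := by
    intro g v hv
    refine ⟨perm G X g v, ?_⟩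
    rw [hE, perm_comm hinv, ← hE, hWE v hv]
  let ρ : Representation ℂ G W :=
    { toFun := fun g => (perm G X g).restrict (hWinv g)
      map_one' := by
        refine LinearMap.ext fun v => Subtype.ext ?_
        show perm G X 1 (v : X → ℂ) = v
        rw [map_one]; rfl
      map_mul' := fun g h => by
        refine LinearMap.ext fun v => Subtype.ext ?_
        show perm G X (g * h) (v : X → ℂ) = perm G X g (perm G X h v)
        rw [map_mul]; rfl }
  have hρ : ∀ g (v : W), ((ρ g v : W) : X → ℂ) = perm G X g v := fun g v => rfl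
  refine ⟨W, ρ, ?_, rfl, hρ⟩
  intro g
  -- the trace of `perm g ∘ E`
  have h1 : LinearMap.trace ℂ _ (perm G X g ∘ₗ E) = ic G e g := by
    have h2 : LinearMap.toMatrix' (perm G X g ∘ₗ E) = Matrix.of fun x y => e (g⁻¹ • x) y := by
      ext x y
      rw [LinearMap.toMatrix'_apply, Matrix.of_apply]
      show perm G X g (E (Pi.single y 1)) x = _
      rw [perm_apply, hE, Matrix.toLin'_apply, Matrix.mulVec_single_one]
      rfl
    rw [LinearMap.trace_eq_matrix_trace ℂ (Pi.basisFun ℂ X), LinearMap.toMatrix_eq_toMatrix', h2]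
    unfold Matrix.trace ic
    refine Finset.sum_congr rfl fun x _ => ?_
    rw [Matrix.diag_apply, Matrix.of_apply, ← hinv g (g⁻¹ • x) x, smul_inv_smul]
  rw [← h1]
  show LinearMap.trace ℂ _ (ρ g) = _
  -- the range of `perm g ∘ E` is in `W`
  have h3 : ρ g = (perm G X g ∘ₗ E).restrict (p := W) (q := W) (fun v hv => by
      show perm G X g (E v) ∈ W
      rw [hWE v hv]
      exact hWinv g v hv) := by
    refine LinearMap.ext fun v => Subtype.ext ?_
    show perm G X g (v : X → ℂ) = perm G X g (E v)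
    rw [hWE v v.2]
  rw [h3]
  exact LinearMap.trace_restrict_eq_of_forall_mem W (perm G X g ∘ₗ E) (fun v => by
    show perm G X g (E v) ∈ W
    exact hWinv g _ ⟨v, rfl⟩)

theorem ic_isCharacter [Finite G] {e : Matrix X X ℂ} (hinv : Inv G e) (he : e * e = e) :
    IsCharacter G (ic G e) := by
  obtain ⟨W, ρ, h1, -, -⟩ := exists_rep hinv he
  have h2 : ρ.character = ic G e := funext h1
  rw [← h2]
  exact isCharacter_of_rep ρ

/-- **A primitive idempotent gives an irreducible character.** -/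
theorem ic_irr [Finite G] {e : Matrix X X ℂ} (hinv : Inv G e) (he : e * e = e) (hne : e ≠ 0)
    (hprim : ∀ M : Matrix X X ℂ, Inv G M → ∃ c : ℂ, e * M * e = c • e) :
    IsIrrCharacter G (ic G e) := by
  obtain ⟨W, ρ, h1, hW, hρ⟩ := exists_rep hinv he
  have h2 : ρ.character = ic G e := funext h1
  rw [← h2]
  apply isIrrCharacter_of_rep
  subst hW
  set E := Matrix.toLin' e with hE
  have hEE : ∀ v, E (E v) = E v := fun v => by
    have h1 : E ∘ₗ E = E := by rw [hE, ← Matrix.toLin'_mul, he]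
    exact LinearMap.congr_fun h1 v
  have hWE : ∀ v ∈ LinearMap.range E, E v = v := by
    rintro _ ⟨v, rfl⟩
    exact hEE v
  have hnt : Nontrivial (LinearMap.range E) := by
    rw [Submodule.nontrivial_iff_ne_bot]
    intro h
    apply hne
    have h1 : E = 0 := LinearMap.range_eq_bot.1 h
    rw [hE] at h1
    exact (LinearEquiv.map_eq_zero_iff _).1 h1
  apply irreducible_of_scalar
  intro f hf
  set L : (X → ℂ) →ₗ[ℂ] (X → ℂ) := (LinearMap.range E).subtype ∘ₗ f ∘ₗ E.rangeRestrict with hL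
  have hLa : ∀ v, L v = (f (E.rangeRestrict v) : X → ℂ) := fun v => rfl
  have hLc : ∀ (g : G) v, L (perm G X g v) = perm G X g (L v) := by
    intro g v
    rw [hLa, hLa, ← hρ, ← hf]
    congr 2
    apply Subtype.ext
    rw [hρ]
    show E (perm G X g v) = perm G X g (E v)
    rw [hE, perm_comm hinv]
  obtain ⟨c, hc⟩ := hprim _ (inv_of_comm hLc)
  have h1 : ∀ v, E (L (E v)) = c • E v := by
    intro v
    have h2 := congrArg Matrix.toLin' hc
    rw [Matrix.toLin'_mul, Matrix.toLin'_mul, Matrix.toLin'_toMatrix', map_smul] at h2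
    exact LinearMap.congr_fun h2 v
  refine ⟨c, fun w => Subtype.ext ?_⟩
  have h3 := h1 (w : X → ℂ)
  have h4 : E.rangeRestrict (w : X → ℂ) = w := Subtype.ext (hWE _ w.2)
  rw [hWE _ w.2, hLa, h4, hWE _ (f w).2] at h3
  exact h3

/-- Invariance under a subgroup. -/
theorem Inv.sub' {R : Type*} {e : Matrix X X R} (hinv : Inv G e) (N : Subgroup G) : Inv N e :=
  fun n x y => hinv (n : G) x y

end idem

/-! ### Power-fixed -/

section rational

variable {G : Type*} [Group G] [Finite G] {X : Type*} [MulAction G X] [Fintype X]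
  [DecidableEq X]

/-- The character of an idempotent whose entries are fixed by the Galois automorphisms with
exponent `k` is power-fixed. -/
theorem ic_pow {e : Matrix X X ℂ} (hc : IsCharacter G (ic G e)) {k : ℕ}
    (hk : Nat.Coprime k (Nat.card G))
    (hfix : ∀ σ : ℂ ≃+* ℂ, (∀ z : ℂ, z ^ Nat.card G = 1 → σ z = z ^ k) →
      ∀ x y, σ (e x y) = e x y) (g : G) : ic G e (g ^ k) = ic G e g := by
  obtain ⟨σ, hσ⟩ := Cfsg.Agent.Characters.GaloisBasic.exists_ringEquiv_pow
    (n := Nat.card G) (m := k) Nat.card_pos.ne' hk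
  rw [← Cfsg.Agent.Characters.GaloisBasic.map_apply_card σ hσ hc g]
  unfold ic
  rw [map_sum]
  exact Finset.sum_congr rfl fun x _ => hfix σ hσ x _

/-- **Rational idempotents give power-fixed characters.** -/
theorem ic_pow_of_rat {e : Matrix X X ℂ} (hc : IsCharacter G (ic G e)) (e₀ : Matrix X X ℚ)
    (hrat : ∀ x y, e x y = (e₀ x y : ℂ)) {k : ℕ} (hk : Nat.Coprime k (Nat.card G)) (g : G) :
    ic G e (g ^ k) = ic G e g :=
  ic_pow hc hk (fun σ _ x y => by rw [hrat, map_ratCast]) g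

end rational

/-! ### The conclusion -/

section concl

variable {G : Type u} [Group G] [Fintype G] {M : Ideal AlgInt} {k : ℕ} {X : Type v}
  [MulAction G X] [Fintype X] [DecidableEq X]

/-- The character of an idempotent is a constituent of the permutation character. -/
theorem mu_ic_ne_zero {e : Matrix X X ℂ} (hinv : Inv G e) (he : e * e = e)
    (hirr : IsIrrCharacter G (ic G e)) :
    mu (fun g : G => (Nat.card {x : X // g • x = x} : ℂ)) (ic G e) ≠ 0 := by
  have h1 : IsCharacter G (ic G (1 - e)) := by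
    refine ic_isCharacter (Inv.sub Inv.one hinv) ?_
    rw [sub_mul, mul_sub, mul_sub, he]
    simp
  obtain ⟨n, hn⟩ := classInner_isNat h1 (isIrr_isCharacter hirr)
  have h2 : (fun g : G => (Nat.card {x : X // g • x = x} : ℂ)) = ic G (1 - e) + ic G e := by
    funext g
    rw [Pi.add_apply, ic_sub, ic_id]
    ring
  have h3 : classInner (fun g : G => (Nat.card {x : X // g • x = x} : ℂ)) (ic G e) =
      ((n + 1 : ℕ) : ℂ) := by
    rw [h2, classInner_add_left, hn, classInner_irr_self hirr]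
    push_cast
    rfl
  have h4 : mu (fun g : G => (Nat.card {x : X // g • x = x} : ℂ)) (ic G e) = ((n + 1 : ℕ) : ℤ) :=
    mu_eq (by rw [h3]; push_cast; rfl)
  rw [h4]
  exact_mod_cast Nat.succ_ne_zero n

/-- **Framework F.** The conclusion of S4522 from an invariant idempotent. -/
theorem concl_of_idem (hM : IsPModular 2 M) (N : Subgroup G) [hN : N.Normal] [Fintype N]
    (J : Subgroup G) [hJ : J.Normal] (hNJ : N ≤ J) (hodd : Odd (N.relIndex J))
    (hidx : ∃ j : ℕ, J.index = 2 ^ j) (hk : IsK G k) {e : Matrix X X ℂ} (hinv : Inv G e)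
    (he : e * e = e) (hprim : ∀ M : Matrix X X ℂ, Inv N M → ∃ c : ℂ, e * M * e = c • e)
    {d : ℕ} (htr : e.trace = d) (hd : Even d) (hd0 : d ≠ 0)
    (hfix : ∀ g : G, ic G e (g ^ k) = ic G e g)
    (hmem : ∀ φ : IrrCharacter N, (φ : N → ℂ) = ic N e → φ ∈ principalBlock M N) :
    Concl M G N k := by
  classical
  haveI : Fact (Nat.Prime 2) := ⟨Nat.prime_two⟩
  haveI : Fintype J := Fintype.ofFinite _
  haveI : Fintype (N.subgroupOf J) := Fintype.ofFinite _
  have hne : e ≠ 0 := by
    rintro rfl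
    rw [Matrix.trace_zero] at htr
    exact hd0 (by exact_mod_cast htr.symm)
  have hN' : IsIrrCharacter N (ic N e) := ic_irr (Inv.sub' hinv N) he hne hprim
  have hJ' : IsIrrCharacter J (ic J e) := ic_irr (Inv.sub' hinv J) he hne
    (fun M hM => hprim M fun n x y => hM ⟨n, hNJ n.2⟩ x y)
  have hG' : IsIrrCharacter G (ic G e) := ic_irr hinv he hne
    (fun M hM => hprim M fun n x y => hM (n : G) x y)
  have hdeg : ∀ {H : Type u} [Group H] [Finite H] [MulAction H X] (h : IsIrrCharacter H (ic H e)),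
      charDegree (ic H e) = d := by
    intro H _ _ _ h
    have h1 := Cfsg.Agent.Blocks.Basic.irr_one_eq_charDegree h
    rw [ic_one, htr] at h1
    exact_mod_cast h1.symm
  -- `J`
  have hJN : classInner (fun n : N.subgroupOf J => ic J e n)
      (H611.EB.dnIrr N J hNJ ⟨ic N e, hN'⟩ : N.subgroupOf J → ℂ) ≠ 0 := by
    have h1 : (fun n : N.subgroupOf J => ic J e n) =
        (H611.EB.dnIrr N J hNJ ⟨ic N e, hN'⟩ : N.subgroupOf J → ℂ) := rfl
    rw [h1, classInner_irr_self (H611.EB.dnIrr N J hNJ ⟨ic N e, hN'⟩).2]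
    exact one_ne_zero
  have hover : classInner (resTo hNJ (ic J e)) (ic N e) ≠ 0 := by
    have h1 : resTo hNJ (ic J e) = ic N e := rfl
    rw [h1, classInner_irr_self hN']
    exact one_ne_zero
  have hJk : ∀ g : J, ic J e (g ^ k) = ic J e g := fun g => by
    have h1 := hfix (g : G)
    have h2 : ic J e (g ^ k) = ic G e (((g ^ k : J) : G)) := rfl
    rw [h2, Subgroup.coe_pow, h1]
    rfl
  obtain ⟨hm, -, -⟩ := H611.EB.chain_facts N J hNJ hM hodd hk ⟨ic J e, hJ'⟩ ⟨ic N e, hN'⟩ hJk hover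
  have hJmem := hm.2 (hmem ⟨ic N e, hN'⟩ rfl)
  have hGJ : classInner (fun n : J => ic G e n) (ic J e) ≠ 0 := by
    have h1 : (fun n : J => ic G e n) = ic J e := rfl
    rw [h1, classInner_irr_self hJ']
    exact one_ne_zero
  refine ⟨⟨ic G e, hG'⟩, mem_of_over hM J hidx (φ := ⟨ic J e, hJ'⟩) hJmem hGJ, ?_, hfix, ?_⟩
  · show Even (charDegree (ic G e))
    rw [hdeg hG']
    exact hd
  · show classInner (fun n : N => ic G e n) (fun _ => (1 : ℂ)) = 0
    have h1 : (fun n : N => ic G e n) = ic N e := rfl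
    rw [h1]
    apply classInner_irr_ne hN' isIrrCharacter_one
    apply ne_one_of_even
    rw [hdeg hN']
    exact hd

end concl

end Cfsg.Agent.H610.EB
end

-- part: H610/EB/Cham
section
/-!
# The action of an overgroup on the chambers of a (B,N)-pair

`N` is a normal subgroup of `G` with a split (B,N)-pair `P`. The group `G` acts on the chambers
`N ⧸ P.B` (the conjugates of `P.B`); the type `Ch N P` is `N ⧸ P.B` with this action.

* `chAct`: the action; `coe_smul`: it extends the action of `N` by left translations.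
* `exists_twist`: `δ (g x) (g y) = fW β (δ x y)` for an automorphism `β` preserving `B`.
* `inv_T_of`: the Hecke matrices are `G`-invariant if `G` preserves the types.
-/

set_option autoImplicit false
set_option linter.unusedSectionVars false
set_option linter.style.haveILetI false

namespace Cfsg.Agent.H610.EB

open Cfsg Cfsg.Agent.H694
open Cfsg.Agent.LieExceptional.BNPairCore Cfsg.Agent.Tits.Core Cfsg.Agent.Tits.Core.Bldg
  Cfsg.Agent.Tits.OfBN Cfsg.Agent.Schreier.BNSch Cfsg.Agent.Tits.OppRes Cfsg.Agent.FixBN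
  Cfsg.Agent.FixBN.TwOfBN Cfsg.Agent.OddHalf.Table.AutBldg
open Cfsg.Agent.LieRecognition.FeitHigmanGroup (R T T_apply R_mk_iff q T_sq)
open Cfsg.Agent.H740.Eight.Hecke (Inv)

universe u v

section act

variable {G : Type u} [Group G] (N : Subgroup G)

/-- The chambers. -/
def Ch (P : Cfsg.BNPair N) : Type u := N ⧸ P.B

variable {N} [hNn : N.Normal] {P : Cfsg.BNPair N}

noncomputable instance [Finite N] : Fintype (Ch N P) :=
  @Fintype.ofFinite (N ⧸ P.B) inferInstance

noncomputable instance : DecidableEq (Ch N P) := Classical.decEq _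

/-- The Borel subgroup is its own normalizer. -/
theorem normalizer_B : Subgroup.normalizer (P.B : Set N) = P.B := by
  have h1 := Cfsg.Agent.S0312.result P (Set.empty_subset P.S)
  have h2 : P.parabolic ∅ = P.B := by
    unfold BNPair.parabolic
    rw [Subgroup.closure_empty, sup_bot_eq]
  rwa [h2] at h1

/-- `G` permutes the conjugates of `B`. -/
abbrev Stab (N : Subgroup G) [N.Normal] (P : Cfsg.BNPair N) : Prop :=
  ∀ g : G, ∀ H ∈ cls P.B, cmap N g H ∈ cls P.B

theorem stab_of_split [Finite N] {p : ℕ} [Fact p.Prime] {U : Subgroup N} (S : Split P p U) :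
    Stab N P := by
  rintro g _ ⟨a, rfl⟩
  obtain ⟨t, ht⟩ := exists_conj_keep S (MulAut.conjNormal g : MulAut N)
  refine ⟨(MulAut.conjNormal g : MulAut N) a * t⁻¹, ?_⟩
  unfold cmap
  rw [← map_conj_conj]
  have h1 : P.B.map (MulAut.conj t⁻¹).toMonoidHom =
      P.B.map (MulAut.conjNormal g : MulAut N).toMonoidHom := by
    ext x
    constructor
    · rintro ⟨b, hb, rfl⟩
      refine ⟨(MulAut.conjNormal g : MulAut N)⁻¹ (t⁻¹ * b * t), ?_, ?_⟩
      · have h2 := (ht ((MulAut.conjNormal g : MulAut N)⁻¹ (t⁻¹ * b * t))).1 (by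
          rw [MulAut.mul_apply, MulAut.apply_inv_self, MulAut.conj_apply]
          have h3 : t * (t⁻¹ * b * t) * t⁻¹ = b := by group
          rw [h3]
          exact hb)
        exact h2
      · show (MulAut.conjNormal g : MulAut N) ((MulAut.conjNormal g : MulAut N)⁻¹ (t⁻¹ * b * t)) =
          t⁻¹ * b * (t⁻¹)⁻¹
        rw [MulAut.apply_inv_self, inv_inv]
    · rintro ⟨b, hb, rfl⟩
      refine ⟨t * (MulAut.conjNormal g : MulAut N) b * t⁻¹, ?_, ?_⟩
      · have h2 := (ht b).2 hb
        rw [MulAut.mul_apply, MulAut.conj_apply] at h2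
        exact h2
      · show t⁻¹ * (t * (MulAut.conjNormal g : MulAut N) b * t⁻¹) * (t⁻¹)⁻¹ =
          (MulAut.conjNormal g : MulAut N) b
        group
  rw [h1, Subgroup.map_map, Subgroup.map_map]
  congr 1
  ext x
  show (((MulAut.conjNormal g : MulAut N) a * (MulAut.conjNormal g : MulAut N) x *
    ((MulAut.conjNormal g : MulAut N) a)⁻¹ : N) : G) = ((MulAut.conjNormal g : MulAut N) (a * x * a⁻¹) : N)
  rw [map_mul, map_mul, map_inv]

/-- The chambers are the conjugates of `B`. -/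
noncomputable def chE : Ch N P ≃ cls P.B := clsEquiv (normalizer_B (P := P))

/-- The action of `G` on the chambers. -/
@[reducible] noncomputable def chAct (hS : Stab N P) : MulAction G (Ch N P) :=
  letI := actSet N (cls P.B) hS
  { smul := fun g x => chE.symm (g • chE x)
    one_smul := fun x => by
      show chE.symm ((1 : G) • chE x) = x
      rw [one_smul, Equiv.symm_apply_apply]
    mul_smul := fun g h x => by
      show chE.symm ((g * h) • chE x) = chE.symm (g • chE (chE.symm (h • chE x)))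
      rw [Equiv.apply_symm_apply, mul_smul] }

/-- The chamber of an element. -/
def mk (a : N) : Ch N P := (QuotientGroup.mk a : N ⧸ P.B)

/-- The formula for the action. -/
theorem smul_mk (hS : Stab N P) (g : G) {t : N} (ht : Keep P (MulAut.conj t * MulAut.conjNormal g))
    (a : N) : (letI := chAct hS; g • (mk a : Ch N P)) =
      mk ((MulAut.conjNormal g : MulAut N) a * t⁻¹) := by
  letI := actSet N (cls P.B) hS
  show chE.symm (g • chE (mk a : Ch N P)) = _
  rw [Equiv.symm_apply_eq]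
  apply Subtype.ext
  show cmap N g (P.B.map (MulAut.conj a).toMonoidHom) =
    P.B.map (MulAut.conj ((MulAut.conjNormal g : MulAut N) a * t⁻¹)).toMonoidHom
  unfold cmap
  rw [← map_conj_conj]
  have h1 : P.B.map (MulAut.conj t⁻¹).toMonoidHom =
      P.B.map (MulAut.conjNormal g : MulAut N).toMonoidHom := by
    ext x
    constructor
    · rintro ⟨b, hb, rfl⟩
      refine ⟨(MulAut.conjNormal g : MulAut N)⁻¹ (t⁻¹ * b * t), ?_, ?_⟩
      · have h2 := (ht ((MulAut.conjNormal g : MulAut N)⁻¹ (t⁻¹ * b * t))).1 (by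
          rw [MulAut.mul_apply, MulAut.apply_inv_self, MulAut.conj_apply]
          have h3 : t * (t⁻¹ * b * t) * t⁻¹ = b := by group
          rw [h3]
          exact hb)
        exact h2
      · show (MulAut.conjNormal g : MulAut N) ((MulAut.conjNormal g : MulAut N)⁻¹ (t⁻¹ * b * t)) =
          t⁻¹ * b * (t⁻¹)⁻¹
        rw [MulAut.apply_inv_self, inv_inv]
    · rintro ⟨b, hb, rfl⟩
      refine ⟨t * (MulAut.conjNormal g : MulAut N) b * t⁻¹, ?_, ?_⟩
      · have h2 := (ht b).2 hb
        rw [MulAut.mul_apply, MulAut.conj_apply] at h2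
        exact h2
      · show t⁻¹ * (t * (MulAut.conjNormal g : MulAut N) b * t⁻¹) * (t⁻¹)⁻¹ =
          (MulAut.conjNormal g : MulAut N) b
        group
  rw [h1, Subgroup.map_map, Subgroup.map_map]
  congr 1
  ext x
  show ((MulAut.conjNormal g : MulAut N) (a * x * a⁻¹) : N) =
    (((MulAut.conjNormal g : MulAut N) a * (MulAut.conjNormal g : MulAut N) x *
    ((MulAut.conjNormal g : MulAut N) a)⁻¹ : N) : G)
  rw [map_mul, map_mul, map_inv]

/-- The action extends the action by left translations. -/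
theorem coe_smul (hS : Stab N P) (n a : N) :
    (letI := chAct hS; (n : G) • (mk a : Ch N P)) = mk (n * a) := by
  have h1 : Keep P (MulAut.conj n⁻¹ * MulAut.conjNormal (n : G)) := by
    have h2 : MulAut.conj n⁻¹ * (MulAut.conjNormal (n : G) : MulAut N) = 1 := by
      rw [conjNormal_coe, ← map_mul, inv_mul_cancel, map_one]
    rw [h2]
    exact Keep.one
  rw [smul_mk hS (n : G) h1, conjNormal_coe, MulAut.conj_apply, inv_inv]
  congr 1
  group

end act

section types

variable {G : Type u} [Group G] {N : Subgroup G} [hNn : N.Normal] {P : Cfsg.BNPair N} [Finite N]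
variable [hN : ((P.B ⊓ P.N).subgroupOf P.N).Normal]
variable {I : Type*} {M : CoxeterMatrix I} (e : I ≃ P.S) (cs : CoxeterSystem M (WP P))
  (hcs : ∀ i, cs.simple i = QuotientGroup.mk (⟨(e i : N), P.subset (e i).2⟩ : P.N))

/-- The distance of the chambers. -/
noncomputable def dl (x y : Ch N P) : WP P := dist P x y

theorem dl_mk (a b : N) : dl (mk a : Ch N P) (mk b) = wt P (a⁻¹ * b) := dist_mk P a b

/-- The Hecke matrices in terms of the distance. -/
theorem T_eq (w : P.N) (x y : Ch N P) :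
    (T P (w : N) : Matrix (N ⧸ P.B) (N ⧸ P.B) ℝ) x y =
      (open Classical in if dl x y = QuotientGroup.mk w then 1 else 0) := by
  classical
  obtain ⟨a, rfl⟩ := QuotientGroup.mk_surjective (s := P.B) x
  obtain ⟨b, rfl⟩ := QuotientGroup.mk_surjective (s := P.B) y
  rw [T_apply]
  have h1 : R P (w : N) (QuotientGroup.mk a : N ⧸ P.B) (QuotientGroup.mk b) ↔
      dl (mk a : Ch N P) (mk b) = QuotientGroup.mk w := by
    rw [R_mk_iff, dl_mk, wt_eq_iff]
  show (if R P (w : N) (QuotientGroup.mk a : N ⧸ P.B) (QuotientGroup.mk b) then (1 : ℝ) else 0) =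
    if dl (mk a : Ch N P) (mk b) = QuotientGroup.mk w then 1 else 0
  by_cases h2 : R P (w : N) (QuotientGroup.mk a : N ⧸ P.B) (QuotientGroup.mk b)
  · rw [if_pos h2, if_pos (h1.1 h2)]
  · rw [if_neg h2, if_neg (fun h => h2 (h1.2 h))]

/-- **The action and the distance.** -/
theorem dl_smul (hS : Stab N P) (g : G) {t : N} (ht : Keep P (MulAut.conj t * MulAut.conjNormal g))
    (x y : Ch N P) : (letI := chAct hS; dl (g • x) (g • y)) =
      fW P (MulAut.conj t * MulAut.conjNormal g) (dl x y) := by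
  obtain ⟨a, rfl⟩ := QuotientGroup.mk_surjective (s := P.B) x
  obtain ⟨b, rfl⟩ := QuotientGroup.mk_surjective (s := P.B) y
  letI := chAct hS
  have h1 : g • (mk a : Ch N P) = mk ((MulAut.conjNormal g : MulAut N) a * t⁻¹) := smul_mk hS g ht a
  have h2 : g • (mk b : Ch N P) = mk ((MulAut.conjNormal g : MulAut N) b * t⁻¹) := smul_mk hS g ht b
  show dl (g • (mk a : Ch N P)) (g • mk b) =
    fW P (MulAut.conj t * MulAut.conjNormal g) (dl (mk a : Ch N P) (mk b))
  rw [h1, h2, dl_mk, dl_mk, fW_wt _ ht]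
  congr 1
  rw [MulAut.mul_apply, MulAut.conj_apply, map_mul, map_inv]
  group

include hcs in
/-- The Hecke matrices of the fundamental reflections are permuted by `G`. -/
theorem T_smul (hS : Stab N P) [Cox cs] (g : G) {t : N}
    (ht : Keep P (MulAut.conj t * MulAut.conjNormal g)) (i : I) (x y : Ch N P) :
    (letI := chAct hS; (T P (e (sg e cs hcs ht i) : N) : Matrix (N ⧸ P.B) (N ⧸ P.B) ℝ) (g • x) (g • y)) =
      (T P (e i : N) : Matrix (N ⧸ P.B) (N ⧸ P.B) ℝ) x y := by
  classical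
  letI := chAct hS
  have h1 := T_eq (P := P) ⟨(e (sg e cs hcs ht i) : N), P.subset (e (sg e cs hcs ht i)).2⟩
    (g • x) (g • y)
  have h2 := T_eq (P := P) ⟨(e i : N), P.subset (e i).2⟩ x y
  rw [← hcs] at h1 h2
  refine h1.trans (Eq.trans ?_ h2.symm)
  have h3 : dl (g • x) (g • y) = fW P (MulAut.conj t * MulAut.conjNormal g) (dl x y) :=
    dl_smul hS g ht x y
  rw [h3, ← fW_simple' e cs hcs ht i]
  have hinj : Function.Injective (fW P (MulAut.conj t * MulAut.conjNormal g)) := fW_injective _ ht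
  simp only [hinj.eq_iff]

end types

end Cfsg.Agent.H610.EB
end

-- part: H610/EB/Cham2
section
/-!
# Framework F on the chambers of a (B,N)-pair of rank two
-/

set_option autoImplicit false
set_option linter.unusedSectionVars false
set_option linter.style.haveILetI false

namespace Cfsg.Agent.H610.EB

open Cfsg Cfsg.Agent.H694 Cfsg.Agent.H694.EB
open scoped ComplexConjugate
open Cfsg.Agent.Characters.Core
open Cfsg.Agent.LieExceptional.BNPairCore Cfsg.Agent.Tits.Core Cfsg.Agent.Tits.Core.Bldg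
  Cfsg.Agent.Tits.OfBN Cfsg.Agent.Schreier.BNSch Cfsg.Agent.Tits.OppRes Cfsg.Agent.FixBN
  Cfsg.Agent.FixBN.TwOfBN Cfsg.Agent.OddHalf.Table.AutBldg
open Cfsg.Agent.LieRecognition.FeitHigmanGroup (R T T_apply R_mk_iff q T_sq alt)
open Cfsg.Agent.H740.Eight.Hecke (Inv mem_span T_mul_mem Tc)
open Cfsg.Agent.H740.Eight.HeckeDeg (hecke_data)

universe u v

section prim

variable {K : Type u} [Group K] [Finite K] {P : BNPair K} [Fintype (K ⧸ P.B)] [DecidableEq (K ⧸ P.B)]

/-- **Primitive idempotents of the Hecke algebra.** -/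
theorem prim_of {s t : K} (hS : P.S = {s, t}) {e : Matrix (K ⧸ P.B) (K ⧸ P.B) ℝ}
    (he : e * e = e) {α c₁ c₂ c₃ : ℝ} (h1 : T P s * e = α • e)
    (h2 : T P s * (T P t * e) = c₁ • e + c₂ • (T P t * e)) (h3 : e * (T P t * e) = c₃ • e)
    (Mx : Matrix (K ⧸ P.B) (K ⧸ P.B) ℂ) (hM : Inv K Mx) :
    ∃ c : ℂ, e.map Complex.ofReal * Mx * e.map Complex.ofReal = c • e.map Complex.ofReal := by
  classical
  have ht : t ∈ P.S := by rw [hS]; simp
  set U : Submodule ℝ (Matrix (K ⧸ P.B) (K ⧸ P.B) ℝ) := Submodule.span ℝ {e, T P t * e} with hU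
  have heU : e ∈ U := Submodule.subset_span (by simp only [_root_.Set.mem_insert_iff, _root_.Set.mem_singleton_iff, _root_.true_or])
  have hfU : T P t * e ∈ U := Submodule.subset_span (by simp only [_root_.Set.mem_insert_iff, _root_.Set.mem_singleton_iff, _root_.or_true])
  have hA : ∀ x ∈ U, T P s * x ∈ U := by
    intro x hx
    obtain ⟨a, b, rfl⟩ := Submodule.mem_span_pair.1 hx
    rw [mul_add, mul_smul_comm, mul_smul_comm, h1, h2]
    exact U.add_mem (U.smul_mem _ (U.smul_mem _ heU)) (U.smul_mem _ (U.add_mem (U.smul_mem _ heU) (U.smul_mem _ hfU)))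
  have hB : ∀ x ∈ U, T P t * x ∈ U := by
    intro x hx
    obtain ⟨a, b, rfl⟩ := Submodule.mem_span_pair.1 hx
    rw [mul_add, mul_smul_comm, mul_smul_comm, ← mul_assoc (T P t) (T P t), T_sq ht, add_mul, smul_mul_assoc,
      smul_mul_assoc, one_mul]
    exact U.add_mem (U.smul_mem _ hfU) (U.smul_mem _ (U.add_mem (U.smul_mem _ hfU) (U.smul_mem _ heU)))
  have hcor : ∀ w : K, ∃ c : ℝ, e * T P w * e = c • e := by
    intro w
    obtain ⟨a, b, hab⟩ := Submodule.mem_span_pair.1 (T_mul_mem hS U hA hB w heU)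
    refine ⟨a + b * c₃, ?_⟩
    rw [mul_assoc, ← hab, mul_add, mul_smul_comm, mul_smul_comm, he, h3, smul_smul, add_smul]
  have hmul : ∀ A B : Matrix (K ⧸ P.B) (K ⧸ P.B) ℝ, (A * B).map Complex.ofReal =
      A.map Complex.ofReal * B.map Complex.ofReal := fun A B => Matrix.map_mul (f := Complex.ofRealHom)
  refine Submodule.span_induction (p := fun M _ => ∃ c : ℂ,
    e.map Complex.ofReal * M * e.map Complex.ofReal = c • e.map Complex.ofReal) ?_ ?_ ?_ ?_ (mem_span hM)
  · rintro _ ⟨w, rfl⟩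
    obtain ⟨c, hc⟩ := hcor w
    refine ⟨c, ?_⟩
    show e.map Complex.ofReal * (T P w).map Complex.ofReal * e.map Complex.ofReal = _
    rw [← hmul, ← hmul, hc]
    ext x y
    simp
  · exact ⟨0, by simp⟩
  · rintro A B _ _ ⟨a, ha⟩ ⟨b, hb⟩
    exact ⟨a + b, by rw [mul_add, add_mul, ha, hb, add_smul]⟩
  · rintro a A _ ⟨b, hb⟩
    exact ⟨a * b, by rw [mul_smul_comm, smul_mul_assoc, hb, smul_smul]⟩

end prim

/-! ### Rational matrices -/

/-- The entries are rational. -/
def IsRat {X : Type*} (e : Matrix X X ℝ) : Prop := ∃ e₀ : Matrix X X ℚ, ∀ x y, e x y = (e₀ x y : ℝ)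

section rat

variable {X : Type*} [Fintype X] [DecidableEq X]

theorem IsRat.mul {e f : Matrix X X ℝ} (he : IsRat e) (hf : IsRat f) : IsRat (e * f) := by
  obtain ⟨e₀, he⟩ := he
  obtain ⟨f₀, hf⟩ := hf
  refine ⟨e₀ * f₀, fun x y => ?_⟩
  rw [Matrix.mul_apply, Matrix.mul_apply]
  push_cast
  exact Finset.sum_congr rfl fun z _ => by rw [he, hf]

omit [Fintype X] [DecidableEq X] in
theorem IsRat.add {e f : Matrix X X ℝ} (he : IsRat e) (hf : IsRat f) : IsRat (e + f) := by
  obtain ⟨e₀, he⟩ := he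
  obtain ⟨f₀, hf⟩ := hf
  refine ⟨e₀ + f₀, fun x y => ?_⟩
  rw [Matrix.add_apply, Matrix.add_apply, he, hf]
  push_cast
  rfl

omit [Fintype X] [DecidableEq X] in
theorem IsRat.smul {e : Matrix X X ℝ} (he : IsRat e) (c : ℚ) : IsRat ((c : ℝ) • e) := by
  obtain ⟨e₀, he⟩ := he
  refine ⟨c • e₀, fun x y => ?_⟩
  rw [Matrix.smul_apply, Matrix.smul_apply, he]
  simp

omit [Fintype X] in
theorem IsRat.one : IsRat (1 : Matrix X X ℝ) := by
  refine ⟨1, fun x y => ?_⟩
  rw [Matrix.one_apply, Matrix.one_apply]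
  split_ifs <;> simp

omit [Fintype X] [DecidableEq X] in
theorem IsRat.zero : IsRat (0 : Matrix X X ℝ) := ⟨0, fun x y => by simp⟩

theorem IsRat.pow {e : Matrix X X ℝ} (he : IsRat e) (n : ℕ) : IsRat (e ^ n) := by
  induction n with
  | zero => rw [pow_zero]; exact IsRat.one
  | succ n ih => rw [pow_succ]; exact ih.mul he

end rat

section hecke

variable {G : Type u} [Group G] [Fintype G] {M : Ideal AlgInt} {k : ℕ}
variable (N : Subgroup G) [hNn : N.Normal] [Fintype N] (J : Subgroup G) [hJn : J.Normal]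
  {P : Cfsg.BNPair N}

/-- The Hecke matrices on the chambers. -/
noncomputable def TC {N : Subgroup G} [N.Normal] {P : Cfsg.BNPair N} (w : N) :
    Matrix (Ch N P) (Ch N P) ℝ := T P w

variable {N}

/-- The instances on the quotient. -/
@[reducible] noncomputable def fq (P : Cfsg.BNPair N) : Fintype (N ⧸ P.B) :=
  (inferInstance : Fintype (Ch N P))

@[reducible] noncomputable def dq (P : Cfsg.BNPair N) : DecidableEq (N ⧸ P.B) :=
  (inferInstance : DecidableEq (Ch N P))

/-- Left translations. -/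
noncomputable def std (n : N) (x : Ch N P) : Ch N P := @HSMul.hSMul N (N ⧸ P.B) (N ⧸ P.B) _ n x

theorem isRat_TC (w : N) : IsRat (TC w : Matrix (Ch N P) (Ch N P) ℝ) := by
  classical
  refine ⟨Matrix.of fun x y => if R P w x y then 1 else 0, fun x y => ?_⟩
  have h1 : TC w x y = if R P w x y then 1 else 0 := T_apply w x y
  rw [h1, Matrix.of_apply]
  split_ifs <;> simp

theorem TC_sq {s : N} (hs : s ∈ P.S) : (TC s : Matrix (Ch N P) (Ch N P) ℝ) * TC s =
    ((q P s : ℝ) - 1) • TC s + (q P s : ℝ) • (1 : Matrix (Ch N P) (Ch N P) ℝ) := by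
  letI := fq P
  letI := dq P
  exact T_sq hs

theorem TC_data {s t : N} (hS : P.S = {s, t}) (hst : s ≠ t) {n : ℕ}
    (hn : ((P.B ⊓ P.N).subgroupOf P.N).index = 2 * n) :
    alt n (TC s : Matrix (Ch N P) (Ch N P) ℝ) (TC t) = alt n (TC t) (TC s) ∧
      ∀ k, 1 ≤ k → k ≤ n → (alt k (TC s : Matrix (Ch N P) (Ch N P) ℝ) (TC t)).trace = 0 ∧
        (alt k (TC t : Matrix (Ch N P) (Ch N P) ℝ) (TC s)).trace = 0 := by
  letI := fq P
  letI := dq P
  exact hecke_data hS hst hn

/-- **Framework F for the Hecke algebra of rank two.** -/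
theorem concl_of_hecke (hM : IsPModular 2 M) (hNJ : N ≤ J) (hodd : Odd (N.relIndex J))
    (hidx : ∃ j : ℕ, J.index = 2 ^ j) (hk : IsK G k) (hSt : Stab N P) {s t : N}
    (hS : P.S = {s, t}) {e : Matrix (Ch N P) (Ch N P) ℝ} (hinv : letI := chAct hSt; Inv G e)
    (hrat : IsRat e) (he : e * e = e) {α c₁ c₂ c₃ : ℝ} (h1 : TC s * e = α • e)
    (h2 : TC s * (TC t * e) = c₁ • e + c₂ • (TC t * e)) (h3 : e * (TC t * e) = c₃ • e)
    {d : ℕ} (htr : e.trace = d) (hd : Even d) (hd0 : d ≠ 0) (hmem : InB0 (cls P.B)) :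
    Concl M G N k := by
  classical
  letI := chAct hSt
  obtain ⟨e₀, he₀⟩ := hrat
  have hmul : ∀ A B : Matrix (Ch N P) (Ch N P) ℝ, (A * B).map Complex.ofReal =
      A.map Complex.ofReal * B.map Complex.ofReal := fun A B => Matrix.map_mul (f := Complex.ofRealHom)
  have hinv' : Inv G (e.map Complex.ofReal) := hinv.map Complex.ofReal
  have he' : e.map Complex.ofReal * e.map Complex.ofReal = e.map Complex.ofReal := by rw [← hmul, he]
  have hact : ∀ (n : N) (x : Ch N P), n • x = std n x := by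
    intro n x
    obtain ⟨a, rfl⟩ := QuotientGroup.mk_surjective (s := P.B) x
    exact coe_smul hSt n a
  have hprim : ∀ M : Matrix (Ch N P) (Ch N P) ℂ, Inv N M →
      ∃ c : ℂ, e.map Complex.ofReal * M * e.map Complex.ofReal = c • e.map Complex.ofReal := by
    intro Mx hMx
    letI := fq P
    letI := dq P
    refine prim_of (P := P) hS (e := e) he h1 h2 h3 Mx ?_
    intro n x y
    have h4 : Mx (n • (show Ch N P from x)) (n • (show Ch N P from y)) = Mx x y := hMx n x y
    have h5 := hact n x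
    have h6 := hact n y
    exact (congrArg₂ Mx h5.symm h6.symm).trans h4
  have htr' : (e.map Complex.ofReal).trace = (d : ℂ) := by
    have h5 : (e.map Complex.ofReal).trace = ((e.trace : ℝ) : ℂ) := by
      rw [Matrix.trace, Matrix.trace, Complex.ofReal_sum]
      rfl
    rw [h5, htr]
    simp
  refine concl_of_idem hM N J hNJ hodd hidx hk hinv' he' hprim htr' hd hd0
    (ic_pow_of_rat (ic_isCharacter hinv' he') e₀ (fun x y => by
      rw [Matrix.map_apply, he₀]
      simp) hk.coprime) ?_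
  intro φ hφ
  refine hmem M hM φ ?_
  have hirr : IsIrrCharacter N (ic N (e.map Complex.ofReal)) := by
    rw [← hφ]
    exact φ.2
  have h6 := mu_ic_ne_zero (G := N) (X := Ch N P) (Inv.sub' hinv' N) he' hirr
  rw [hφ]
  have h7 : permS (cls P.B) = fun g : N => (Nat.card {x : Ch N P // g • x = x} : ℂ) := by
    funext g
    rw [permS_cls normalizer_B]
    congr 1
    refine Nat.card_congr (Equiv.subtypeEquivRight fun x => ?_)
    have h8 := hact g x
    exact ⟨fun h => h8.trans h, fun h => h8.symm.trans h⟩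
  rw [h7]
  exact h6

end hecke

end Cfsg.Agent.H610.EB
end

-- part: LieRecognition/FeitHigmanArith
section
/-!
# The Feit–Higman theorem: number theory

If all the numbers `y_j = 2 √(a b) cos (π j / m)` (`0 < j < m`) satisfy the rational quadratic equations coming
from the integrality of the multiplicities of the two-dimensional representations of the Hecke algebra of the
dihedral group of order `4 m`, with parameters `a, b ≥ 2`, then `m ≤ 4`.
-/

set_option autoImplicit false

namespace Cfsg.Agent.LieRecognition.FeitHigmanArith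

open Real Polynomial

end Cfsg.Agent.LieRecognition.FeitHigmanArith
end

-- part: LieRecognition/FeitHigmanMatrix
section
/-!
# The Feit–Higman theorem: matrix half

Two real matrices `A`, `B` satisfying the quadratic and braid relations of the Hecke algebra of the dihedral
group of order `2n`, all of whose alternating words of length `1, …, n` have trace zero, with integral
parameters `≥ 2`: then `n ∈ {2, 3, 4, 6, 8}`.
-/

set_option autoImplicit false

namespace Cfsg.Agent.LieRecognition.FeitHigmanMatrix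

open Polynomial Cfsg.Agent.LieRecognition.FeitHigmanHecke

variable {ι : Type*} [Fintype ι] [DecidableEq ι]

/-- The trace of an idempotent matrix is a natural number. -/
theorem trace_idem (E : Matrix ι ι ℝ) (h : E * E = E) : ∃ N : ℕ, E.trace = N := by
  have h1 : IsIdempotentElem (Matrix.toLin' E) := by
    show Matrix.toLin' E ∘ₗ Matrix.toLin' E = Matrix.toLin' E
    rw [← Matrix.toLin'_mul, h]
  refine ⟨Module.finrank ℝ (LinearMap.range (Matrix.toLin' E)), ?_⟩
  rw [← Matrix.trace_toLin'_eq]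
  exact (LinearMap.IsIdempotentElem.isProj_range _ h1).trace

end Cfsg.Agent.LieRecognition.FeitHigmanMatrix
end

-- part: H610/EB/HexAlg
section
/-!
# A central idempotent of the Hecke algebra of type `G₂`

`A² = (a-1)A + a`, `B² = (b-1)B + b`, `(AB)³ = (BA)³`, `r² = ab`. The idempotent `hp` of the
central element `Y` for the eigenvalue `-r`, and the trace of `hp (1 + A)`.
-/

set_option autoImplicit false
set_option linter.unusedSectionVars false

namespace Cfsg.Agent.H610.EB.Hex

open Polynomial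
open Cfsg.Agent.LieRecognition.FeitHigmanHecke (Y Y_def Y_symm Y_mul_A Y_mul_B Y_mul_AB comm_sq
  aeval_P_mul P P_zero P_one P_add_two)
open Cfsg.Agent.LieRecognition.FeitHigmanMatrix (trace_idem)
open Cfsg.Agent.H740.Eight.HeckeAlg

section alg

variable {M : Type*} [Ring M] [Algebra ℝ M] {A B : M} {a b r : ℝ}

/-- the polynomial `(X - (ab+1)) (X + (a+b)) (X - r)` -/
noncomputable def gp (a b r : ℝ) : ℝ[X] := (X - C (a * b + 1)) * (X + C (a + b)) * (X - C r)

theorem gp_eval (a b r x : ℝ) : (gp a b r).eval x = (x - (a * b + 1)) * (x + (a + b)) * (x - r) := by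
  simp [gp]

theorem gp_expand (a b r : ℝ) : gp a b r = X ^ 3 + C ((a + b) - (a * b + 1) - r) * X ^ 2 -
    C ((a * b + 1) * (a + b) + r * ((a + b) - (a * b + 1))) * X + C (r * ((a * b + 1) * (a + b))) := by
  rw [gp]
  simp only [map_mul, map_sub, map_add, map_one]
  ring

theorem aeval_lin (y : M) (u : ℝ) : aeval y (X - C u) = y - u • (1 : M) := by
  rw [map_sub, aeval_X, aeval_C, Algebra.algebraMap_eq_smul_one]

theorem aeval_lin' (y : M) (u : ℝ) : aeval y (X + C u) = y + u • (1 : M) := by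
  rw [map_add, aeval_X, aeval_C, Algebra.algebraMap_eq_smul_one]

theorem aeval_cubic (y : M) (c₂ c₁ c₀ : ℝ) :
    aeval y (X ^ 3 + C c₂ * X ^ 2 - C c₁ * X + C c₀) = y ^ 3 + c₂ • y ^ 2 - c₁ • y + c₀ • (1 : M) := by
  rw [map_add, map_sub, map_add, map_mul, map_mul, map_pow, map_pow, aeval_X, aeval_C, aeval_C,
    aeval_C, Algebra.algebraMap_eq_smul_one, Algebra.algebraMap_eq_smul_one,
    Algebra.algebraMap_eq_smul_one, smul_mul_assoc, smul_mul_assoc, one_mul, one_mul]

theorem aeval_gp (hA : A * A = (a - 1) • A + a • (1 : M)) (hB : B * B = (b - 1) • B + b • (1 : M))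
    (hbr : (A * B) ^ 3 = (B * A) ^ 3) (hr : r ^ 2 = a * b) :
    aeval (Y A B a b) ((X + C r) * gp a b r) = 0 := by
  have h1 := aeval_P_mul hA hB 2
  rw [hbr, sub_self] at h1
  have h2 : P (a * b) 2 = (X + C r) * (X - C r) := by
    rw [show (2 : ℕ) = 0 + 2 from rfl, P_add_two, P_zero, P_one, ← hr]
    simp only [map_pow]
    ring
  rw [h2] at h1
  have h3 : (X + C r) * gp a b r = ((X + C r) * (X - C r)) * ((X - C (a * b + 1)) * (X + C (a + b))) := by
    rw [gp]
    ring
  rw [h3, map_mul, map_mul _ (X - C (a * b + 1)) _, aeval_lin, aeval_lin', ← comm_sq hA hB, ← mul_assoc, h1, zero_mul]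

theorem Y_gp (hA : A * A = (a - 1) • A + a • (1 : M)) (hB : B * B = (b - 1) • B + b • (1 : M))
    (hbr : (A * B) ^ 3 = (B * A) ^ 3) (hr : r ^ 2 = a * b) :
    Y A B a b * aeval (Y A B a b) (gp a b r) = (-r) • aeval (Y A B a b) (gp a b r) := by
  have h1 := aeval_gp hA hB hbr hr
  rw [map_mul, aeval_lin', add_mul, smul_mul_assoc, one_mul] at h1
  rw [neg_smul, eq_neg_iff_add_eq_zero]
  exact h1

theorem aeval_mul_eigen {y x : M} {θ : ℝ} (h : y * x = θ • x) (g : ℝ[X]) :
    aeval y g * x = g.eval θ • x := by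
  induction g using Polynomial.induction_on' with
  | add p q hp hq => rw [map_add, add_mul, hp, hq, eval_add, add_smul]
  | monomial n c =>
    rw [aeval_monomial, eval_monomial, Algebra.algebraMap_eq_smul_one, smul_mul_assoc, one_mul,
      smul_mul_assoc]
    have h2 : ∀ n : ℕ, y ^ n * x = θ ^ n • x := by
      intro n
      induction n with
      | zero => rw [pow_zero, one_mul, pow_zero, one_smul]
      | succ n ih => rw [pow_succ', mul_assoc, ih, mul_smul_comm, h, smul_smul, pow_succ]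
    rw [h2, smul_smul]

/-- the value of the polynomial at `-r` -/
noncomputable def cc (a b r : ℝ) : ℝ := 2 * r * (r ^ 2 + r + 1) * (a + b - r)

theorem cc_eq (hr : r ^ 2 = a * b) : (gp a b r).eval (-r) = cc a b r := by
  rw [gp_eval, cc]
  linear_combination (-(2 * r * (a + b - r))) * hr

/-- the idempotent -/
noncomputable def hp (A B : M) (a b r : ℝ) : M := (cc a b r)⁻¹ • aeval (Y A B a b) (gp a b r)

theorem hp_comm (hA : A * A = (a - 1) • A + a • (1 : M)) : A * hp A B a b r = hp A B a b r * A := by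
  have h1 : Commute A (Y A B a b) := (Y_mul_A hA).symm
  have h2 : Commute A (aeval (Y A B a b) (gp a b r)) := by
    rw [gp_expand, aeval_cubic]
    exact ((((h1.pow_right 3).add_right ((h1.pow_right 2).smul_right _)).sub_right
      (h1.smul_right _))).add_right ((Commute.one_right A).smul_right _)
  rw [hp, mul_smul_comm, smul_mul_assoc, h2.eq]

theorem Y_hp (hA : A * A = (a - 1) • A + a • (1 : M)) (hB : B * B = (b - 1) • B + b • (1 : M))
    (hbr : (A * B) ^ 3 = (B * A) ^ 3) (hr : r ^ 2 = a * b) :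
    Y A B a b * hp A B a b r = (-r) • hp A B a b r := by
  rw [hp, mul_smul_comm, Y_gp hA hB hbr hr, smul_comm]

theorem hp_sq (hA : A * A = (a - 1) • A + a • (1 : M)) (hB : B * B = (b - 1) • B + b • (1 : M))
    (hbr : (A * B) ^ 3 = (B * A) ^ 3) (hr : r ^ 2 = a * b) (hc : cc a b r ≠ 0) :
    hp A B a b r * hp A B a b r = hp A B a b r := by
  have h1 := aeval_mul_eigen (Y_hp hA hB hbr hr) (gp a b r)
  rw [cc_eq hr] at h1
  nth_rw 1 [hp]
  rw [smul_mul_assoc, h1, smul_smul, inv_mul_cancel₀ hc, one_smul]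

end alg

section trace

variable {X : Type*} [Fintype X] [DecidableEq X] {A B : Matrix X X ℝ} {a b r : ℝ}

/-- **The trace.** -/
theorem trace_hp (hA : A * A = (a - 1) • A + a • (1 : Matrix X X ℝ))
    (hB : B * B = (b - 1) • B + b • (1 : Matrix X X ℝ)) (hr : r ^ 2 = a * b)
    (hAB : ∀ k, 1 ≤ k → k ≤ 3 → ((A * B) ^ k).trace = 0) (hAt : A.trace = 0) (hBt : B.trace = 0)
    {n : ℝ} (hN : (1 : Matrix X X ℝ).trace = n) (hc : cc a b r ≠ 0) :
    cc a b r * ((hp A B a b r).trace + (hp A B a b r * A).trace) = r ^ 3 * (1 + a) * n := by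
  set y := Y A B a b with hy
  have hcA : A * y = y * A := (Y_mul_A hA).symm
  have hcB : B * y = y * B := (Y_mul_B hB).symm
  have hkA : ∀ k : ℕ, A * y ^ k = y ^ k * A := fun k => (show Commute A y from hcA).pow_right k
  have hkB : ∀ k : ℕ, B * y ^ k = y ^ k * B := fun k => (show Commute B y from hcB).pow_right k
  have t : ∀ k : ℕ, (y ^ (k + 1)).trace = 2 * (y ^ k * (A * B)).trace - (b - 1) * (y ^ k * A).trace -
      (a - 1) * (y ^ k * B).trace + (a - 1) * (b - 1) * (y ^ k).trace := by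
    intro k
    have := tr_Y (A := A) (B := B) (a := a) (b := b) (hkA k)
    rw [← hy, ← pow_succ] at this
    rw [this]
  have s : ∀ k : ℕ, (y ^ (k + 1) * A).trace = (a - 1) * (y ^ k * (A * B)).trace +
      2 * a * (y ^ k * B).trace - a * (b - 1) * (y ^ k).trace := by
    intro k
    have := tr_YA (B := B) (a := a) (b := b) hA (hkA k)
    rw [← hy, ← pow_succ] at this
    rw [this]
  have u : ∀ k : ℕ, (y ^ (k + 1) * B).trace = (b - 1) * (y ^ k * (A * B)).trace +
      2 * b * (y ^ k * A).trace - b * (a - 1) * (y ^ k).trace := by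
    intro k
    have := tr_YB (A := A) (a := a) (b := b) hB (hkA k) (hkB k)
    rw [← hy, ← pow_succ] at this
    rw [this]
  have v : ∀ k j : ℕ, (y ^ (k + 1) * (A * B) ^ (j + 1)).trace = (y ^ k * (A * B) ^ (j + 2)).trace +
      a * b * (y ^ k * (A * B) ^ j).trace := by
    intro k j
    have h1 : y * (A * B) ^ (j + 1) = (A * B) ^ (j + 2) + (a * b) • (A * B) ^ j := by
      have := Y_mul_AB hA hB
      rw [← hy] at this
      rw [pow_succ', ← mul_assoc, this, add_mul, smul_mul_assoc, one_mul, pow_succ', pow_succ', mul_assoc]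
    rw [pow_succ, mul_assoc, h1, mul_add, Matrix.trace_add, mul_smul_comm, Matrix.trace_smul, smul_eq_mul]
  have v01 := hAB 1 (by norm_num) (by norm_num)
  have v02 := hAB 2 (by norm_num) (by norm_num)
  have v03 := hAB 3 (by norm_num) (by norm_num)
  have v1 := v 0 0
  have v2 := v 1 0
  have v12 := v 0 1
  have t1 := t 0
  have t2 := t 1
  have t3 := t 2
  have s1 := s 0
  have s2 := s 1
  have s3 := s 2
  have u1 := u 0
  have u2 := u 1
  simp only [zero_add, pow_zero, pow_one, one_mul, mul_one] at v1 v2 v12 t1 t2 t3 s1 s2 s3 u1 u2 v01 v02 v03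
  rw [hN] at t1 s1 u1 v1
  have e1 : aeval y (gp a b r) = y ^ 3 + ((a + b) - (a * b + 1) - r) • y ^ 2 -
      ((a * b + 1) * (a + b) + r * ((a + b) - (a * b + 1))) • y +
      (r * ((a * b + 1) * (a + b))) • (1 : Matrix X X ℝ) := by
    rw [gp_expand, aeval_cubic]
  have e2 : cc a b r * ((hp A B a b r).trace + (hp A B a b r * A).trace) =
      (aeval y (gp a b r)).trace + (aeval y (gp a b r) * A).trace := by
    rw [hp, smul_mul_assoc, Matrix.trace_smul, Matrix.trace_smul, smul_eq_mul, smul_eq_mul, ← mul_add,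
      ← mul_assoc, mul_inv_cancel₀ hc, one_mul]
  rw [e2, e1]
  simp only [add_mul, sub_mul, smul_mul_assoc, one_mul, Matrix.trace_add, Matrix.trace_sub,
    Matrix.trace_smul, smul_eq_mul, hN]
  rw [t3, s3, v2, t2, s2, u2, v12, v03, v1, t1, s1, u1, v02, v01, hAt, hBt]
  have hb : r ^ 3 = r * (a * b) := by rw [pow_succ, hr]; ring
  rw [hb]
  ring

end trace

end Cfsg.Agent.H610.EB.Hex
end

-- part: H610/EB/HexG
section
/-!
# Groups of type `G₂` in odd characteristic: a principal series character of even degree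

`concl_fix_G2`: the conclusion of S4522 for `N ≤ J ≤ G` if `N` has a split (B,N)-pair of type `G₂` in odd
characteristic, the constituents of the permutation character on the chambers are in the principal `2`-block,
and `G` preserves the types.
-/

set_option autoImplicit false
set_option linter.unusedSectionVars false
set_option linter.style.haveILetI false

namespace Cfsg.Agent.H610.EB

open Cfsg Cfsg.Agent.H694 Cfsg.Agent.H694.EB
open scoped ComplexConjugate
open Cfsg.Agent.Characters.Core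
open Cfsg.Agent.LieExceptional.BNPairCore Cfsg.Agent.Tits.Core Cfsg.Agent.Tits.Core.Bldg
  Cfsg.Agent.Tits.OfBN Cfsg.Agent.Schreier.BNSch Cfsg.Agent.Tits.OppRes Cfsg.Agent.FixBN
  Cfsg.Agent.FixBN.TwOfBN Cfsg.Agent.OddHalf.Table.AutBldg
open Cfsg.Agent.LieRecognition.FeitHigmanGroup (R T T_apply R_mk_iff q T_sq alt two_le_q)
open Cfsg.Agent.LieRecognition.FeitHigmanHecke (Y Y_def)
open Cfsg.Agent.LieRecognition.FeitHigmanMatrix (trace_idem)
open Cfsg.Agent.H740.Eight.Hecke (Inv mem_span T_mul_mem Tc)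
open Cfsg.Agent.H740.Eight.HeckeDeg (hecke_data alt_two_mul)
open Cfsg.Agent.H740.Eight.HeckeAlg (ee ee_def ee_sq A_ee A_B_ee ee_B_ee)

universe u v

/-! ### Arithmetic -/

theorem hex_arith {a b n d : ℕ} {r : ℝ} (ha : Odd a) (hb : Odd b) (ha2 : 2 ≤ a) (hb2 : 2 ≤ b) (hr0 : 0 < r)
    (hr : r ^ 2 = a * b) (h4 : 4 ∣ n) (hn : 0 < n)
    (h : 2 * (r ^ 2 + r + 1) * (a + b - r) * d = r ^ 2 * n) : (∃ m : ℕ, r = m) ∧ Even d ∧ d ≠ 0 := by
  have hd0 : d ≠ 0 := by
    rintro rfl
    have h1 : (0 : ℝ) < r ^ 2 * n := by positivity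
    rw [← h] at h1
    simp at h1
  have ha2' : (2 : ℝ) ≤ a := by exact_mod_cast ha2
  have hb2' : (2 : ℝ) ≤ b := by exact_mod_cast hb2
  -- `r` is rational
  have h2 : r * (2 * d * ((a - 1) * (b - 1))) = 2 * d * ((a * b + 1) * (a + b) - a * b) - a * b * n := by
    have e1 : 2 * ((r ^ 2 + r + 1) * (a + b - r)) * d = r ^ 2 * n := by linarith only [h]
    have e2 : (r ^ 2 + r + 1) * (a + b - r) = (a * b + 1) * (a + b) - a * b - r * ((a - 1) * (b - 1)) := by
      have e3 : (r ^ 2 + r + 1) * (a + b - r) = (r ^ 2 + 1) * (a + b) - r ^ 2 + r * (a + b - r ^ 2 - 1) := by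
        ring
      rw [e3, hr]
      ring
    rw [e2, hr] at e1
    linarith only [e1]
  have hd' : (0 : ℝ) < d := by exact_mod_cast Nat.pos_of_ne_zero hd0
  have hne : (2 * (d : ℝ) * ((a - 1) * (b - 1))) ≠ 0 := by
    have e1 : (0 : ℝ) < (a : ℝ) - 1 := by linarith only [ha2']
    have e2 : (0 : ℝ) < (b : ℝ) - 1 := by linarith only [hb2']
    (clear * - hd0 e1 e2; positivity)
  have hrat : ¬ Irrational r := by
    rw [Irrational]
    push Not
    refine ⟨((2 * d * ((a * b + 1) * (a + b) - a * b) - a * b * n : ℤ) : ℚ) /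
      ((2 * d * ((a - 1) * (b - 1)) : ℤ) : ℚ), ?_⟩
    push_cast
    rw [div_eq_iff hne]
    exact h2.symm
  have hint : ∃ y : ℤ, r = y := by
    by_contra hcon
    exact hrat (irrational_nrt_of_notint_nrt 2 ((a * b : ℕ) : ℤ) (by rw [hr]; push_cast; ring) hcon (by norm_num))
  obtain ⟨y, hy⟩ := hint
  have hy0 : 0 < y := by
    rw [hy] at hr0
    exact_mod_cast hr0
  obtain ⟨m, rfl⟩ : ∃ m : ℕ, y = m := ⟨y.toNat, (Int.toNat_of_nonneg hy0.le).symm⟩
  refine ⟨⟨m, by rw [hy]; simp⟩, ?_, hd0⟩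
  have hm2 : m ^ 2 = a * b := by
    rw [hy] at hr
    exact_mod_cast hr
  have hmo : Odd m := by
    have h5 : Odd (m ^ 2) := by rw [hm2]; exact ha.mul hb
    exact Nat.Odd.of_mul_left (by rwa [pow_two] at h5)
  obtain ⟨k, rfl⟩ := h4
  have h6 : (2 * (m ^ 2 + m + 1) * (a + b - m) * d : ℤ) = m ^ 2 * (4 * k) := by
    rw [hy] at h
    exact_mod_cast h
  have h7 : (((m : ℤ) ^ 2 + m + 1) * (a + b - m)) * d = 2 * (m ^ 2 * k) := by linarith only [h6]
  have h8 : Odd (((m : ℤ) ^ 2 + m + 1) * (a + b - m)) := by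
    have hm' : Odd (m : ℤ) := by exact_mod_cast hmo
    have ha' : Odd (a : ℤ) := by exact_mod_cast ha
    have hb' : Odd (b : ℤ) := by exact_mod_cast hb
    refine Odd.mul ?_ ?_
    · exact (hm'.pow.add_odd hm').add_one
    · exact (ha'.add_odd hb').sub_odd hm'
  have h9 : Even ((((m : ℤ) ^ 2 + m + 1) * (a + b - m)) * d) := by
    rw [h7]
    exact even_two_mul _
  rcases Int.even_mul.1 h9 with h10 | h10
  · exact absurd h10 (Int.not_even_iff_odd.2 h8)
  · exact_mod_cast h10

/-! ### Rational matrices -/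

section rat

variable {X : Type*} [Fintype X] [DecidableEq X]

/-- The number is rational. -/
def RatR (c : ℝ) : Prop := ∃ c₀ : ℚ, c = c₀

theorem RatR.nat (n : ℕ) : RatR (n : ℝ) := ⟨n, by simp⟩

theorem RatR.one : RatR 1 := ⟨1, by simp⟩

theorem RatR.add {a b : ℝ} (ha : RatR a) (hb : RatR b) : RatR (a + b) := by
  obtain ⟨x, rfl⟩ := ha
  obtain ⟨y, rfl⟩ := hb
  exact ⟨x + y, by simp⟩

theorem RatR.sub {a b : ℝ} (ha : RatR a) (hb : RatR b) : RatR (a - b) := by
  obtain ⟨x, rfl⟩ := ha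
  obtain ⟨y, rfl⟩ := hb
  exact ⟨x - y, by simp⟩

theorem RatR.mul {a b : ℝ} (ha : RatR a) (hb : RatR b) : RatR (a * b) := by
  obtain ⟨x, rfl⟩ := ha
  obtain ⟨y, rfl⟩ := hb
  exact ⟨x * y, by simp⟩

theorem RatR.pow {a : ℝ} (ha : RatR a) (n : ℕ) : RatR (a ^ n) := by
  obtain ⟨x, rfl⟩ := ha
  exact ⟨x ^ n, by simp⟩

theorem RatR.inv {a : ℝ} (ha : RatR a) : RatR a⁻¹ := by
  obtain ⟨x, rfl⟩ := ha
  exact ⟨x⁻¹, by simp⟩

theorem IsRat.smul' {e : Matrix X X ℝ} (he : IsRat e) {c : ℝ} (hc : RatR c) : IsRat (c • e) := by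
  obtain ⟨c₀, rfl⟩ := hc
  exact he.smul c₀

theorem IsRat.sub {e f : Matrix X X ℝ} (he : IsRat e) (hf : IsRat f) : IsRat (e - f) := by
  have h1 := he.add (hf.smul (-1))
  have h2 : e - f = e + ((-1 : ℚ) : ℝ) • f := by
    push_cast
    module
  rw [h2]
  exact h1

theorem isRat_Y {A B : Matrix X X ℝ} (hA : IsRat A) (hB : IsRat B) {a b : ℝ} (ha : RatR a) (hb : RatR b) :
    IsRat (Y A B a b) := by
  rw [Y_def]
  exact ((((hA.mul hB).add (hB.mul hA)).sub (hA.smul' (hb.sub RatR.one))).sub (hB.smul' (ha.sub RatR.one))).add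
    (IsRat.one.smul' ((ha.sub RatR.one).mul (hb.sub RatR.one)))

theorem isRat_hp {A B : Matrix X X ℝ} (hA : IsRat A) (hB : IsRat B) {a b r : ℝ} (ha : RatR a) (hb : RatR b)
    (hr : RatR r) : IsRat (Hex.hp A B a b r) := by
  have hY := isRat_Y hA hB ha hb
  rw [Hex.hp, Hex.gp_expand, Hex.aeval_cubic]
  refine IsRat.smul' ?_ ?_
  · refine (((hY.pow 3).add ((hY.pow 2).smul' ?_)).sub (hY.smul' ?_)).add (IsRat.one.smul' ?_)
    · exact ((ha.add hb).sub ((ha.mul hb).add RatR.one)).sub hr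
    · exact (((ha.mul hb).add RatR.one).mul (ha.add hb)).add (hr.mul ((ha.add hb).sub ((ha.mul hb).add RatR.one)))
    · exact hr.mul (((ha.mul hb).add RatR.one).mul (ha.add hb))
  · refine RatR.inv ?_
    rw [Hex.cc]
    exact (((RatR.nat 2).mul hr).mul (((hr.pow 2).add hr).add RatR.one)).mul ((ha.add hb).sub hr)

theorem isRat_ee {A p : Matrix X X ℝ} (hA : IsRat A) (hp : IsRat p) {a : ℝ} (ha : RatR a) : IsRat (ee A p a) := by
  rw [ee_def]
  exact (hp.mul (IsRat.one.add hA)).smul' (RatR.one.add ha).inv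

end rat

/-! ### Invariant matrices -/

section inv

variable {G : Type*} [Group G] {X : Type*} [Fintype X] [DecidableEq X] [MulAction G X]

theorem inv_pow {M : Matrix X X ℝ} (hM : Inv G M) (n : ℕ) : Inv G (M ^ n) := by
  induction n with
  | zero => rw [pow_zero]; exact Inv.one
  | succ n ih => rw [pow_succ]; exact ih.mul hM

theorem inv_Y' {A B : Matrix X X ℝ} (hA : Inv G A) (hB : Inv G B) (a b : ℝ) : Inv G (Y A B a b) := by
  rw [Y_def]
  exact ((((hA.mul hB).add (hB.mul hA)).sub (hA.smul _)).sub (hB.smul _)).add (Inv.one.smul _)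

theorem inv_hp {A B : Matrix X X ℝ} (hA : Inv G A) (hB : Inv G B) (a b r : ℝ) :
    Inv G (Hex.hp A B a b r) := by
  have hY := inv_Y' hA hB a b
  rw [Hex.hp, Hex.gp_expand, Hex.aeval_cubic]
  exact ((((inv_pow hY 3).add ((inv_pow hY 2).smul _)).sub (hY.smul _)).add (Inv.one.smul _)).smul _

theorem inv_ee {A p : Matrix X X ℝ} (hA : Inv G A) (hp : Inv G p) (a : ℝ) : Inv G (ee A p a) := by
  rw [ee_def]
  exact (hp.mul (Inv.one.add hA)).smul _

end inv

/-! ### The number of chambers -/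

section four

variable {K : Type u} [Group K] [Finite K] {P : Cfsg.BNPair K}
variable [hN : ((P.B ⊓ P.N).subgroupOf P.N).Normal]
variable (e : Fin 2 ≃ P.S) (cs : CoxeterSystem CoxeterMatrix.G₂ (WP P))
  (hcs : ∀ i, cs.simple i = QuotientGroup.mk (⟨(e i : K), P.subset (e i).2⟩ : P.N))

include cs in
omit [Finite K] in
theorem card_WP_G2 : Nat.card (WP P) = 12 := by
  rw [Nat.card_congr cs.mulEquiv.toEquiv]
  exact Cfsg.Agent.S1092.result (⟨2, CoxeterMatrix.G₂⟩, 12) (by simp)

include hcs in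
theorem four_dvd_index_G2 {p : ℕ} [Fact p.Prime] (hp : Odd p) {U : Subgroup K} (S : Split P p U) :
    4 ∣ P.B.index := by
  have hs : ((e 0 : P.S) : K) ∈ P.S := (e 0).2
  have hPJ : PJ P e {0} = P.parabolic {((e 0 : P.S) : K)} := by
    unfold PJ
    rw [Set.image_singleton]
  have h1 : P.B.relIndex (P.parabolic {((e 0 : P.S) : K)}) * (P.parabolic {((e 0 : P.S) : K)}).index = P.B.index :=
    Subgroup.relIndex_mul_index (B_le_parabolic P _)
  rw [Cfsg.Agent.H580.RankTwo.relIndex_parabolic hs] at h1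
  obtain ⟨a, ha⟩ := Cfsg.Agent.H580.RankTwo.q_pow S hs
  have h2 : Even (1 + q P ((e 0 : P.S) : K)) := by
    rw [ha]
    exact odd_one.add_odd hp.pow
  have h3 : Even (P.parabolic {((e 0 : P.S) : K)}).index := by
    rw [← hPJ, Nat.even_iff, index_mod e cs hcs hp S {0}, ← Nat.even_iff]
    have h4 : Nat.card (WJ cs {0}) = 2 := by
      have h5 : WJ cs {0} = Subgroup.zpowers (cs.simple 0) := by
        unfold WJ
        rw [Set.image_singleton, Subgroup.zpowers_eq_closure]
      rw [h5, Nat.card_zpowers]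
      refine orderOf_eq_prime (cs.simple_sq 0) fun h => ?_
      have h6 := cs.length_simple 0
      rw [h, cs.length_one] at h6
      exact absurd h6 (by norm_num)
    have h6 := Subgroup.card_mul_index (WJ cs {0})
    rw [h4, card_WP_G2 cs] at h6
    exact ⟨3, by omega⟩
  rw [← h1]
  exact mul_dvd_mul (even_iff_two_dvd.1 h2) (even_iff_two_dvd.1 h3)

end four

/-! ### The conclusion -/

section main

variable {G : Type u} [Group G] [Fintype G] {M : Ideal AlgInt} {k : ℕ}
variable (N : Subgroup G) [hNn : N.Normal] [Fintype N] (J : Subgroup G) [hJn : J.Normal]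
  {P : Cfsg.BNPair N}
variable [hN : ((P.B ⊓ P.N).subgroupOf P.N).Normal]
variable (e : Fin 2 ≃ P.S) (cs : CoxeterSystem CoxeterMatrix.G₂ (WP P))
  (hcs : ∀ i, cs.simple i = QuotientGroup.mk (⟨(e i : N), P.subset (e i).2⟩ : P.N))

include hcs in
/-- **Type `G₂`, odd characteristic, the types are preserved.** -/
theorem concl_fix_G2 (hM : IsPModular 2 M) (hNJ : N ≤ J) (hodd : Odd (N.relIndex J))
    (hidx : ∃ j : ℕ, J.index = 2 ^ j) (hk : IsK G k) {p : ℕ} [Fact p.Prime] (hp : Odd p) {U : Subgroup N}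
    (S : Split P p U) (hB0 : InB0 (cls P.B))
    (hty : ∀ (g : G) (t : N) (ht : Keep P (MulAut.conj t * MulAut.conjNormal g)) (i : Fin 2),
      sg e cs hcs ht i = i) : Concl M G N k := by
  classical
  have hSt : Stab N P := stab_of_split S
  set s : N := (e 0 : N) with hs_def
  set t : N := (e 1 : N) with ht_def
  have hs : s ∈ P.S := (e 0).2
  have ht : t ∈ P.S := (e 1).2
  have hS : P.S = {s, t} := by
    ext x
    constructor
    · intro hx
      obtain ⟨i, hi⟩ := e.surjective ⟨x, hx⟩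
      have hi' : (e i : N) = x := congrArg Subtype.val hi
      fin_cases i
      · exact Or.inl hi'.symm
      · exact Or.inr hi'.symm
    · rintro (rfl | rfl)
      · exact hs
      · exact ht
  have hst : s ≠ t := by
    intro h
    have h1 : e 0 = e 1 := Subtype.ext h
    exact absurd (e.injective h1) (by decide)
  have hW : ((P.B ⊓ P.N).subgroupOf P.N).index = 2 * 6 := card_WP_G2 cs
  obtain ⟨hbr, htr⟩ := TC_data (P := P) hS hst hW
  obtain ⟨ea, hea⟩ := Cfsg.Agent.H580.RankTwo.q_pow S hs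
  obtain ⟨eb, heb⟩ := Cfsg.Agent.H580.RankTwo.q_pow S ht
  have hao : Odd (q P s) := by rw [hea]; exact hp.pow
  have hbo : Odd (q P t) := by rw [heb]; exact hp.pow
  have ha2 : 2 ≤ q P s := two_le_q hs
  have hb2 : 2 ≤ q P t := two_le_q ht
  have hA := TC_sq (P := P) hs
  have hB := TC_sq (P := P) ht
  set A : Matrix (Ch N P) (Ch N P) ℝ := TC s with hA_def
  set B : Matrix (Ch N P) (Ch N P) ℝ := TC t with hB_def
  set a : ℕ := q P s with ha_def
  set b : ℕ := q P t with hb_def
  set r : ℝ := Real.sqrt (a * b) with hr_def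
  have hab : (0 : ℝ) < (a : ℝ) * b := by
    have h1 : (0 : ℝ) < a := by exact_mod_cast (by omega : 0 < a)
    have h2 : (0 : ℝ) < b := by exact_mod_cast (by omega : 0 < b)
    (clear * - ha2 hb2; positivity)
  have hr : r ^ 2 = (a : ℝ) * b := Real.sq_sqrt hab.le
  have hr0 : 0 < r := Real.sqrt_pos.2 hab
  have hbr' : (A * B) ^ 3 = (B * A) ^ 3 := by
    rw [← alt_two_mul, ← alt_two_mul]
    exact hbr
  have hAt : A.trace = 0 := by
    have h1 := (htr 1 (by norm_num) (by norm_num)).1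
    rwa [Cfsg.Agent.LieRecognition.FeitHigmanGroup.alt_one] at h1
  have hBt : B.trace = 0 := by
    have h1 := (htr 1 (by norm_num) (by norm_num)).2
    rwa [Cfsg.Agent.LieRecognition.FeitHigmanGroup.alt_one] at h1
  have hABt : ∀ k, 1 ≤ k → k ≤ 3 → ((A * B) ^ k).trace = 0 := by
    intro k h1 h2
    rw [← alt_two_mul]
    exact (htr (2 * k) (by omega) (by omega)).1
  have hrlt : r < a + b := by
    have h1 : (0 : ℝ) < a := by exact_mod_cast (by omega : 0 < a)
    have h2 : (0 : ℝ) < b := by exact_mod_cast (by omega : 0 < b)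
    nlinarith only [hab, hr]
  have hc : Hex.cc (a : ℝ) b r ≠ 0 := by
    have h1 : 0 < (a : ℝ) + b - r := by linarith only [hrlt]
    rw [Hex.cc]
    (clear * - ha2 hb2 hrlt; positivity)
  have hcard : (1 : Matrix (Ch N P) (Ch N P) ℝ).trace = (P.B.index : ℝ) := by
    rw [Matrix.trace_one]
    have h1 : Fintype.card (Ch N P) = P.B.index := by
      rw [← Nat.card_eq_fintype_card]
      rfl
    rw [h1]
  have htrace := Hex.trace_hp hA hB hr hABt hAt hBt hcard hc
  set h : Matrix (Ch N P) (Ch N P) ℝ := Hex.hp A B (a : ℝ) b r with hh_def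
  have ha1 : (1 : ℝ) + a ≠ 0 := by positivity
  have hpA := Hex.hp_comm (B := B) (b := (b : ℝ)) (r := r) hA
  have hpp := Hex.hp_sq hA hB hbr' hr hc
  have hY := Hex.Y_hp hA hB hbr' hr
  rw [← hh_def] at hpA hpp hY
  set E : Matrix (Ch N P) (Ch N P) ℝ := ee A h (a : ℝ) with hE_def
  have hEE : E * E = E := ee_sq hA ha1 hpA hpp
  obtain ⟨d, hd⟩ := trace_idem E hEE
  have htrE : E.trace * (1 + a) = h.trace + (h * A).trace := by
    have h9 : h * (1 + A) = h + h * A := by rw [mul_add, mul_one]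
    rw [hE_def, ee_def, h9, Matrix.trace_smul, Matrix.trace_add, smul_eq_mul]
    field_simp
  have hkey : 2 * (r ^ 2 + r + 1) * (a + b - r) * d = r ^ 2 * (P.B.index : ℕ) := by
    rw [← htrE, hd] at htrace
    rw [Hex.cc] at htrace
    have h1 : (r * (1 + (a : ℝ))) * (2 * (r ^ 2 + r + 1) * (a + b - r) * d) =
        (r * (1 + (a : ℝ))) * (r ^ 2 * (P.B.index : ℕ)) := by
      linarith only [htrace]
    exact mul_left_cancel₀ (by (clear * - ha2 hb2; positivity)) h1
  have hidx0 : 0 < P.B.index := Nat.pos_of_ne_zero Subgroup.index_ne_zero_of_finite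
  obtain ⟨⟨m, hm⟩, hde, hd0⟩ := hex_arith hao hbo ha2 hb2 hr0 hr (four_dvd_index_G2 e cs hcs hp S) hidx0 hkey
  have hratr : RatR r := by
    rw [hm]
    exact RatR.nat m
  have hinvT : ∀ i : Fin 2, (letI := chAct hSt; Inv G (TC ((e i : P.S) : N) : Matrix (Ch N P) (Ch N P) ℝ)) := by
    intro i
    letI := chAct hSt
    intro g x y
    obtain ⟨t', ht'⟩ := exists_conj_keep S (MulAut.conjNormal g : MulAut N)
    have h1 := T_smul e cs hcs hSt g ht' i x y
    rw [hty g t' ht' i] at h1
    exact h1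
  refine concl_of_hecke J hM hNJ hodd hidx hk hSt hS (e := E) (α := a)
    (c₁ := -r + b - 1) (c₂ := -1) (c₃ := (-r + b - 1) / (1 + a)) ?_ ?_ hEE ?_ ?_ ?_ hd hde hd0 hB0
  · letI := chAct hSt
    exact inv_ee (hinvT 0) (inv_hp (hinvT 0) (hinvT 1) _ _ _) _
  · exact isRat_ee (isRat_TC s) (isRat_hp (isRat_TC s) (isRat_TC t) (RatR.nat a) (RatR.nat b) hratr) (RatR.nat a)
  · exact A_ee hA hpA
  · exact A_B_ee hA hY hpA
  · exact ee_B_ee hA ha1 hY hpA hpp

end main

end Cfsg.Agent.H610.EB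
end

private theorem dce_983cb59d7c7f : _root_.True := by
  try have : _root_.True := by simp only [_root_.Cfsg.Agent.H610.EB.Hex.cc.eq_1]
  try have : _root_.True := by simp only [_root_.Cfsg.Agent.H686.EB.CountsA.ph2.eq_1]
  try have : _root_.True := by simp only [_root_.Cfsg.Agent.H610.EB.Hex.hp.eq_1]
  try have : _root_.True := by simp only [_root_.Cfsg.Agent.H686.EB.CountsA.srt.eq_1]
  try have : _root_.True := by simp only [_root_.Cfsg.Agent.H686.EB.CountsA.dl.eq_1]
  try have : _root_.True := by simp only [_root_.Cfsg.Agent.H610.EB.Hex.gp.eq_1]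
  exact _root_.True.intro
end

-- part: H610/EB/G2Row_mg
section
prune_inst 0x5403000104000000000858021201c068000042000288000080000000000420804800940002011020a08000100000040000000000000000000040000000000000000000080084099c00090001288610000008000000000000000000000000004014010000
set_option linter.all false
open scoped Cfsg.Agent.FastGrp

-- part: H410/EBG/PermInner
section
/-!
# Constituents of permutation characters on cosets of nested self-normalizing subgroups
-/

set_option autoImplicit false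
set_option linter.style.haveILetI false

namespace Cfsg.Agent.H410.EBG

open Cfsg Cfsg.Agent.H694 Cfsg.Agent.H694.EB Cfsg.Agent.H610.EB
open Representation Module
open scoped ComplexConjugate
open Cfsg.Agent.Characters.Core

universe u

/-- The multiplicity in the permutation character is the dimension of the space of fixed vectors. -/
theorem inner_perm {S : Type u} [Group S] [Fintype S] {H : Subgroup S}
    (hH : Subgroup.normalizer (H : Set S) = H) {V : Type*} [AddCommGroup V] [Module ℂ V]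
    [FiniteDimensional ℂ V] (ρ : Representation ℂ S V) :
    classInner (permS (cls H)) ρ.character =
      (finrank ℂ (invariants (ρ.comp H.subtype)) : ℂ) := by
  classical
  haveI : Fintype H := Fintype.ofFinite _
  haveI : Fintype (S ⧸ H) := Fintype.ofFinite _
  have h0 := Cfsg.Agent.Classification.InvCentPL.QDChar.avg ρ H
  have hconj : conj ((finrank ℂ (invariants (ρ.comp H.subtype)) : ℂ)) =
      (finrank ℂ (invariants (ρ.comp H.subtype)) : ℂ) := Complex.conj_natCast _
  rw [← hconj, ← h0, map_mul, map_inv₀, Complex.conj_natCast, map_sum]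
  have h1 : ∀ g : S, ∑ s : S, (if s • (QuotientGroup.mk g : S ⧸ H) = QuotientGroup.mk g then
      conj (ρ.character s) else 0) = ∑ h : H, conj (ρ.character h) := by
    intro g
    have h2 : ∀ s : S, s • (QuotientGroup.mk g : S ⧸ H) = QuotientGroup.mk g ↔ g⁻¹ * s * g ∈ H := by
      intro s
      show (QuotientGroup.mk (s * g) : S ⧸ H) = QuotientGroup.mk g ↔ _
      rw [eq_comm, QuotientGroup.eq, mul_assoc]
    have h3 : ∑ s : S, (if s • (QuotientGroup.mk g : S ⧸ H) = QuotientGroup.mk g then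
        conj (ρ.character s) else 0) = ∑ t : S, (if t ∈ H then conj (ρ.character t) else 0) := by
      refine Fintype.sum_equiv (MulAut.conj g⁻¹).toEquiv _ _ fun s => ?_
      show _ = if g⁻¹ * s * g⁻¹⁻¹ ∈ H then conj (ρ.character (g⁻¹ * s * g⁻¹⁻¹)) else 0
      have h4 : ρ.character (g⁻¹ * s * g⁻¹⁻¹) = ρ.character s := by
        rw [Representation.char_conj]
      rw [h4, inv_inv]
      simp only [h2]
    rw [h3, ← Finset.sum_filter]
    rw [Finset.sum_subtype (Finset.univ.filter (· ∈ H)) (p := (· ∈ H)) (by intro x; simp)]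
  rw [classInner]
  have h5 : ∑ s : S, permS (cls H) s * conj (ρ.character s) =
      ∑ x : S ⧸ H, ∑ s : S, (if s • x = x then conj (ρ.character s) else 0) := by
    rw [Finset.sum_comm]
    refine Finset.sum_congr rfl fun s _ => ?_
    rw [permS_cls hH, Nat.card_eq_fintype_card, Fintype.card_subtype, ← Finset.sum_filter,
      Finset.sum_const, nsmul_eq_mul]
  have h6 : ∑ x : S ⧸ H, ∑ s : S, (if s • x = x then conj (ρ.character s) else 0) =
      ∑ _x : S ⧸ H, ∑ h : H, conj (ρ.character h) := by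
    refine Finset.sum_congr rfl fun x _ => ?_
    induction x using QuotientGroup.induction_on with
    | _ g => exact h1 g
  rw [h5, h6, Finset.sum_const, nsmul_eq_mul, Finset.card_univ, ← Nat.card_eq_fintype_card,
    Subgroup.card_eq_card_quotient_mul_card_subgroup H]
  have h7 : (Nat.card (S ⧸ H) : ℂ) ≠ 0 := by exact_mod_cast Nat.card_pos.ne'
  have h8 : (Nat.card H : ℂ) ≠ 0 := by exact_mod_cast Nat.card_pos.ne'
  push_cast
  field_simp

/-- A constituent of the permutation character on the cosets of a larger subgroup. -/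
theorem mu_ne_zero_of_le {S : Type u} [Group S] [Fintype S] {H K : Subgroup S}
    (hH : Subgroup.normalizer (H : Set S) = H) (hK : Subgroup.normalizer (K : Set S) = K)
    (hHK : H ≤ K) (φ : IrrCharacter S) (h : mu (permS (cls K)) (φ : S → ℂ) ≠ 0) :
    mu (permS (cls H)) (φ : S → ℂ) ≠ 0 := by
  obtain ⟨n, ρ, hρ, hφ⟩ := φ.2
  have h1 := inner_perm hH ρ
  have h2 := inner_perm hK ρ
  have h3 : mu (permS (cls K)) (φ : S → ℂ) = (finrank ℂ (invariants (ρ.comp K.subtype)) : ℤ) := by
    refine mu_eq ?_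
    rw [← hφ, h2]
    push_cast
    rfl
  have h4 : mu (permS (cls H)) (φ : S → ℂ) = (finrank ℂ (invariants (ρ.comp H.subtype)) : ℤ) := by
    refine mu_eq ?_
    rw [← hφ, h1]
    push_cast
    rfl
  have h5 := Cfsg.Agent.Classification.InvCentPL.QDChar.mono ρ hHK
  rw [h3] at h
  rw [h4]
  omega

theorem InB0.of_le {S : Type u} [Group S] [Fintype S] {H K : Subgroup S}
    (hH : Subgroup.normalizer (H : Set S) = H) (hK : Subgroup.normalizer (K : Set S) = K)
    (hHK : H ≤ K) (h : InB0 (cls H)) : InB0 (cls K) :=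
  fun m hm φ hφ => h m hm φ (mu_ne_zero_of_le hH hK hHK φ hφ)

end Cfsg.Agent.H410.EBG
end

-- part: H410/EBG/G2Count
section
/-!
# Double cosets of the maximal parabolic subgroups of the Weyl group of type `G₂`
-/

set_option autoImplicit false

namespace Cfsg.Agent.H410.EBG

open Cfsg.Agent.H694 Cfsg.Agent.ChevalleyStructure.CoxeterGeom Cfsg.Agent.Tits.Core
  Cfsg.Agent.Tits.OppRes

/-- the dominant functional -/
def cG : Fin 2 → ℤ := ![0, 1]

/-- its orbit -/
def phG : Fin 6 → Fin 2 → ℤ := ![![0, 1], ![3, -1], ![-3, 2], ![3, -2], ![-3, 1], ![0, -1]]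

/-- the simple reflections on the orbit -/
def sG : Fin 2 → Fin 6 → Fin 6 := ![![0, 2, 1, 4, 3, 5], ![1, 0, 3, 2, 5, 4]]

theorem parity_G2 {W : Type*} [Group W] [Finite W] (cs : CoxeterSystem CoxeterMatrix.G₂ W) :
    Nat.card (DoubleCoset.Quotient (WJ cs {0} : Set W) (WJ cs {0} : Set W)) = 4 ∧
      Nat.card (DoubleCoset.Quotient (WJ cs {0} : Set W) (WJ cs {1} : Set W)) = 3 := by
  obtain ⟨-, h2⟩ := count cs Nodes.RGDTwD4.isCartan (c := cG) (by decide) phG
    (by decide) 0 (by decide) sG (by decide) (fun y => (y : ℕ)) (by decide)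
  have h3 : {i | cG i = 0} = ({0} : Set (Fin 2)) := by
    ext i
    (revert i; simp only [cG, _root_.Fin.forall_fin_succ, _root_.Set.mem_ofPred_eq, Fin.isValue, _root_.Set.mem_singleton_iff, _root_.Matrix.cons_val_zero, _root_.Matrix.cons_val_succ, _root_.Matrix.cons_val_fin_one, _root_.one_ne_zero, _root_.Fin.succ_ne_zero, _root_.implies_true, _root_.and_self])
  rw [h3] at h2
  rw [h2, card_double_comm, h2]
  have h4 : ∀ (l : Fin 2) (y : Fin 6), (∀ i ∈ ({l} : Set (Fin 2)), 0 ≤ phG y i) ↔ 0 ≤ phG y l := by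
    intro l y
    simp
  rw [Nat.card_congr (Equiv.subtypeEquivRight (h4 0)), Nat.card_congr (Equiv.subtypeEquivRight (h4 1)),
    Nat.card_eq_fintype_card, Nat.card_eq_fintype_card]
  constructor <;> decide

end Cfsg.Agent.H410.EBG
end

-- part: H410/EBG/Swap
section
/-!
# Groups with a split (B, N)-pair of type `G₂` whose two types are exchanged

`concl_swap_G2`: the conclusion from the two classes of maximal parabolic subgroups.
-/

set_option autoImplicit false
set_option linter.unusedSectionVars false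
set_option linter.style.haveILetI false

namespace Cfsg.Agent.H410.EBG

open Cfsg Cfsg.Agent.H694 Cfsg.Agent.H694.EB Cfsg.Agent.H610.EB Cfsg.Agent.H684.EB Cfsg.Agent.H611.EB
open Cfsg.Agent.Characters.Core
open Cfsg.Agent.LieExceptional.BNPairCore Cfsg.Agent.Tits.Core
  Cfsg.Agent.Tits.OfBN Cfsg.Agent.Schreier.BNSch Cfsg.Agent.FixBN Cfsg.Agent.FixBN.TwOfBN
  Cfsg.Agent.OddHalf.Table.AutBldg Cfsg.Agent.Tits.OppRes

universe u

section

variable {K : Type u} [Group K] [Finite K] {P : Cfsg.BNPair K}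
variable [hN : ((P.B ⊓ P.N).subgroupOf P.N).Normal]
variable {I : Type*} [Finite I] {M : CoxeterMatrix I} (e : I ≃ P.S) (cs : CoxeterSystem M (WP P))
  (hcs : ∀ i, cs.simple i = QuotientGroup.mk (⟨(e i : K), P.subset (e i).2⟩ : P.N))

omit [Finite K] [Finite I] in
/-- The image of a parabolic subgroup under an automorphism preserving `B`. -/
theorem map_PJ_of_keep [Cox cs] {β : MulAut K} (hβ : Keep P β) (J : Set I) :
    (PJ P e J).map β.toMonoidHom = PJ P e (sg e cs hcs hβ '' J) := by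
  have h2 : ∀ x, x ∈ PJ P e J ↔ β x ∈ PJ P e (sg e cs hcs hβ '' J) := by
    intro x
    rw [mem_PJ e cs hcs, mem_PJ e cs hcs]
    have h3 : wt P (β x) = fW P β (wt P x) := (fW_wt β hβ x).symm
    rw [h3]
    let f : WP P →* WP P :=
      { toFun := fW P β
        map_one' := fW_one β hβ
        map_mul' := fW_mul β hβ e cs hcs }
    have hfinj : Function.Injective f := fW_injective β hβ
    have h4 : (WJ cs J).map f = WJ cs (sg e cs hcs hβ '' J) := by
      rw [WJ, WJ, MonoidHom.map_closure]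
      congr 1
      ext w
      constructor
      · rintro ⟨_, ⟨i, hi, rfl⟩, rfl⟩
        exact ⟨_, ⟨i, hi, rfl⟩, (fW_simple' e cs hcs hβ i).symm⟩
      · rintro ⟨_, ⟨i, hi, rfl⟩, rfl⟩
        exact ⟨_, ⟨i, hi, rfl⟩, fW_simple' e cs hcs hβ i⟩
    rw [← h4]
    constructor
    · intro h
      exact ⟨_, h, rfl⟩
    · rintro ⟨w, hw, hwx⟩
      have : w = wt P x := hfinj hwx
      rwa [← this]
  ext x
  constructor
  · rintro ⟨y, hy, rfl⟩
    exact (h2 y).1 hy
  · intro hx
    refine ⟨β⁻¹ x, (h2 _).2 ?_, ?_⟩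
    · rw [MulAut.apply_inv_self]
      exact hx
    · exact MulAut.apply_inv_self _ β x

omit [Finite K] [Finite I] in
/-- The classes of different standard parabolic subgroups are disjoint. -/
theorem cls_disjoint {J L : Set I} (hJL : J ≠ L) : Disjoint (cls (PJ P e J)) (cls (PJ P e L)) := by
  rw [Set.disjoint_left]
  rintro H ⟨g, rfl⟩ ⟨t, ht⟩
  have h1 : (PJ P e J).map (MulAut.conj (t⁻¹ * g)).toMonoidHom = PJ P e L := by
    rw [← map_conj_conj, ← ht, map_conj_conj, inv_mul_cancel, map_conj_one]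
  have h2 := Cfsg.Agent.S0313.result P (PJ_sub e J) (PJ_sub e L) _ h1
  have h3 := Cfsg.Agent.S0314.result P (PJ_sub e J) (PJ_sub e L) h2
  have hinj : Function.Injective (fun i => (e i : K)) := fun i j h =>
    e.injective (Subtype.ext h)
  exact hJL (hinj.image_injective h3)

omit [Finite K] [Finite I] in
/-- The image of a class under an automorphism, up to inner automorphisms. -/
theorem map_mem_cls [Cox cs] {α : MulAut K} {t : K} (hα : Keep P (MulAut.conj t * α)) (J : Set I)
    {H : Subgroup K} (hH : H ∈ cls (PJ P e J)) :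
    H.map α.toMonoidHom ∈ cls (PJ P e (sg e cs hcs hα '' J)) := by
  obtain ⟨s, rfl⟩ := hH
  refine ⟨α s * t⁻¹, ?_⟩
  rw [← map_PJ_of_keep e cs hcs hα J, Subgroup.map_map, Subgroup.map_map]
  congr 1
  ext x
  show (α s * t⁻¹) * (t * α x * t⁻¹) * (α s * t⁻¹)⁻¹ = α (s * x * s⁻¹)
  rw [map_mul, map_mul, map_inv]
  group

end

/-- **The conclusion from the two classes of maximal parabolic subgroups**, type `G₂`, when the types
are exchanged. -/
theorem concl_swap_G2 {G : Type u} [Group G] [Fintype G] {M : Ideal AlgInt} {k : ℕ}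
    (N J : Subgroup G) [N.Normal] [J.Normal] [Fintype N] (hNJ : N ≤ J) (hM : IsPModular 2 M)
    (hodd : Odd (N.relIndex J)) (hidx : ∃ j : ℕ, J.index = 2 ^ j) (hk : IsK G k)
    {P : Cfsg.BNPair N} {U : Subgroup N} {p : ℕ} [Fact p.Prime] (S : Split P p U)
    [hN : ((P.B ⊓ P.N).subgroupOf P.N).Normal] (e : Fin 2 ≃ P.S)
    (cs : CoxeterSystem CoxeterMatrix.G₂ (WP P))
    (hcs : ∀ i, cs.simple i = QuotientGroup.mk (⟨(e i : N), P.subset (e i).2⟩ : P.N))
    (hB0 : InB0 (cls P.B))
    (hsw : ∃ (g : G) (t : N) (ht : Keep P (MulAut.conj t * MulAut.conjNormal g)) (i : Fin 2),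
      sg e cs hcs ht i ≠ i) : Concl M G N k := by
  have hfin : Finite (WP P) := inferInstance
  have hC : Cox cs := inferInstance
  have hd01 : ({0} : Set (Fin 2)) ≠ {1} := by
    intro h
    have h1 : (0 : Fin 2) ∈ ({1} : Set (Fin 2)) := by
      rw [← h]
      exact Set.mem_singleton 0
    exact absurd h1 (by decide)
  have hdis : Disjoint (cls (PJ P e ({0} : Set (Fin 2)))) (cls (PJ P e ({1} : Set (Fin 2)))) :=
    cls_disjoint e hd01
  -- the type permutations
  have hperm : ∀ f : Fin 2 → Fin 2, Function.Injective f →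
      (∀ i, f i = i) ∨ (f 0 = 1 ∧ f 1 = 0) := by decide
  have hcase : ∀ g : G, ∀ (t : N) (ht : Keep P (MulAut.conj t * MulAut.conjNormal g)),
      ((∀ i, sg e cs hcs ht i = i) ∧
        (∀ H ∈ cls (PJ P e ({0} : Set (Fin 2))), cmap N g H ∈ cls (PJ P e ({0} : Set (Fin 2)))) ∧
        (∀ H ∈ cls (PJ P e ({1} : Set (Fin 2))), cmap N g H ∈ cls (PJ P e ({1} : Set (Fin 2))))) ∨
      ((sg e cs hcs ht 0 = 1) ∧
        (∀ H ∈ cls (PJ P e ({0} : Set (Fin 2))), cmap N g H ∈ cls (PJ P e ({1} : Set (Fin 2)))) ∧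
        (∀ H ∈ cls (PJ P e ({1} : Set (Fin 2))), cmap N g H ∈ cls (PJ P e ({0} : Set (Fin 2))))) := by
    intro g t ht
    have h1 : ∀ (l : Fin 2), ∀ H ∈ cls (PJ P e ({l} : Set (Fin 2))),
        cmap N g H ∈ cls (PJ P e ({sg e cs hcs ht l} : Set (Fin 2))) := by
      intro l H hH
      have h2 := map_mem_cls e cs hcs ht {l} hH
      rw [Set.image_singleton] at h2
      exact h2
    rcases hperm _ (sg_injective e cs hcs ht) with h | ⟨h, h'⟩
    · left
      refine ⟨h, ?_, ?_⟩
      · have := h1 0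
        rwa [h 0] at this
      · have := h1 1
        rwa [h 1] at this
    · right
      refine ⟨h, ?_, ?_⟩
      · have := h1 0
        rwa [h] at this
      · have := h1 1
        rwa [h'] at this
  have hkeep : ∀ g : G, ∃ t : N, Keep P (MulAut.conj t * MulAut.conjNormal g) := fun g =>
    exists_conj_keep S (MulAut.conjNormal g)
  refine concl_of_two_odd N J hNJ hM hodd hidx hk (cls (PJ P e ({0} : Set (Fin 2))))
    (cls (PJ P e ({1} : Set (Fin 2)))) hdis ⟨_, 1, rfl⟩ (fun g H hH => conj_mem_cls hH g)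
    ?_ ?_ ?_ ?_
  · intro g
    obtain ⟨t, ht⟩ := hkeep g
    rcases hcase g t ht with h | h
    · exact Or.inl h.2
    · exact Or.inr h.2
  · intro hall
    obtain ⟨g, t, ht, i, hi⟩ := hsw
    rcases hcase g t ht with h | h
    · exact hi (h.1 i)
    · have h1 : PJ P e ({0} : Set (Fin 2)) ∈ cls (PJ P e ({0} : Set (Fin 2))) :=
        ⟨1, map_conj_one _⟩
      exact Set.disjoint_left.1 hdis (hall g _ h1) (h.2.1 _ h1)
  · intro φ h1 _
    have hB : Subgroup.normalizer (P.B : Set N) = P.B := by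
      have h1 := Cfsg.Agent.S0312.result P (J := ∅) (Set.empty_subset _)
      have h2 : P.parabolic ∅ = P.B := by
        unfold Cfsg.BNPair.parabolic
        simp
      rwa [h2] at h1
    refine InB0.of_le hB (normalizer_PJ e {0}) (B_le_PJ e {0}) hB0 M hM φ ?_
    intro h2
    rw [h2] at h1
    exact absurd h1 (by decide)
  · rw [card_pairRel (normalizer_PJ e {0}) (normalizer_PJ e {0}),
      card_pairRel (normalizer_PJ e {0}) (normalizer_PJ e {1}), card_double e cs hcs,
      card_double e cs hcs, (parity_G2 cs).1, (parity_G2 cs).2]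
    decide

end Cfsg.Agent.H410.EBG
end

-- part: H410/EBG/Mink
section
/-!
An automorphism of odd order of `ℤ^I` which is trivial modulo two is trivial.
-/

set_option autoImplicit false

namespace Cfsg.Agent.H410.EBG

theorem mink {I : Type*} [Finite I] (φ : Module.End ℤ (I → ℤ)) (h2 : ∀ x i, (2 : ℤ) ∣ φ x i - x i) {m : ℕ} (hm : Odd m)
    (hφ : φ ^ m = 1) : φ = 1 := by
  have key : ∀ k : ℕ, 1 ≤ k → ∀ x i, (2 : ℤ) ^ k ∣ φ x i - x i := by
    intro k hk
    induction k, hk using Nat.le_induction with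
    | base => simpa only [_root_.pow_one] using h2
    | succ k hk ih =>
      -- `D` is divisible by `2 ^ k`
      have hD : ∀ x, ∃ y : I → ℤ, φ x = x + (2 : ℤ) ^ k • y := by
        intro x
        choose y hy using ih x
        refine ⟨y, ?_⟩
        funext i
        have := hy i
        rw [Pi.add_apply, Pi.smul_apply, smul_eq_mul]
        linarith only [this]
      have hj : ∀ (x y : I → ℤ), φ x = x + (2 : ℤ) ^ k • y → ∀ j : ℕ, ∃ z : I → ℤ,
          (φ ^ j) x = x + (j : ℤ) • ((2 : ℤ) ^ k • y) + (2 : ℤ) ^ (k + 1) • z := by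
        intro x y hxy j
        induction j with
        | zero => exact ⟨0, by simp⟩
        | succ j ihj =>
          obtain ⟨z, hz⟩ := ihj
          obtain ⟨y', hy'⟩ := hD y
          obtain ⟨l, rfl⟩ : ∃ l, k = l + 1 := ⟨k - 1, by omega⟩
          refine ⟨((j : ℤ) * 2 ^ l) • y' + φ z, ?_⟩
          rw [pow_succ', Module.End.mul_apply, hz, map_add, map_add, hxy, map_smul, map_smul, map_smul, hy']
          funext i
          simp only [Pi.add_apply, Pi.smul_apply, smul_eq_mul, Nat.cast_add, Nat.cast_one]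
          ring
      intro x i
      obtain ⟨y, hy⟩ := hD x
      obtain ⟨z, hz⟩ := hj x y hy m
      rw [hφ, Module.End.one_apply] at hz
      have h3 := congrFun hz i
      simp only [Pi.add_apply, Pi.smul_apply, smul_eq_mul] at h3
      have h4 : (m : ℤ) * ((2 : ℤ) ^ k * y i) = -(2 ^ (k + 1) * z i) := by linarith only [h3]
      have h5 : φ x i - x i = 2 ^ k * y i := by
        rw [hy, Pi.add_apply, Pi.smul_apply, smul_eq_mul]; ring
      rw [h5]
      obtain ⟨r, hr⟩ := hm
      subst hr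
      refine ⟨-z i - r * y i, ?_⟩
      have h6 : (2 : ℤ) ^ k * y i = -(2 ^ (k + 1) * z i) - 2 * (r : ℤ) * (2 ^ k * y i) := by
        have h7 := h4
        push_cast at h7
        linarith only [h7]
      rw [h6, pow_succ]
      ring_nf
  apply LinearMap.ext
  intro x
  rw [Module.End.one_apply]
  funext i
  by_contra hne
  have h3 : φ x i - x i ≠ 0 := sub_ne_zero.2 hne
  have h4 := key ((φ x i - x i).natAbs + 1) (by omega) x i
  have h5 : ((2 : ℤ) ^ ((φ x i - x i).natAbs + 1)).natAbs ≤ (φ x i - x i).natAbs := Int.natAbs_le_of_dvd_ne_zero h4 h3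
  rw [Int.natAbs_pow] at h5
  have h6 : (φ x i - x i).natAbs < 2 ^ (φ x i - x i).natAbs := Nat.lt_two_pow_self
  have h7 : (Int.natAbs 2) = 2 := rfl
  rw [h7, pow_succ] at h5
  omega

end Cfsg.Agent.H410.EBG
end

-- part: H410/EBG/Sign
section
/-!
# Root group data whose torus contains all sign elements: the permutation character on the Borel subgroups lies in the
principal `2`-block
-/

set_option autoImplicit false
set_option linter.unusedSectionVars false

namespace Cfsg.Agent.H410.EBG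

open CoxeterSystem Cfsg.Agent.ChevalleyStructure.CoxeterGeom Cfsg.Agent.Tits.Roots Cfsg.Agent.Tits.Core
  Cfsg.Agent.Nodes.Reps Cfsg.Agent.Nodes.BNOf Cfsg.Agent.Nodes.Bruhat Cfsg.Agent.Nodes.NormalForm
open Cfsg Cfsg.Agent.H694 Cfsg.Agent.H694.EB Cfsg.Agent.H610.EB

variable {I W Y : Type*} [Fintype I] [DecidableEq I] [Group W] [Group Y] {M : CoxeterMatrix I}
  {cs : CoxeterSystem M W} {A : I → I → ℤ} {h : IsCartan M A} {p : ℕ} {T : Subgroup Y} {n : I → Y}
  {X : (I → ℤ) → Subgroup Y}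

/-- the torus is commutative and contains the sign elements -/
structure Sgn (cs : CoxeterSystem M W) (h : IsCartan M A) (T : Subgroup Y) (X : (I → ℤ) → Subgroup Y) : Prop where
  comm : ∀ s ∈ T, ∀ t ∈ T, s * t = t * s
  ex : ∀ i : I, ∃ e ∈ T, e * e = 1 ∧ ∀ x, IsRoot cs h x → ∀ u ∈ X x,
    (Even (x i) → e * u * e⁻¹ = u) ∧ (Odd (x i) → e * u * e⁻¹ = u → u = 1)

/-- the elements of order at most two of the torus -/
def invs (T : Subgroup Y) : Set Y := {e | e ∈ T ∧ e * e = 1}

theorem invs_sub : invs T ⊆ T := fun _ he => he.1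

/-- every root has an odd coordinate -/
theorem exists_odd {x : I → ℤ} (hx : IsRoot cs h x) : ∃ i, Odd (x i) := by
  by_contra hcon
  push Not at hcon
  obtain ⟨w, j, rfl⟩ := hx
  have h1 : ∀ i, ∃ y, rep cs h w (sr j) i = 2 * y := by
    intro i
    obtain ⟨y, hy⟩ := Int.not_odd_iff_even.1 (hcon i)
    exact ⟨y, by rw [hy]; ring⟩
  choose y hy using h1
  have h2 : rep cs h w (sr j) = (2 : ℤ) • y := by
    funext i
    rw [hy, Pi.smul_apply, smul_eq_mul]
  have h3 : sr j = (2 : ℤ) • rep cs h w⁻¹ y := by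
    rw [← map_smul, ← h2, rep_inv_apply]
  have h4 := congrFun h3 j
  rw [sr_self, Pi.smul_apply, smul_eq_mul] at h4
  omega

variable (R : RGD cs h p T n X) (hS : Sgn cs h T X)

include R hS

theorem inf_centralizer_eq_bot {x : I → ℤ} (hx : IsRoot cs h x) : X x ⊓ Subgroup.centralizer (invs T) = ⊥ := by
  rw [Subgroup.eq_bot_iff_forall]
  rintro u ⟨hu, hc⟩
  obtain ⟨i, hi⟩ := exists_odd hx
  obtain ⟨e, heT, he2, he⟩ := hS.ex i
  apply (he x hx u hu).2 hi
  have h1 := Subgroup.mem_centralizer_iff.1 hc e ⟨heT, he2⟩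
  rw [h1, mul_inv_cancel_right]

/-- elements centralising the involutions of the torus lie in `N` -/
theorem exists_rp_of_centralizer [Finite W] (hG : GG cs h T X = ⊤) {g : Y} (hg : g ∈ Subgroup.centralizer (invs T)) :
    ∃ w, Rp cs R.nsys w g := by
  obtain ⟨u, hu, w, k, hk, -, v, hv, rfl⟩ := mem_centralizer R (invs_sub (T := T)) (by rw [hG]; exact Subgroup.mem_top g) hg
  have h1 : RGD.Sup (fun x => X x ⊓ Subgroup.centralizer (invs T)) (RGD.Pos cs h) = ⊥ := by
    rw [eq_bot_iff]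
    apply RGD.Sup_le
    intro z hz
    exact (inf_centralizer_eq_bot R hS hz.1).le
  rw [h1, Subgroup.mem_bot] at hu hv
  rw [hu, hv, one_mul, mul_one]
  exact ⟨w, hk⟩

/-- elements of odd order centralising the involutions of the torus lie in the torus -/
theorem mem_T_of_centralizer [Finite W] [Finite Y] (hG : GG cs h T X = ⊤) {g : Y}
    (hg : g ∈ Subgroup.centralizer (invs T)) (hodd : Odd (orderOf g)) : g ∈ T := by
  obtain ⟨w, hw⟩ := exists_rp_of_centralizer R hS hG hg
  have hpow : ∀ m : ℕ, Rp cs R.nsys (w ^ m) (g ^ m) := by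
    intro m
    induction m with
    | zero => rw [pow_zero, pow_zero]; exact rp_one
    | succ m ih => rw [pow_succ, pow_succ]; exact ih.mul hw
  have hwm : w ^ orderOf g = 1 := by
    have h1 := hpow (orderOf g)
    rw [pow_orderOf_eq_one] at h1
    exact R.eq_one_of_mem_B h1 (one_mem _)
  -- `w` is trivial modulo two on the simple roots
  have hpar : ∀ x, IsRoot cs h x → ∀ i, (2 : ℤ) ∣ rep cs h w x i - x i := by
    intro x hx i
    obtain ⟨e, heT, he2, he⟩ := hS.ex i
    have hcomm := Subgroup.mem_centralizer_iff.1 hg e ⟨heT, he2⟩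
    have hconj := R.conj_rp hw hx
    have hx' : IsRoot cs h (rep cs h w x) := hx.act w
    have key : Even (x i) ↔ Even (rep cs h w x i) := by
      constructor
      · intro hev
        by_contra hne
        rw [Int.not_even_iff_odd] at hne
        apply X_ne_bot R hx'
        rw [Subgroup.eq_bot_iff_forall]
        intro v hv
        apply (he _ hx' v hv).2 hne
        rw [← hconj, mem_cj] at hv
        have h2 := (he x hx _ hv).1 hev
        calc e * v * e⁻¹ = g * (e * (g⁻¹ * v * g) * e⁻¹) * g⁻¹ := by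
              have h3 : e * g⁻¹ = g⁻¹ * e := by
                rw [eq_inv_mul_iff_mul_eq, ← mul_assoc, ← hcomm, mul_assoc, mul_inv_cancel, mul_one]
              have h4 : g * (e * (g⁻¹ * v * g) * e⁻¹) * g⁻¹ = (g * (e * g⁻¹)) * v * (g * (e * g⁻¹))⁻¹ := by group
              rw [h4, h3, mul_inv_cancel_left]
          _ = g * (g⁻¹ * v * g) * g⁻¹ := by rw [h2]
          _ = v := by group
      · intro hev
        by_contra hne
        rw [Int.not_even_iff_odd] at hne
        apply X_ne_bot R hx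
        rw [Subgroup.eq_bot_iff_forall]
        intro v hv
        apply (he _ hx v hv).2 hne
        have h2 := (he _ hx' _ (R.conj_mem hw hx hv)).1 hev
        have h3 : e * (g * v * g⁻¹) * e⁻¹ = g * (e * v * e⁻¹) * g⁻¹ := by
          calc e * (g * v * g⁻¹) * e⁻¹ = (e * g) * v * (e * g)⁻¹ := by group
            _ = (g * e) * v * (g * e)⁻¹ := by rw [hcomm]
            _ = _ := by group
        rw [h3] at h2
        exact mul_left_cancel (mul_right_cancel h2)
    rcases Int.even_or_odd (x i) with h5 | h5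
    · exact ((key.1 h5).sub h5).two_dvd
    · have h6 : Odd (rep cs h w x i) := by
        rw [← Int.not_even_iff_odd, ← key, Int.not_even_iff_odd]; exact h5
      exact (h6.sub_odd h5).two_dvd
  have hall : ∀ (x : I → ℤ) i, (2 : ℤ) ∣ rep cs h w x i - x i := by
    intro x i
    have h2 : x = ∑ k, x k • sr k := by
      funext j
      simp only [Finset.sum_apply, sr, Pi.single_apply, _root_.zsmul_eq_mul, _root_.Pi.mul_apply, _root_.Pi.intCast_apply, _root_.Int.cast_eq, _root_.mul_ite, _root_.mul_one, _root_.MulZeroClass.mul_zero, _root_.Finset.sum_ite_eq, _root_.Finset.mem_univ, ↓ _root_.reduceIte]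
    have h3 : rep cs h w x i - x i = ∑ k, x k * (rep cs h w (sr k) i - sr k i) := by
      conv_lhs => rw [h2]
      rw [map_sum, Finset.sum_apply, Finset.sum_apply, ← Finset.sum_sub_distrib]
      refine Finset.sum_congr rfl fun k _ => ?_
      rw [map_smul, Pi.smul_apply, Pi.smul_apply, smul_eq_mul, smul_eq_mul, mul_sub]
    rw [h3]
    exact Finset.dvd_sum fun k _ => (hpar (sr k) (isRoot_sr cs h k) i).mul_left _
  have h7 : rep cs h w = 1 := by
    refine mink (rep cs h w) hall hodd ?_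
    rw [← map_pow, hwm, map_one]
  have h8 : w = 1 := rep_injective cs h (by rw [h7, map_one])
  rw [h8] at hw
  exact hw.mem_of_one

/-- **The number of conjugates of an element of odd order mapping `B` to `kB` is even** -/
theorem even_card [Finite W] [Finite Y] (hG : GG cs h T X = ⊤) {g : Y} (hodd : Odd (orderOf g)) {w : W} {k : Y}
    (hk : Rp cs R.nsys w k) (hw : w ≠ 1) :
    Even (Nat.card {x : Y // IsConj g x ∧ k⁻¹ * x ∈ RGD.B cs h T X}) := by
  classical
  let E : Subgroup Y :=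
    { carrier := invs T
      mul_mem' := by
        rintro a b ⟨ha, ha2⟩ ⟨hb, hb2⟩
        refine ⟨mul_mem ha hb, ?_⟩
        have h1 := hS.comm b hb a ha
        calc a * b * (a * b) = a * (b * a) * b := by group
          _ = a * (a * b) * b := by rw [h1]
          _ = (a * a) * (b * b) := by group
          _ = 1 := by rw [ha2, hb2, one_mul]
      one_mem' := ⟨one_mem _, one_mul 1⟩
      inv_mem' := by
        rintro a ⟨ha, ha2⟩
        exact ⟨inv_mem ha, by rw [← mul_inv_rev, ha2, inv_one]⟩ }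
  have hE : IsPGroup 2 E := by
    rintro ⟨a, ha, ha2⟩
    refine ⟨1, Subtype.ext ?_⟩
    show a ^ 2 ^ 1 = 1
    rw [pow_one, pow_two]
    exact ha2
  have hkN : ∀ t ∈ T, k⁻¹ * t * k ∈ T := by
    intro t ht
    have h1 := (mem_normalizer_iff_cj.1 hk.inv.mem_normalizer)
    have h2 : k⁻¹ * t * k⁻¹⁻¹ ∈ _root_.Cfsg.Agent.Nodes.Reps.cj k⁻¹ T := conj_mem_cj.2 ht
    rwa [h1, inv_inv] at h2
  let act : MulAction E {x : Y // IsConj g x ∧ k⁻¹ * x ∈ RGD.B cs h T X} :=
    { smul := fun e x => ⟨e * x.1 * (e : Y)⁻¹, x.2.1.trans (isConj_iff.2 ⟨e, rfl⟩), by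
        have h1 : k⁻¹ * ((e : Y) * x.1 * (e : Y)⁻¹) = (k⁻¹ * e * k) * (k⁻¹ * x.1) * (e : Y)⁻¹ := by group
        rw [h1]
        exact mul_mem (mul_mem (RGD.T_le_B (hkN e e.2.1)) x.2.2) (inv_mem (RGD.T_le_B e.2.1))⟩
      one_smul := fun x => Subtype.ext (by
        show ((1 : E) : Y) * x.1 * ((1 : E) : Y)⁻¹ = x.1
        simp only [_root_.OneMemClass.coe_one, _root_.one_mul, _root_.inv_one, _root_.mul_one])
      mul_smul := fun a b x => Subtype.ext (by
        show ((a * b : E) : Y) * x.1 * ((a * b : E) : Y)⁻¹ = a * (b * x.1 * (b : Y)⁻¹) * (a : Y)⁻¹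
        rw [Subgroup.coe_mul]
        group) }
  have h1 := hE.card_modEq_card_fixedPoints {x : Y // IsConj g x ∧ k⁻¹ * x ∈ RGD.B cs h T X}
  have h2 : Nat.card (MulAction.fixedPoints E {x : Y // IsConj g x ∧ k⁻¹ * x ∈ RGD.B cs h T X}) = 0 := by
    rw [Nat.card_eq_zero]
    left
    refine ⟨fun x => ?_⟩
    obtain ⟨⟨x, hx1, hx2⟩, hx3⟩ := x
    apply hw
    have hxc : x ∈ Subgroup.centralizer (invs T) := by
      rw [Subgroup.mem_centralizer_iff]
      intro e he
      have h3 := hx3 (⟨e, he⟩ : E)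
      have h4 : e * x * e⁻¹ = x := congrArg Subtype.val h3
      rwa [mul_inv_eq_iff_eq_mul] at h4
    have hxo : Odd (orderOf x) := by
      obtain ⟨c, hc⟩ := isConj_iff.1 hx1
      rw [← hc]
      have h5 : orderOf (c * g * c⁻¹) = orderOf g :=
        orderOf_injective (MulAut.conj c).toMonoidHom (MulAut.conj c).injective g
      rw [h5]
      exact hodd
    have hxT := mem_T_of_centralizer R hS hG hxc hxo
    have h6 : k⁻¹ ∈ RGD.B cs h T X := by
      have h7 : k⁻¹ = (k⁻¹ * x) * x⁻¹ := by group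
      rw [h7]
      exact mul_mem hx2 (inv_mem (RGD.T_le_B hxT))
    have h8 := R.eq_one_of_mem_B hk.inv h6
    rwa [inv_eq_one] at h8
  rw [h2] at h1
  rw [Nat.even_iff]
  exact h1

end Cfsg.Agent.H410.EBG
end

-- part: H410/EBG/Borel
section
/-!
# The constituents of `1_B^G` lie in the principal `2`-block

For a root group datum with commutative torus containing all sign elements.
-/

set_option autoImplicit false
set_option linter.unusedSectionVars false

namespace Cfsg.Agent.H410.EBG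

open CoxeterSystem Cfsg.Agent.ChevalleyStructure.CoxeterGeom Cfsg.Agent.Tits.Roots Cfsg.Agent.Tits.Core
  Cfsg.Agent.Nodes.Reps Cfsg.Agent.Nodes.BNOf Cfsg.Agent.Nodes.Bruhat Cfsg.Agent.Nodes.NormalForm
open Cfsg Cfsg.Agent.H694 Cfsg.Agent.H694.EB Cfsg.Agent.H610.EB

universe u

variable {I W : Type*} {Y : Type u} [Fintype I] [DecidableEq I] [Group W] [Group Y] {M : CoxeterMatrix I}
  {cs : CoxeterSystem M W} {A : I → I → ℤ} {h : IsCartan M A} {p : ℕ} {T : Subgroup Y} {n : I → Y}
  {X : (I → ℤ) → Subgroup Y}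

variable (R : RGD cs h p T n X) (hS : Sgn cs h T X)

include R in
theorem GG_eq_top (hgen : RGD.B cs h T X ⊔ NN cs R.nsys = ⊤) : GG cs h T X = ⊤ := by
  rw [eq_top_iff, ← hgen]
  exact sup_le B_le_GG (NN_le_GG R)

include hS in
/-- The number of conjugates of an element of odd order mapping a chamber to a different chamber is even. -/
theorem even_cn [Finite W] [Fintype Y] (hgen : RGD.B cs h T X ⊔ NN cs R.nsys = ⊤) {g : Y} (hodd : Odd (orderOf g))
    (x y : Y ⧸ RGD.B cs h T X) (hxy : x ≠ y) : Even (cn g x y) := by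
  have hG := GG_eq_top R hgen
  induction x using QuotientGroup.induction_on with
  | _ a =>
  induction y using QuotientGroup.induction_on with
  | _ b =>
  have hcell : b⁻¹ * a ∈ GG cs h T X := by rw [hG]; exact Subgroup.mem_top _
  obtain ⟨w, b₁, hb₁, k, hk, b₂, hb₂, hba⟩ := (mem_GG R).1 hcell
  have hw : w ≠ 1 := by
    rintro rfl
    apply hxy
    symm
    rw [QuotientGroup.eq, hba]
    exact mul_mem (mul_mem hb₁ (RGD.T_le_B hk.mem_of_one)) hb₂
  have h1 : (QuotientGroup.mk a : Y ⧸ RGD.B cs h T X) = (b * b₁) • (QuotientGroup.mk k : Y ⧸ RGD.B cs h T X) := by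
    show (QuotientGroup.mk a : Y ⧸ RGD.B cs h T X) = QuotientGroup.mk (b * b₁ * k)
    symm
    rw [QuotientGroup.eq]
    have h2 : (b * b₁ * k)⁻¹ * a = b₂ := by
      have h3 : a = b * (b₁ * k * b₂) := by rw [← hba]; group
      rw [h3]; group
    rw [h2]; exact hb₂
  have h2 : (QuotientGroup.mk b : Y ⧸ RGD.B cs h T X) = (b * b₁) • (QuotientGroup.mk 1 : Y ⧸ RGD.B cs h T X) := by
    show (QuotientGroup.mk b : Y ⧸ RGD.B cs h T X) = QuotientGroup.mk (b * b₁ * 1)
    rw [QuotientGroup.eq]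
    have h3 : b⁻¹ * (b * b₁ * 1) = b₁ := by group
    rw [h3]; exact hb₁
  rw [h1, h2, cn_smul]
  have h3 := even_card R hS hG hodd hk hw
  unfold cn
  have h4 : ∀ x : Y, (IsConj g x ∧ x • (QuotientGroup.mk 1 : Y ⧸ RGD.B cs h T X) = QuotientGroup.mk k) ↔
      (IsConj g x ∧ k⁻¹ * x ∈ RGD.B cs h T X) := by
    intro x
    have h5 : x • (QuotientGroup.mk 1 : Y ⧸ RGD.B cs h T X) = QuotientGroup.mk k ↔ k⁻¹ * x ∈ RGD.B cs h T X := by
      show (QuotientGroup.mk (x * 1) : Y ⧸ RGD.B cs h T X) = QuotientGroup.mk k ↔ _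
      rw [mul_one, eq_comm, QuotientGroup.eq]
    rw [h5]
  rw [Nat.card_congr (Equiv.subtypeEquivRight h4)]
  exact h3

include hS in
/-- **The constituents of the permutation character on the Borel subgroups lie in the principal `2`-block.** -/
theorem inB0_borel [Finite W] [Fintype Y] (hgen : RGD.B cs h T X ⊔ NN cs R.nsys = ⊤) :
    InB0 (cls (R.bnPair hgen).B) := by
  classical
  intro m hm φ hφ
  have hB : Subgroup.normalizer ((R.bnPair hgen).B : Set Y) = (R.bnPair hgen).B := by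
    have h1 := Cfsg.Agent.S0312.result (R.bnPair hgen) (J := ∅) (Set.empty_subset _)
    have h2 : (R.bnPair hgen).parabolic ∅ = (R.bnPair hgen).B := by
      unfold Cfsg.BNPair.parabolic
      simp only [_root_.Subgroup.closure_empty, _root_.bot_le, _root_.sup_of_le_left]
    rwa [h2] at h1
  have h1 := sum_ne_zero φ hφ
  simp only [permS_cls hB] at h1
  have := Fintype.ofFinite (Y ⧸ (R.bnPair hgen).B)
  refine mem_principalBlock (X := Y ⧸ (R.bnPair hgen).B) hm φ h1 fun g hg => ⟨1, ?_⟩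
  have hodd : Odd (orderOf g) := by
    rw [← Nat.not_even_iff_odd, even_iff_two_dvd]
    exact hg
  have hev : ∀ x y : Y ⧸ (R.bnPair hgen).B, x ≠ y → ((cn g x y : ℕ) : ZMod 2) = 0 := by
    intro x y hxy
    exact (ZMod.natCast_eq_zero_iff_even).2 (even_cn R hS hgen hodd x y hxy)
  rw [pow_one]
  ext x y
  rw [Matrix.sub_apply, Matrix.of_apply, Matrix.smul_apply, Matrix.one_apply, Matrix.zero_apply, smul_eq_mul]
  by_cases hxy : x = y
  · subst hxy
    rw [if_pos rfl, mul_one, ← sum_cn g x, Nat.cast_sum, Finset.sum_eq_single x, sub_self]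
    · intro y _ hy
      exact hev x y (Ne.symm hy)
    · intro hx
      exact absurd (Finset.mem_univ x) hx
  · rw [if_neg hxy, mul_zero, sub_zero]
    exact hev x y hxy

end Cfsg.Agent.H410.EBG
end

-- part: H410/EBG/Inst
section
/-!
# The groups `G₂(q)` and `³D₄(q)`, `q` odd
-/

set_option autoImplicit false
set_option linter.unusedSectionVars false

namespace Cfsg.Agent.H410.EBG

open CoxeterSystem Cfsg.Agent.ChevalleyStructure.CoxeterGeom Cfsg.Agent.Tits.Roots Cfsg.Agent.Tits.Core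
  Cfsg.Agent.Nodes.Reps Cfsg.Agent.Nodes.BNOf Cfsg.Agent.Nodes.Bruhat Cfsg.Agent.Nodes.NormalForm
open Cfsg Cfsg.Agent.H694 Cfsg.Agent.H694.EB Cfsg.Agent.H610.EB Cfsg.Agent.FixBN
open Cfsg.Lie Cfsg.Agent.ChevalleyStructure Cfsg.Agent.ChevalleyStructure.Elts

universe u

section

variable {I W Y : Type*} [Fintype I] [DecidableEq I] [Group W] [Group Y] {M : CoxeterMatrix I}
  {cs : CoxeterSystem M W} {A : I → I → ℤ} {h : IsCartan M A} {p : ℕ} {T : Subgroup Y} {n : I → Y}
  {X : (I → ℤ) → Subgroup Y}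

/-- sign elements acting by inversion -/
theorem Sgn.of_inv [Finite W] (R : RGD cs h p T n X) (hp : Odd p) (hT : ∀ s ∈ T, ∀ t ∈ T, s * t = t * s)
    (he : ∀ i : I, ∃ e ∈ T, e * e = 1 ∧ ∀ x, IsRoot cs h x → ∀ u ∈ X x,
      (Even (x i) → e * u * e⁻¹ = u) ∧ (Odd (x i) → e * u * e⁻¹ = u⁻¹)) : Sgn cs h T X where
  comm := hT
  ex i := by
    obtain ⟨e, heT, he2, he⟩ := he i
    refine ⟨e, heT, he2, fun x hx u hu => ⟨(he x hx u hu).1, fun ho hu1 => ?_⟩⟩
    have h1 := (he x hx u hu).2 ho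
    rw [hu1] at h1
    have h2 : u ^ 2 = 1 := by
      rw [pow_two]
      nth_rewrite 2 [h1]
      exact mul_inv_cancel u
    obtain ⟨k, hk⟩ := R.pgrp' hx ⟨u, hu⟩
    have h3 : u ^ p ^ k = 1 := congrArg Subtype.val hk
    have h4 : orderOf u ∣ 1 := by
      have h5 : Nat.Coprime 2 (p ^ k) := (Nat.coprime_two_left).2 hp.pow
      rw [← h5]
      exact Nat.dvd_gcd (orderOf_dvd_of_pow_eq_one h2) (orderOf_dvd_of_pow_eq_one h3)
    exact orderOf_eq_one_iff.1 (Nat.dvd_one.1 h4)

end

/-- diagonal matrices commute -/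
theorem diagonal_comm {D : ChevalleyDatum} (hD : InList D) {F : Type*} [Field F] {s t : GL D.Idx F}
    (hs : s ∈ D.diagonalSubgroup F) (ht : t ∈ D.diagonalSubgroup F) : s * t = t * s := by
  obtain ⟨χ, hχ⟩ := HMatDiagAll.mem_torus.1 (HMatDiagAll.diagonalSubgroup_le_torus hD hs)
  obtain ⟨ψ, hψ⟩ := HMatDiagAll.mem_torus.1 (HMatDiagAll.diagonalSubgroup_le_torus hD ht)
  apply Units.ext
  rw [Units.val_mul, Units.val_mul, hχ, hψ, Matrix.diagonal_mul_diagonal, Matrix.diagonal_mul_diagonal]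
  congr 1
  funext i
  exact mul_comm _ _

/-- the elements `h_r(-1)` are involutions -/
theorem hG_sq {D : ChevalleyDatum} (hD : InList D) {F : Type*} [Field F] {r : ℕ} (hr : r < D.nroots) :
    hG hD r (-1 : F) * hG hD r (-1 : F) = 1 := by
  apply Units.ext
  rw [Units.val_mul, coe_hG, HMatDiagAll.hMat_eq_diagonal hD hr (by simp : (-1 : F) ≠ 0), Matrix.diagonal_mul_diagonal,
    Units.val_one, ← Matrix.diagonal_one]
  congr 1
  funext i
  rcases i with i | i
  · simp
  · simp only [Sum.elim_inr]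
    rw [← mul_zpow, neg_mul_neg, one_mul, one_zpow]

/-- the action of `h_{p_i}(-1)` -/
theorem hG_conj_even {D : ChevalleyDatum} (hD : InList D) {F : Type*} [Field F] {i s : ℕ} (hi : i < D.rank)
    (hs : s < D.nroots) (hev : Even (D.cartan i s)) (t : F) :
    hG hD (D.simple i) (-1 : F) * xG hD s t * (hG hD (D.simple i) (-1 : F))⁻¹ = xG hD s t := by
  rw [BruhatSplit.hG_simple_conj hD hi hs (by simp : (-1 : F) ≠ 0), hev.neg_one_zpow, one_mul]

theorem hG_conj_odd {D : ChevalleyDatum} (hD : InList D) {F : Type*} [Field F] {i s : ℕ} (hi : i < D.rank)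
    (hs : s < D.nroots) (ho : Odd (D.cartan i s)) (t : F) :
    hG hD (D.simple i) (-1 : F) * xG hD s t * (hG hD (D.simple i) (-1 : F))⁻¹ = (xG hD s t)⁻¹ := by
  rw [BruhatSplit.hG_simple_conj hD hi hs (by simp : (-1 : F) ≠ 0), ho.neg_one_zpow, neg_one_mul, xG_inv]

/-- the group `K` has a split (B,N)-pair of characteristic `p` and type `M` such that the constituents of the permutation
character on the Borel subgroups lie in the principal `2`-block -/
def HasSplitB0 (p : ℕ) {I : Type*} (M : CoxeterMatrix I) (K : Type u) [Group K] : Prop :=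
  ∃ (P : Cfsg.BNPair K) (U : Subgroup K) (e : I ≃ P.S), Split P p U ∧ BNType P M e ∧ ∀ [Fintype K], InB0 (cls P.B)

theorem HasSplitB0.hasSplitT {p : ℕ} {I : Type*} {M : CoxeterMatrix I} {K : Type u} [Group K] (hK : HasSplitB0 p M K) :
    Cfsg.Agent.Omega.ML.Ex.Typ.HasSplitT p M K := by
  obtain ⟨P, U, e, h1, h2, -⟩ := hK
  exact ⟨P, U, e, h1, h2⟩

/-- the group `G` is generated by a root group datum of characteristic `p` and type `M` with sign elements -/
def HasRGDS (p : ℕ) {l : ℕ} (M : CoxeterMatrix (Fin l)) (G : Type u) [Group G] : Prop :=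
  ∃ (A : Fin l → Fin l → ℤ) (h : IsCartan M A) (T : Subgroup G) (n : Fin l → G) (X : (Fin l → ℤ) → Subgroup G),
    Finite M.Group ∧ RGD M.toCoxeterSystem h p T n X ∧ Nodes.RGDLib.G1 M.toCoxeterSystem h X = ⊤ ∧
      Sgn M.toCoxeterSystem h T X

theorem HasRGDS.of_equiv {p l : ℕ} {M : CoxeterMatrix (Fin l)} {G H : Type*} [Group G] [Group H] (e : G ≃* H)
    (hG : HasRGDS p M G) : HasRGDS p M H := by
  obtain ⟨A, h, T, n, X, hW, R, hX, hS⟩ := hG
  refine ⟨A, h, T.map e.toMonoidHom, fun i => e (n i), fun x => (X x).map e.toMonoidHom, hW,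
    Nodes.RGDLib.rgd_map_of_injective R e.toMonoidHom e.injective, ?_, ?_⟩
  · have h1 : (Nodes.RGDLib.G1 M.toCoxeterSystem h X).map e.toMonoidHom =
        Nodes.RGDLib.G1 M.toCoxeterSystem h (fun x => (X x).map e.toMonoidHom) := by
      unfold Nodes.RGDLib.G1 RGD.Sup
      rw [Subgroup.map_iSup]
    rw [← h1, hX, Subgroup.map_top_of_surjective _ e.surjective]
  · constructor
    · rintro _ ⟨s, hs, rfl⟩ _ ⟨t, ht, rfl⟩
      show e s * e t = e t * e s
      rw [← map_mul, hS.comm s hs t ht, map_mul]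
    · intro i
      obtain ⟨a, haT, ha2, ha⟩ := hS.ex i
      refine ⟨e a, ⟨a, haT, rfl⟩, by rw [← map_mul, ha2, map_one], ?_⟩
      rintro x hx _ ⟨u, hu, rfl⟩
      constructor
      · intro hev
        show e a * e u * (e a)⁻¹ = e u
        rw [← map_mul, ← map_inv, ← map_mul, (ha x hx u hu).1 hev]
      · intro ho h1
        change e a * e u * (e a)⁻¹ = e u at h1
        rw [← map_mul, ← map_inv, ← map_mul] at h1
        show e u = 1
        rw [(ha x hx u hu).2 ho (e.injective h1), map_one]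

/-- **Root group data with sign elements give split (B,N)-pairs with `1_B^G` in the principal block.** -/
theorem HasRGDS.hasSplitB0 {p l : ℕ} {M : CoxeterMatrix (Fin l)} {G : Type u} [Group G] [Finite G] [IsSimpleGroup G]
    (hp : p.Prime) (hl : 0 < l) (hG : HasRGDS p M G) : HasSplitB0 p M G := by
  obtain ⟨A, h, T, n, X, hW, R, hX, hS⟩ := hG
  have hgen : RGD.B M.toCoxeterSystem h T X ⊔ NN M.toCoxeterSystem R.nsys = ⊤ := by
    rw [eq_top_iff, ← hX]
    exact Nodes.RGDLib.rgd_G1_le R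
  have hne : (R.bnPair hgen).S.Nonempty := ⟨n ⟨0, hl⟩, _, rfl⟩
  exact ⟨R.bnPair hgen, _, _, SplitRGD.split_of_rgd hp R hgen
    (Cfsg.Agent.Tits.OfBN.normalCore_eq_bot (R.bnPair hgen) hne), Cfsg.Agent.Omega.ML.Ex.Typ.bnType R hgen,
    inB0_borel R hS hgen⟩

end Cfsg.Agent.H410.EBG
end

-- part: H410/EBG/G2D4
section
/-!
# The groups `G₂(q)` and `³D₄(q)`, `q` odd: the sign elements
-/

set_option autoImplicit false
set_option linter.unusedSectionVars false

namespace Cfsg.Agent.H410.EBG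

open CoxeterSystem Cfsg.Agent.ChevalleyStructure.CoxeterGeom Cfsg.Agent.Tits.Roots Cfsg.Agent.Tits.Core
  Cfsg.Agent.Nodes.Reps Cfsg.Agent.Nodes.BNOf Cfsg.Agent.Nodes.RGDChev
open Cfsg Cfsg.Agent.H694 Cfsg.Agent.H694.EB Cfsg.Agent.H610.EB Cfsg.Agent.FixBN
open Cfsg.Lie Cfsg.Agent.ChevalleyStructure Cfsg.Agent.ChevalleyStructure.Elts
  Cfsg.Agent.ChevalleyStructure.RootVec Cfsg.Agent.ChevalleyStructure.RootVecTab Cfsg.Agent.ChevalleyStructure.NPerm

universe u

/-! ### `G₂` -/

theorem isType_G2 : IsType chevG2 2 CoxeterMatrix.G₂ := by simp [IsType, typeList]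

theorem rank_G2 : chevG2.rank = 2 := by decide +kernel

theorem par_G2 : ∀ s < chevG2.nroots, (2 : ℤ) ∣ (chevG2.cartan 1 s - rt chevG2 s 0) ∧
    (2 : ℤ) ∣ (chevG2.cartan 0 s - rt chevG2 s 1) := by decide +kernel

theorem even_iff_of_dvd {a b : ℤ} (h : (2 : ℤ) ∣ a - b) : Even a ↔ Even b := by
  rw [Int.even_iff, Int.even_iff]; omega

/-- sign elements of `G₂` -/
theorem sign_G2 (K : Type u) [Field K] (i : Fin 2) : ∃ e ∈ (chevG2.diagonalSubgroup K), e ∈ chevG2.group K ∧ e * e = 1 ∧
    ∀ s < chevG2.nroots, ∀ t : K, (Even (vec chevG2 2 s i) → e * xG isType_G2.inList s t * e⁻¹ = xG isType_G2.inList s t) ∧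
      (Odd (vec chevG2 2 s i) → e * xG isType_G2.inList s t * e⁻¹ = (xG isType_G2.inList s t)⁻¹) := by
  have hD := isType_G2.inList
  have key : ∀ j : ℕ, j < chevG2.rank → (∀ s < chevG2.nroots, (2 : ℤ) ∣ chevG2.cartan j s - vec chevG2 2 s i) →
      ∃ e ∈ (chevG2.diagonalSubgroup K), e ∈ chevG2.group K ∧ e * e = 1 ∧
    ∀ s < chevG2.nroots, ∀ t : K, (Even (vec chevG2 2 s i) → e * xG isType_G2.inList s t * e⁻¹ = xG isType_G2.inList s t) ∧
      (Odd (vec chevG2 2 s i) → e * xG isType_G2.inList s t * e⁻¹ = (xG isType_G2.inList s t)⁻¹) := by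
    intro j hj hpar
    have hr := _root_.Cfsg.Agent.ChevalleyStructure.NPerm.simple_lt hD hj
    refine ⟨hG hD (chevG2.simple j) (-1 : K), hG_mem_diagonal hD hr (by simp), hG_mem_group hD _ _, hG_sq hD hr, ?_⟩
    intro s hs t
    constructor
    · intro hev
      exact hG_conj_even hD hj hs ((even_iff_of_dvd (hpar s hs)).2 hev) t
    · intro ho
      refine hG_conj_odd hD hj hs ?_ t
      rw [← Int.not_even_iff_odd, even_iff_of_dvd (hpar s hs), Int.not_even_iff_odd]
      exact ho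
  fin_cases i
  · exact key 1 (by rw [rank_G2]; norm_num) (fun s hs => (par_G2 s hs).1)
  · exact key 0 (by rw [rank_G2]; norm_num) (fun s hs => (par_G2 s hs).2)

theorem hasRGDS_G2 (K : Type u) [Field K] [Finite K] (p : ℕ) [CharP K p] (hp2 : p ≠ 2) :
    HasRGDS p CoxeterMatrix.G₂ ↥(chevG2.group K) := by
  have : Fact p.Prime := ⟨CharP.char_is_prime K p⟩
  have hp : p.Prime := Fact.out
  have hW : Finite CoxeterMatrix.G₂.Group := finite_W isType_G2 CoxeterMatrix.G₂.toCoxeterSystem
  have R := rgd (K := K) isType_G2 CoxeterMatrix.G₂.toCoxeterSystem p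
  refine ⟨_, isType_G2.isCartan, _, _, _, hW, R, G1_eq_top isType_G2 _, ?_⟩
  refine Sgn.of_inv R (hp.odd_of_ne_two hp2) ?_ ?_
  · rintro ⟨s, hs'⟩ hs ⟨t, ht'⟩ ht
    exact Subtype.ext (diagonal_comm isType_G2.inList hs ht)
  · intro i
    obtain ⟨e, heT, heG, he2, he⟩ := sign_G2 K i
    refine ⟨⟨e, heG⟩, heT, Subtype.ext he2, ?_⟩
    rintro x hx ⟨u, hu'⟩ hu
    obtain ⟨s, hs, rfl⟩ := (isRoot_iff isType_G2 CoxeterMatrix.G₂.toCoxeterSystem x).1 hx
    rw [Subgroup.mem_subgroupOf, XV_vec isType_G2 K hs, mem_rootSubgroup_iff isType_G2.inList] at hu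
    obtain ⟨t, rfl⟩ := hu
    exact ⟨fun h => Subtype.ext ((he s hs t).1 h), fun h => Subtype.ext ((he s hs t).2 h)⟩

/-! ### `³D₄` -/

open Cfsg.Agent.Nodes.RGDTwD4 Cfsg.Agent.Nodes.RGDFold Cfsg.Agent.Nodes.RGDTwGen
open Cfsg.Agent.ChevalleyStructure.TwistedU Cfsg.Agent.ChevalleyStructure.TwistedFix
open Cfsg.Agent.ChevalleyStructure.D4U Cfsg.Agent.ChevalleyStructure.D4Twisted
open Cfsg.Agent.ChevalleyStructure.D4Fixed (sig)

theorem rank_D4 : chevD4.rank = 4 := by decide +kernel

theorem par_D4 : ∀ s < chevD4.nroots, (2 : ℤ) ∣ (chevD4.cartan 1 s - V chevD4 Nodes.RGDTwD4.J s 1) ∧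
    (2 : ℤ) ∣ (chevD4.cartan 0 s + chevD4.cartan 2 s + chevD4.cartan 3 s - V chevD4 Nodes.RGDTwD4.J s 0) := by decide +kernel

/-- `e` acts on the root elements by the signs `(-1)^(c s)` -/
def Act (K : Type u) [Field K] (e : GL chevD4.Idx K) (c : ℕ → ℤ) : Prop :=
  ∀ s < chevD4.nroots, ∀ t : K, e * xG Nodes.RGDTwD4.hp.inList s t * e⁻¹ = xG Nodes.RGDTwD4.hp.inList s ((-1) ^ c s * t)

theorem Act.mul {K : Type u} [Field K] {e f : GL chevD4.Idx K} {c d : ℕ → ℤ} (he : Act K e c) (hf : Act K f d) :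
    Act K (e * f) (fun s => c s + d s) := by
  intro s hs t
  have h1 : e * f * xG Nodes.RGDTwD4.hp.inList s t * (e * f)⁻¹ = e * (f * xG Nodes.RGDTwD4.hp.inList s t * f⁻¹) * e⁻¹ := by
    group
  rw [h1, hf s hs, he s hs, zpow_add₀ (by simp), mul_assoc]

theorem act_hG {K : Type u} [Field K] {j : ℕ} (hj : j < chevD4.rank) :
    Act K (hG Nodes.RGDTwD4.hp.inList (chevD4.simple j) (-1 : K)) (chevD4.cartan j) :=
  fun s hs t => BruhatSplit.hG_simple_conj _ hj hs (by simp) t

/-- sign elements of `³D₄` -/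
theorem sign_D4 {K : Type u} [Field K] {q : ℕ} {φ : K →+* K} (hφ : ∀ x, φ x = x ^ q) (i : Fin 2) :
    ∃ e ∈ (chevD4.diagonalSubgroup K), e ∈ twistedD4 K q ∧ e * e = 1 ∧ ∃ c : ℕ → ℤ, Act K e c ∧
      ∀ s < chevD4.nroots, (2 : ℤ) ∣ c s - V chevD4 Nodes.RGDTwD4.J s i := by
  have hD := Nodes.RGDTwD4.hp.inList
  have hs0 : chevD4.simple 0 = 18 := by decide +kernel
  have hs1 : chevD4.simple 1 = 14 := by decide +kernel
  have hs2 : chevD4.simple 2 = 13 := by decide +kernel
  have hs3 : chevD4.simple 3 = 12 := by decide +kernel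
  have hR : ∀ r < 24, D4NConj.hR r (-1 : K) = hG hD r (-1 : K) := by
    intro r hr
    apply Units.ext
    rw [coe_hG]
    exact D4NConj.coe_hR hr (-1)
  have hn : chevD4.nroots = 24 := by decide +kernel
  have hm1 : φ (-1) = -1 := by rw [map_neg, map_one]
  fin_cases i
  · have hb1 : hb φ (-1 : K) = hG hD (chevD4.simple 0) (-1 : K) * hG hD (chevD4.simple 2) (-1 : K) *
        hG hD (chevD4.simple 3) (-1 : K) := by
      unfold hb
      rw [hm1, hm1, hs0, hs2, hs3, hR 18 (by norm_num), hR 13 (by norm_num), hR 12 (by norm_num)]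
    have hd : ∀ j < chevD4.rank, hG hD (chevD4.simple j) (-1 : K) ∈ chevD4.diagonalSubgroup K := fun j hj =>
      hG_mem_diagonal hD (_root_.Cfsg.Agent.ChevalleyStructure.NPerm.simple_lt hD hj) (by simp)
    have hr : chevD4.rank = 4 := rank_D4
    refine ⟨hb φ (-1 : K), hb_mem_diagonal φ (by simp), hb_mem hφ _, ?_, _, ?_, fun s hs => (par_D4 s hs).2⟩
    · rw [hb1]
      have c1 := diagonal_comm hD (hd 0 (by omega)) (hd 2 (by omega))
      have c2 := diagonal_comm hD (hd 0 (by omega)) (hd 3 (by omega))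
      have c3 := diagonal_comm hD (hd 2 (by omega)) (hd 3 (by omega))
      have q0 := hG_sq hD (F := K) (_root_.Cfsg.Agent.ChevalleyStructure.NPerm.simple_lt hD (show 0 < chevD4.rank by omega))
      have q2 := hG_sq hD (F := K) (_root_.Cfsg.Agent.ChevalleyStructure.NPerm.simple_lt hD (show 2 < chevD4.rank by omega))
      have q3 := hG_sq hD (F := K) (_root_.Cfsg.Agent.ChevalleyStructure.NPerm.simple_lt hD (show 3 < chevD4.rank by omega))
      generalize hG hD (chevD4.simple 0) (-1 : K) = a at *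
      generalize hG hD (chevD4.simple 2) (-1 : K) = b at *
      generalize hG hD (chevD4.simple 3) (-1 : K) = c at *
      calc a * b * c * (a * b * c) = a * b * (c * a) * b * c := by group
        _ = a * b * (a * c) * b * c := by rw [c2]
        _ = a * (b * a) * c * b * c := by group
        _ = a * (a * b) * c * b * c := by rw [c1]
        _ = (a * a) * b * (c * b) * c := by group
        _ = (a * a) * b * (b * c) * c := by rw [c3]
        _ = (a * a) * (b * b) * (c * c) := by group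
        _ = 1 := by rw [q0, q2, q3, one_mul, one_mul]
    · rw [hb1]
      exact ((act_hG (by omega)).mul (act_hG (by omega))).mul (act_hG (by omega))
  · refine ⟨hG hD (chevD4.simple 1) (-1 : K), hG_mem_diagonal hD (_root_.Cfsg.Agent.ChevalleyStructure.NPerm.simple_lt hD (by rw [rank_D4]; norm_num)) (by simp), ?_,
      hG_sq hD (_root_.Cfsg.Agent.ChevalleyStructure.NPerm.simple_lt hD (by rw [rank_D4]; norm_num)), _, act_hG (by rw [rank_D4]; norm_num),
      fun s hs => (par_D4 s hs).1⟩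
    rw [hs1, ← hR 14 (by norm_num)]
    exact h14_mem hφ hm1

theorem comm_D4 : ∀ r < chevD4.nroots, ∀ s < chevD4.nroots, V chevD4 Nodes.RGDTwD4.J r = V chevD4 Nodes.RGDTwD4.J s →
    s ≠ r → s ≠ chevD4.neg r ∧ chevD4.commTerms r s = [] := by decide +kernel

/-- the action of the sign elements on the relative root groups -/
theorem sign_R {K : Type u} [Field K] {e : GL chevD4.Idx K} {c : ℕ → ℤ} (he : Act K e c) {i : Fin 2}
    (hc : ∀ s < chevD4.nroots, (2 : ℤ) ∣ c s - V chevD4 Nodes.RGDTwD4.J s i) {z : Fin 2 → ℤ} {u : GL chevD4.Idx K}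
    (hu : u ∈ rspan (xG Nodes.RGDTwD4.hp.inList) {k | k < chevD4.nroots ∧ V chevD4 Nodes.RGDTwD4.J k = z}) :
    (Even (z i) → e * u * e⁻¹ = u) ∧ (Odd (z i) → e * u * e⁻¹ = u⁻¹) := by
  have hD := Nodes.RGDTwD4.hp.inList
  -- commutativity
  have hcomm : ∀ u ∈ rspan (xG (F := K) hD) {k | k < chevD4.nroots ∧ V chevD4 Nodes.RGDTwD4.J k = z},
      ∀ v ∈ rspan (xG (F := K) hD) {k | k < chevD4.nroots ∧ V chevD4 Nodes.RGDTwD4.J k = z}, u * v = v * u := by
    have hgen : ∀ a ∈ {g | ∃ r ∈ {k | k < chevD4.nroots ∧ V chevD4 Nodes.RGDTwD4.J k = z}, ∃ t : K, g = xG hD r t},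
        ∀ b ∈ {g | ∃ r ∈ {k | k < chevD4.nroots ∧ V chevD4 Nodes.RGDTwD4.J k = z}, ∃ t : K, g = xG hD r t},
        a * b = b * a := by
      rintro _ ⟨r, ⟨hr, hrz⟩, t, rfl⟩ _ ⟨s, ⟨hs, hsz⟩, t', rfl⟩
      by_cases hrs : s = r
      · subst hrs
        rw [xG_add, xG_add, add_comm]
      · obtain ⟨h1, h2⟩ := comm_D4 r hr s hs (hrz.trans hsz.symm) hrs
        exact commute_of_nil Nodes.RGDTwD4.hp hr hs hrs h1 h2 t t'
    have h1 : rspan (xG (F := K) hD) {k | k < chevD4.nroots ∧ V chevD4 Nodes.RGDTwD4.J k = z} ≤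
        Subgroup.centralizer (rspan (xG (F := K) hD) {k | k < chevD4.nroots ∧ V chevD4 Nodes.RGDTwD4.J k = z} : Set _) := by
      unfold rspan
      rw [Subgroup.closure_le]
      intro a ha
      rw [SetLike.mem_coe, Subgroup.mem_centralizer_iff]
      intro b hb
      refine Subgroup.closure_induction (p := fun b _ => b * a = a * b) ?_ ?_ ?_ ?_ hb
      · intro b hb
        exact (hgen a ha b hb).symm
      · rw [one_mul, mul_one]
      · intro x y _ _ hx hy
        rw [mul_assoc, hy, ← mul_assoc, hx, mul_assoc]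
      · intro x _ hx
        rw [inv_mul_eq_iff_eq_mul, ← mul_assoc, hx, mul_inv_cancel_right]
    intro u hu v hv
    exact (Subgroup.mem_centralizer_iff.1 (h1 hu) v hv).symm
  constructor
  · intro hev
    refine Subgroup.closure_induction (p := fun u _ => e * u * e⁻¹ = u) ?_ ?_ ?_ ?_ hu
    · rintro _ ⟨r, ⟨hr, hrz⟩, t, rfl⟩
      have h1 : Even (c r) := by
        rw [even_iff_of_dvd (hc r hr), hrz]; exact hev
      rw [he r hr, h1.neg_one_zpow, one_mul]
    · rw [mul_one, mul_inv_cancel]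
    · intro x y _ _ hx hy
      calc e * (x * y) * e⁻¹ = (e * x * e⁻¹) * (e * y * e⁻¹) := by group
        _ = x * y := by rw [hx, hy]
    · intro x _ hx
      calc e * x⁻¹ * e⁻¹ = (e * x * e⁻¹)⁻¹ := by group
        _ = x⁻¹ := by rw [hx]
  · intro ho
    refine Subgroup.closure_induction (p := fun u _ => e * u * e⁻¹ = u⁻¹) ?_ ?_ ?_ ?_ hu
    · rintro _ ⟨r, ⟨hr, hrz⟩, t, rfl⟩
      have h1 : Odd (c r) := by
        rw [← Int.not_even_iff_odd, even_iff_of_dvd (hc r hr), hrz, Int.not_even_iff_odd]; exact ho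
      rw [he r hr, h1.neg_one_zpow, neg_one_mul, xG_inv]
    · rw [mul_one, mul_inv_cancel, inv_one]
    · intro x y hxm hym hx hy
      have h1 := hcomm x hxm y hym
      calc e * (x * y) * e⁻¹ = (e * x * e⁻¹) * (e * y * e⁻¹) := by group
        _ = x⁻¹ * y⁻¹ := by rw [hx, hy]
        _ = (y * x)⁻¹ := by group
        _ = (x * y)⁻¹ := by rw [h1]
    · intro x _ hx
      calc e * x⁻¹ * e⁻¹ = (e * x * e⁻¹)⁻¹ := by group
        _ = x⁻¹⁻¹ := by rw [hx]

theorem hasRGDS_D4 {K : Type u} [Field K] [Fintype K] {q : ℕ} (hq : IsPrimePow q) (hK : Fintype.card K = q ^ 3)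
    (p : ℕ) [CharP K p] (hp2 : p ≠ 2) : HasRGDS p CoxeterMatrix.G₂ ↥(twistedD4 K q) := by
  have : Fact p.Prime := ⟨CharP.char_is_prime K p⟩
  have hp : p.Prime := Fact.out
  obtain ⟨φ, hφ⟩ := D4Fixed.exists_frob hq hK
  have hW : Finite CoxeterMatrix.G₂.Group := Nodes.RGDFold.finite_W (hp := Nodes.RGDTwD4.hp)
    CoxeterMatrix.G₂.toCoxeterSystem Nodes.RGDTwD4.isCartan Nodes.RGDTwD4.foldData
  have R := Nodes.RGDTwD4.rgd CoxeterMatrix.G₂.toCoxeterSystem hK hφ p
  refine ⟨_, Nodes.RGDTwD4.isCartan, _, _, _, hW, R, Nodes.RGDTwD4.G1_eq_top _ hK hφ, ?_⟩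
  refine Sgn.of_inv R (hp.odd_of_ne_two hp2) ?_ ?_
  · rintro ⟨s, hs'⟩ hs ⟨t, ht'⟩ ht
    exact Subtype.ext (diagonal_comm Nodes.RGDTwD4.hp.inList hs.1 ht.1)
  · intro i
    obtain ⟨e, heT, heG, he2, c, he, hc⟩ := sign_D4 hφ i
    refine ⟨⟨e, heG⟩, ⟨heT, heG⟩, Subtype.ext he2, ?_⟩
    rintro x hx ⟨u, hu'⟩ hu
    have hu2 : u ∈ rspan (xG (F := K) Nodes.RGDTwD4.hp.inList)
      {k | k < chevD4.nroots ∧ V chevD4 Nodes.RGDTwD4.J k = x} := hu.1
    obtain ⟨h1, h2⟩ := sign_R he hc hu2
    exact ⟨fun h => Subtype.ext (h1 h), fun h => Subtype.ext (h2 h)⟩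

/-- **`G₂(q)`, `q` odd**: the constituents of `1_B^G` are in the principal `2`-block -/
theorem hasSplitB0_G2 {S : Type*} [Group S] [Finite S] [IsSimpleGroup S] {K : Type*} [Field K] [Finite K] (p : ℕ) [CharP K p]
    (hp2 : p ≠ 2) (e : S ≃* ↥(chevG2.group K)) : HasSplitB0 p CoxeterMatrix.G₂ S :=
  ((hasRGDS_G2 K p hp2).of_equiv e.symm).hasSplitB0 (CharP.char_is_prime K p) (by norm_num)

/-- **`³D₄(q)`, `q` odd**: the constituents of `1_B^G` are in the principal `2`-block -/
theorem hasSplitB0_D4 {S : Type*} [Group S] [Finite S] [IsSimpleGroup S] {K : Type*} [Field K] [Fintype K] {q : ℕ}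
    (hq : IsPrimePow q) (hK : Fintype.card K = q ^ 3) (p : ℕ) [CharP K p]
    (hp2 : p ≠ 2) (e : S ≃* ↥(twistedD4 K q)) : HasSplitB0 p CoxeterMatrix.G₂ S :=
  ((hasRGDS_D4 hq hK p hp2).of_equiv e.symm).hasSplitB0 (CharP.char_is_prime K p) (by norm_num)

end Cfsg.Agent.H410.EBG
end

-- part: H610/EB/G2Row
section
/-!
# `EvenJ` for `G₂(q)` and `³D₄(q)`, `q` odd
-/

set_option autoImplicit false
set_option linter.unusedSectionVars false

namespace Cfsg.Agent.H610.EB

open Cfsg Cfsg.Agent.H694 Cfsg.Agent.H694.EB Cfsg.Agent.H684.EB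
open Cfsg.Agent.Characters.Core
open Cfsg.Agent.LieExceptional.BNPairCore Cfsg.Agent.Tits.Core Cfsg.Agent.Tits.Core.Bldg
  Cfsg.Agent.Tits.OfBN Cfsg.Agent.Schreier.BNSch Cfsg.Agent.Tits.OppRes Cfsg.Agent.FixBN
  Cfsg.Agent.FixBN.TwOfBN Cfsg.Agent.OddHalf.Table.AutBldg
open Cfsg.Agent.H410.EBG (HasSplitB0 hasSplitB0_G2 hasSplitB0_D4)

universe u

/-- **Type `G₂`, odd characteristic.** -/
theorem evenJ_of_hasSplitB0 {S : Type u} [Group S] {p : ℕ} (hp : p.Prime) (hp2 : p ≠ 2)
    (h : ∀ (T : Type u) [Group T] [Finite T], Nonempty (S ≃* T) → HasSplitB0 p CoxeterMatrix.G₂ T) : EvenJ S := by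
  classical
  intro G _ _ N _ _ f _ J _ hNJ ho hi k hk M hM
  have : Fact p.Prime := ⟨hp⟩
  obtain ⟨P, U, e, hsp, ⟨hN, cs, hcs⟩, hB0⟩ := h N f
  by_cases hty : ∀ (g : G) (t : N) (ht : Keep P (MulAut.conj t * MulAut.conjNormal g)) (i : Fin 2),
      sg e cs hcs ht i = i
  · exact concl_fix_G2 N J e cs hcs hM hNJ ho hi hk (hp.odd_of_ne_two hp2) hsp hB0 hty
  · push Not at hty
    exact Cfsg.Agent.H410.EBG.concl_swap_G2 N J hNJ hM ho hi hk hsp e cs hcs hB0 hty

/-- **`G₂(q)`, `q` odd.** -/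
theorem evenJ_G2 {S : Type u} [Group S] [Finite S] [IsSimpleGroup S] {K : Type*} [Field K] [Finite K]
    (p : ℕ) [CharP K p] (hp2 : p ≠ 2) (e : S ≃* ↥(Cfsg.Lie.chevG2.group K)) : EvenJ S := by
  refine evenJ_of_hasSplitB0 (CharP.char_is_prime K p) hp2 ?_
  intro T _ _ ⟨f⟩
  have : Nontrivial T := f.symm.toEquiv.nontrivial
  have : IsSimpleGroup T := IsSimpleGroup.isSimpleGroup_of_surjective f.toMonoidHom f.surjective
  exact hasSplitB0_G2 p hp2 (f.symm.trans e)

/-- **`³D₄(q)`, `q` odd.** -/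
theorem evenJ_D4 {S : Type u} [Group S] [Finite S] [IsSimpleGroup S] {K : Type*} [Field K] [Fintype K] {q : ℕ}
    (hq : IsPrimePow q) (hK : Fintype.card K = q ^ 3) (p : ℕ) [CharP K p] (hp2 : p ≠ 2)
    (e : S ≃* ↥(Cfsg.Lie.twistedD4 K q)) : EvenJ S := by
  refine evenJ_of_hasSplitB0 (CharP.char_is_prime K p) hp2 ?_
  intro T _ _ ⟨f⟩
  have : Nontrivial T := f.symm.toEquiv.nontrivial
  have : IsSimpleGroup T := IsSimpleGroup.isSimpleGroup_of_surjective f.toMonoidHom f.surjective
  exact hasSplitB0_D4 hq hK p hp2 (f.symm.trans e)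

end Cfsg.Agent.H610.EB
end

-- part: H610/EB/StNorm
section
/-!
# The norm of a character on a Sylow subgroup in characteristic two

* `inner_mod_two`: for a real generalized character `f` of `B` and a normal subgroup `V` of odd index,
  `[f, 1]_V ≡ [f, 1]_B` modulo 2.
* `even_sq_inner`: if `St` vanishes on the elements of even order, `[φ ^ 2, St]` is even.
* `odd_norm`: if the permutation character on the cosets of `B` is `1 + 2 φ + m St` with `m` odd, the norm of
  `φ` on the normal subgroup `U` of odd index of `B` is odd.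
-/

set_option autoImplicit false
set_option linter.unusedSectionVars false
set_option linter.style.haveILetI false

namespace Cfsg.Agent.H610.EB

open Cfsg Cfsg.Agent.Characters Cfsg.Agent.H694 Cfsg.Agent.H694.EB
open scoped ComplexConjugate
open Cfsg.Agent.Characters.Core
open Cfsg.Agent.Blocks.Basic
open Cfsg.Agent.H619.R4 (cbar cbar_apply cbar_cbar cbar_eq_iff classInner_cbar classInner_int)

universe u

section one

variable {B : Type u} [Group B] [Fintype B]

/-- A real irreducible character with a nonzero sum over a normal subgroup of odd index is principal. -/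
theorem real_eq_one (V : Subgroup B) [V.Normal] [Fintype V] (hV : Odd V.index) {χ : B → ℂ}
    (hχ : IsIrrCharacter B χ) (hreal : ∀ g, (χ g).im = 0) (hsum : ∑ v : V, χ v ≠ 0) : χ = fun _ => 1 := by
  classical
  haveI : Fintype (B ⧸ V) := Fintype.ofFinite _
  obtain ⟨ψ, hψ⟩ := Cfsg.Agent.Blocks.Deflate.exists_deflation V χ hχ hsum
  have hodd : Odd (Nat.card (B ⧸ V)) := hV
  have hr : ∀ x : B ⧸ V, conj ((ψ : B ⧸ V → ℂ) x) = (ψ : B ⧸ V → ℂ) x := by
    intro x
    obtain ⟨g, rfl⟩ := QuotientGroup.mk_surjective x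
    have h1 : χ g = (ψ : B ⧸ V → ℂ) (QuotientGroup.mk g) := congrFun hψ g
    rw [← h1]
    exact Complex.conj_eq_iff_im.2 (hreal g)
  have h1 : (ψ : B ⧸ V → ℂ) 1 = (charDegree (ψ : B ⧸ V → ℂ) : ℂ) := irr_one_eq_charDegree ψ.2
  obtain ⟨m, hm⟩ := classInner_isNat (isIrr_isCharacter ψ.2) (isIrr_isCharacter (isIrrCharacter_one (G := B ⧸ V)))
  have hm' : classInner (ψ : B ⧸ V → ℂ) 1 = m := hm
  have h2 := Cfsg.Agent.H618.ParInd.parity_of_real hodd (isIrr_isCharacter ψ.2) hr h1 hm'
  have h3 : Odd (charDegree (ψ : B ⧸ V → ℂ)) :=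
    Odd.of_dvd_nat hodd (Cfsg.Agent.H669.Basic.charDegree_dvd_card ψ.2)
  have h4 : m ≠ 0 := by
    rintro rfl
    rw [Nat.odd_iff] at h3
    omega
  have h5 : (ψ : B ⧸ V → ℂ) = fun _ => (1 : ℂ) := by
    by_contra hne
    have h6 : classInner (ψ : B ⧸ V → ℂ) (fun _ => (1 : ℂ)) = 0 :=
      classInner_irr_ne ψ.2 isIrrCharacter_one hne
    have h7 : (m : ℂ) = 0 := hm.symm.trans h6
    exact h4 (by exact_mod_cast h7)
  rw [hψ, h5]
  rfl

/-- **Modulo two.** -/
theorem inner_mod_two (V : Subgroup B) [V.Normal] [Fintype V] (hV : Odd V.index) {f : B → ℂ}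
    (hf : IsGeneralizedCharacter B f) (hreal : ∀ g, (f g).im = 0) :
    ∃ a c : ℤ, classInner (fun v : V => f v) (fun _ => (1 : ℂ)) = a ∧
      classInner f (fun _ => (1 : ℂ)) = c ∧ Even (a - c) := by
  classical
  have hfin := Core.finite_irr (G := B)
  haveI := Fintype.ofFinite (IrrCharacter B)
  choose m hm using classInner_int hf
  have hr : ∀ χ : IrrCharacter B, ∃ r : ℕ,
      classInner (fun v : V => (χ : B → ℂ) v) (fun _ => (1 : ℂ)) = r := by
    intro χ
    exact classInner_isNat (isCharacter_comp V.subtype (isIrr_isCharacter χ.2))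
      (isIrr_isCharacter isIrrCharacter_one)
  choose r hr using hr
  have hcf : IsClassFunction B f := Cfsg.Agent.H619.R4.isClassFunction_of_gen hf
  have h1 : classInner (fun v : V => f v) (fun _ => (1 : ℂ)) =
      ((∑ χ : IrrCharacter B, m χ * (r χ : ℤ) : ℤ) : ℂ) := by
    have h2 : (fun v : V => f v) = ∑ χ : IrrCharacter B, (m χ : ℂ) • (fun v : V => (χ : B → ℂ) v) := by
      funext v
      conv_lhs => rw [classFunction_eq_sum hcf]
      rw [Finset.sum_apply, Finset.sum_apply]
      refine Finset.sum_congr rfl fun χ _ => ?_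
      rw [Pi.smul_apply, Pi.smul_apply, hm]
    rw [h2, classInner_sum_left]
    push_cast
    refine Finset.sum_congr rfl fun χ _ => ?_
    rw [classInner_smul_left, hr]
  set χ₁ : IrrCharacter B := ⟨fun _ => (1 : ℂ), isIrrCharacter_one⟩ with hχ₁
  have hc : classInner f (fun _ => (1 : ℂ)) = (m χ₁ : ℂ) := hm χ₁
  refine ⟨_, _, h1, hc, ?_⟩
  have hr1 : r χ₁ = 1 := by
    have h2 := hr χ₁
    have h3 : classInner (fun v : V => (χ₁ : B → ℂ) v) (fun _ => (1 : ℂ)) = 1 :=
      classInner_irr_self (isIrrCharacter_one (G := V))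
    rw [h3] at h2
    exact_mod_cast h2.symm
  have hmc : ∀ χ, m (cbar χ) = m χ := by
    intro χ
    have h4 := classInner_cbar hreal χ
    rw [hm, hm, map_intCast] at h4
    exact_mod_cast h4
  have hrc : ∀ χ, r (cbar χ) = r χ := by
    intro χ
    have h4 : classInner (fun v : V => (cbar χ : B → ℂ) v) (fun _ => (1 : ℂ)) =
        conj (classInner (fun v : V => (χ : B → ℂ) v) (fun _ => (1 : ℂ))) := by
      rw [Core.classInner_def, Core.classInner_def, map_mul, map_inv₀, Complex.conj_natCast, map_sum]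
      congr 1
      refine Finset.sum_congr rfl fun v _ => ?_
      rw [cbar_apply, map_mul, map_one, map_one]
    rw [hr, hr, Complex.conj_natCast] at h4
    exact_mod_cast h4
  have h3 : ((∑ χ : IrrCharacter B, m χ * (r χ : ℤ) : ℤ) : ZMod 2) = ((m χ₁ : ℤ) : ZMod 2) := by
    rw [Int.cast_sum, Cfsg.Agent.H611.EvenFixed.sum_eq_sum_fixed Finset.univ cbar (fun χ _ => cbar_cbar χ)
      (fun χ _ => Finset.mem_univ _) _ (fun χ _ => by rw [hmc, hrc])]
    rw [Finset.sum_eq_single χ₁]
    · rw [hr1]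
      simp
    · intro χ hχ hne
      rw [Finset.mem_filter] at hχ
      have h4 : r χ = 0 := by
        by_contra h5
        apply hne
        apply Subtype.ext
        refine real_eq_one V hV χ.2 ((cbar_eq_iff χ).1 hχ.2) ?_
        intro h6
        have h7 := hr χ
        rw [Core.classInner_def] at h7
        have h8 : ∑ v : V, (χ : B → ℂ) v * conj (1 : ℂ) = 0 := by
          rw [← h6]
          exact Finset.sum_congr rfl fun v _ => by rw [map_one, mul_one]
        rw [h8, mul_zero] at h7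
        exact h5 (by exact_mod_cast h7.symm)
      rw [h4]
      simp
    · intro h4
      exfalso
      apply h4
      rw [Finset.mem_filter]
      refine ⟨Finset.mem_univ _, (cbar_eq_iff χ₁).2 fun g => ?_⟩
      show ((1 : ℂ)).im = 0
      simp
  have h4 : (((∑ χ : IrrCharacter B, m χ * (r χ : ℤ)) - m χ₁ : ℤ) : ZMod 2) = 0 := by
    rw [Int.cast_sub, h3, sub_self]
  rw [even_iff_two_dvd]
  exact (ZMod.intCast_zmod_eq_zero_iff_dvd _ 2).1 h4

end one

section two

variable {K : Type u} [Group K] [Fintype K]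

/-- **Modulo two, for permutation characters.** -/
theorem psi_mod_two (U B : Subgroup K) [Fintype U] (hUB : U ≤ B) (hnorm : ∀ b ∈ B, ∀ u ∈ U, b * u * b⁻¹ ∈ U)
    (hodd : Odd (U.relIndex B)) {f : K → ℂ} (hf : IsGeneralizedCharacter K f) (hreal : ∀ g, (f g).im = 0) :
    ∃ a c : ℤ, classInner (fun v : U => f v) (fun _ => (1 : ℂ)) = a ∧
      classInner f (psi B) = c ∧ Even (a - c) := by
  classical
  haveI : Fintype B := Fintype.ofFinite _
  haveI : Fintype (U.subgroupOf B) := Fintype.ofFinite _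
  haveI : (U.subgroupOf B).Normal := by
    constructor
    intro u hu b
    rw [Subgroup.mem_subgroupOf] at hu ⊢
    exact hnorm b b.2 u hu
  have hfB : IsGeneralizedCharacter B (fun b : B => f b) := by
    obtain ⟨x, y, hx, hy, rfl⟩ := hf
    exact ⟨_, _, isCharacter_comp B.subtype hx, isCharacter_comp B.subtype hy, rfl⟩
  obtain ⟨a, c, ha, hc, hac⟩ := inner_mod_two (U.subgroupOf B) hodd hfB (fun b => hreal b)
  refine ⟨a, c, ?_, ?_, hac⟩
  · rw [← ha, ← classInner_equiv (Subgroup.subgroupOfEquivOfLe hUB).toEquiv]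
    rfl
  · have h1 := psi_inner B (Cfsg.Agent.H619.R4.isClassFunction_of_gen hf)
    have h2 : classInner f (psi B) = conj (classInner (psi B) f) := by
      rw [classInner_conj_symm]
    rw [h2, h1, classInner_conj_symm]
    exact hc

/-- **The square of a character and a character vanishing on the elements of even order.** -/
theorem even_sq_inner {φ St : K → ℂ} (hφ : IsCharacter K φ) (hSt : IsCharacter K St)
    (h0 : ∀ g, Even (orderOf g) → St g = 0) (hsq : ∀ g, Odd (orderOf g) → St (g * g) = St g)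
    (horth : classInner φ St = 0) : ∃ c : ℤ, classInner (fun g => φ g ^ 2) St = c ∧ Even c := by
  classical
  obtain ⟨k, hk⟩ := classInner_isNat (Cfsg.Agent.PermChar.SymAlt.isCharacter_altSq hφ) hSt
  -- the part of the elements of odd order
  have h1 : classInner (fun g => φ (g * g)) St = classInner φ St := by
    rw [Core.classInner_def, Core.classInner_def]
    congr 1
    have h2 : ∀ F : K → ℂ, (∑ g : K, F g * conj (St g)) =
        ∑ g ∈ Finset.univ.filter (fun g : K => Odd (orderOf g)), F g * conj (St g) := by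
      intro F
      rw [Finset.sum_filter]
      refine Finset.sum_congr rfl fun g _ => ?_
      split_ifs with h
      · rfl
      · rw [h0 g (Nat.not_odd_iff_even.1 h), map_zero, mul_zero]
    rw [h2, h2]
    obtain ⟨v, m, hm, hvm⟩ := Nat.exists_eq_two_pow_mul_odd (Nat.card_pos (α := K)).ne'
    have hord : ∀ g : K, Odd (orderOf g) → orderOf g ∣ m := by
      intro g hg
      have h3 : orderOf g ∣ 2 ^ v * m := by
        rw [← hvm]
        exact orderOf_dvd_natCard g
      exact (Nat.Coprime.pow_right v (Nat.coprime_two_right.2 hg)).dvd_of_dvd_mul_left h3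
    obtain ⟨e, he⟩ : ∃ e, m + 1 = 2 * e := by
      obtain ⟨j, hj⟩ := hm
      exact ⟨j + 1, by omega⟩
    have hpow : ∀ g : K, Odd (orderOf g) → g ^ (2 * e) = g := by
      intro g hg
      rw [← he, pow_succ, orderOf_dvd_iff_pow_eq_one.1 (hord g hg), one_mul]
    have hoddp : ∀ (g : K) (j : ℕ), Odd (orderOf g) → Odd (orderOf (g ^ j)) := fun g j hg =>
      Odd.of_dvd_nat hg (orderOf_pow_dvd j)
    refine Finset.sum_nbij' (fun g => g * g) (fun g => g ^ e) ?_ ?_ ?_ ?_ ?_
    · intro g hg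
      rw [Finset.mem_filter] at hg ⊢
      refine ⟨Finset.mem_univ _, ?_⟩
      rw [← pow_two]
      exact hoddp g 2 hg.2
    · intro g hg
      rw [Finset.mem_filter] at hg ⊢
      exact ⟨Finset.mem_univ _, hoddp g e hg.2⟩
    · intro g hg
      rw [Finset.mem_filter] at hg
      show (g * g) ^ e = g
      rw [← pow_two, ← pow_mul]
      exact hpow g hg.2
    · intro g hg
      rw [Finset.mem_filter] at hg
      show g ^ e * g ^ e = g
      rw [← pow_add, ← two_mul]
      exact hpow g hg.2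
    · intro g hg
      rw [Finset.mem_filter] at hg
      rw [hsq g hg.2]
  refine ⟨2 * k, ?_, even_two_mul _⟩
  have h3 : (fun g => φ g ^ 2) = (2 : ℂ) • (fun g => (φ g ^ 2 - φ (g * g)) / 2) + fun g => φ (g * g) := by
    funext g
    simp only [Pi.add_apply, Pi.smul_apply, smul_eq_mul]
    ring
  rw [h3, classInner_add_left, classInner_smul_left, hk, h1, horth]
  push_cast
  ring

/-- **The norm on `U` is odd.** -/
theorem odd_norm (U B : Subgroup K) [Fintype U] (hUB : U ≤ B) (hnorm : ∀ b ∈ B, ∀ u ∈ U, b * u * b⁻¹ ∈ U)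
    (hodd : Odd (U.relIndex B)) {φ St : K → ℂ} (hφ : IsIrrCharacter K φ) (hSt : IsIrrCharacter K St)
    (hφr : ∀ g, (φ g).im = 0) (h0 : ∀ g, Even (orderOf g) → St g = 0)
    (hsq : ∀ g, Odd (orderOf g) → St (g * g) = St g) (hne : φ ≠ St) {m : ℤ}
    (hβ : psi B = (fun _ => (1 : ℂ)) + (2 : ℂ) • φ + (m : ℂ) • St) :
    ∃ a : ℤ, classInner (fun u : U => φ u) (fun u : U => φ u) = a ∧ Odd a := by
  classical
  have hφc := isIrr_isCharacter hφ
  have hφ2 : IsCharacter K (fun g => φ g ^ 2) := by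
    have h1 := isCharacter_mul hφc hφc
    have h2 : (fun g => φ g ^ 2) = fun g => φ g * φ g := by
      funext g
      rw [pow_two]
    rw [h2]
    exact h1
  have hconj : ∀ g, conj (φ g) = φ g := fun g => Complex.conj_eq_iff_im.2 (hφr g)
  obtain ⟨a, c, ha, hc, hac⟩ := psi_mod_two U B hUB hnorm hodd (f := fun g => φ g ^ 2)
    (Cfsg.Agent.Characters.Brauer.isGeneralizedCharacter_of_isCharacter hφ2) (fun g => by
      rw [← Complex.conj_eq_iff_im, map_pow, hconj])
  have h1 : classInner φ St = 0 := classInner_irr_ne hφ hSt hne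
  obtain ⟨y, hy, hye⟩ := even_sq_inner hφc (isIrr_isCharacter hSt) h0 hsq h1
  obtain ⟨x, hx⟩ := classInner_isNat hφ2 hφc
  have h2 : classInner (fun g => φ g ^ 2) (fun _ => (1 : ℂ)) = 1 := by
    refine Eq.trans ?_ (classInner_irr_self hφ)
    rw [Core.classInner_def, Core.classInner_def]
    congr 1
    refine Finset.sum_congr rfl fun g _ => ?_
    show φ g ^ 2 * conj (1 : ℂ) = φ g * conj (φ g)
    rw [hconj, map_one, mul_one, pow_two]
  have h3 : (c : ℂ) = 1 + 2 * x + m * y := by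
    rw [← hc, hβ, classInner_add_right, classInner_add_right, classInner_smul_right, classInner_smul_right,
      h2, hx, hy, map_ofNat, map_intCast]
  have h4 : c = 1 + 2 * x + m * y := by exact_mod_cast h3
  have h5 : classInner (fun u : U => φ u) (fun u : U => φ u) = a := by
    rw [← ha, Core.classInner_def, Core.classInner_def]
    congr 1
    refine Finset.sum_congr rfl fun g _ => ?_
    show φ g * conj (φ g) = φ g ^ 2 * conj (1 : ℂ)
    rw [hconj, map_one, mul_one, pow_two]
  refine ⟨a, h5, ?_⟩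
  have h6 : Odd c := by
    rw [h4]
    obtain ⟨z, hz⟩ := hye
    exact ⟨x + m * z, by rw [hz]; ring⟩
  have h7 : a = (a - c) + c := by ring
  rw [h7]
  exact hac.add_odd h6

end two

end Cfsg.Agent.H610.EB
end

-- part: H610/EB/A2
section
/-!
# Type `A₂` in characteristic two

`evenJ_A2`: `EvenJ` for groups with a split (B,N)-pair of type `A₂` in characteristic two (`PSL₃(2^a)`), by the
unipotent character of degree `q² + q`, whose norm on a Sylow 2-subgroup is odd.
-/

set_option autoImplicit false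
set_option linter.unusedSectionVars false
set_option linter.style.haveILetI false

namespace Cfsg.Agent.H610.EB

open Cfsg Cfsg.Agent.H694 Cfsg.Agent.H694.EB Cfsg.Agent.H684.EB
open scoped ComplexConjugate
open Cfsg.Agent.Characters.Core
open Cfsg.Agent.Blocks.Basic
open Cfsg.Agent.LieExceptional.BNPairCore Cfsg.Agent.Tits.Core
  Cfsg.Agent.Tits.OfBN Cfsg.Agent.Schreier.BNSch Cfsg.Agent.FixBN
  Cfsg.Agent.OddHalf.Table.AutBldg
open Cfsg.Agent.Omega.ML.Ex.Typ (HasSplitT HasRGDT)
open Cfsg.Agent.LieRecognition.BNCox (cA)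
open Cfsg.Agent.Nodes

universe u

/-! ### Double cosets -/

theorem count_A2_point {W : Type*} [Group W] [Finite W] (cs : CoxeterSystem (cA 2) W) :
    Nat.card (DoubleCoset.Quotient (WJ cs ∅ : Set W) (WJ cs {0} : Set W)) = 3 ∧
    Nat.card (DoubleCoset.Quotient (WJ cs {0} : Set W) (WJ cs {0} : Set W)) = 2 ∧
      Nat.card (DoubleCoset.Quotient (WJ cs {1} : Set W) (WJ cs {0} : Set W)) = 2 := by
  obtain ⟨-, h2⟩ := count cs (RootsA.isCartan 2) (c := ![0, 1]) (by decide) (![![0, 1], ![1, -1], ![-1, 0]] : Fin 3 → Fin 2 → ℤ)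
    (by decide) 0 (by decide) (![![0, 2, 1], ![1, 0, 2]] : Fin 2 → Fin 3 → Fin 3) (by decide) (fun y => (y : ℕ)) (by decide)
  have h3 : {i | (![0, 1] : Fin 2 → ℤ) i = 0} = ({0} : Set (Fin 2)) := by
    ext i
    (revert i; simp only [_root_.Fin.forall_fin_succ, _root_.Nat.succ_eq_add_one, Nat.reduceAdd, _root_.Set.mem_ofPred_eq, Fin.isValue, _root_.Set.mem_singleton_iff, _root_.Matrix.cons_val_zero, _root_.Matrix.cons_val_succ, _root_.Matrix.cons_val_fin_one, _root_.one_ne_zero, _root_.Fin.succ_ne_zero, _root_.implies_true, _root_.and_self])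
  rw [h3] at h2
  rw [h2, h2, h2]
  have h4 : ∀ (l : Fin 2) (y : Fin 3), (∀ i ∈ ({l} : Set (Fin 2)), 0 ≤ (![![0, 1], ![1, -1], ![-1, 0]] : Fin 3 → Fin 2 → ℤ) y i) ↔
      0 ≤ (![![0, 1], ![1, -1], ![-1, 0]] : Fin 3 → Fin 2 → ℤ) y l := by
    intro l y
    simp only [_root_.Set.mem_singleton_iff, _root_.Int.reduceNeg, _root_.Matrix.cons_val', _root_.Matrix.cons_val_fin_one, _root_.forall_eq]
  have h5 : ∀ (y : Fin 3), (∀ i ∈ (∅ : Set (Fin 2)), 0 ≤ (![![0, 1], ![1, -1], ![-1, 0]] : Fin 3 → Fin 2 → ℤ) y i) ↔ True := by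
    intro y
    simp
  rw [Nat.card_congr (Equiv.subtypeEquivRight (h4 0)), Nat.card_congr (Equiv.subtypeEquivRight (h4 1)),
    Nat.card_congr (Equiv.subtypeEquivRight h5), Nat.card_eq_fintype_card, Nat.card_eq_fintype_card,
    Nat.card_eq_fintype_card]
  refine ⟨?_, ?_, ?_⟩ <;> decide

theorem count_A2_flag {W : Type*} [Group W] [Finite W] (cs : CoxeterSystem (cA 2) W) :
    Nat.card (DoubleCoset.Quotient (WJ cs ∅ : Set W) (WJ cs ∅ : Set W)) = 6 := by
  obtain ⟨-, h2⟩ := count cs (RootsA.isCartan 2) (c := ![1, 1]) (by decide)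
    (![![1, 1], ![-1, 2], ![2, -1], ![1, -2], ![-2, 1], ![-1, -1]] : Fin 6 → Fin 2 → ℤ)
    (by decide) 0 (by decide) (![![1, 0, 4, 5, 2, 3], ![2, 3, 0, 1, 5, 4]] : Fin 2 → Fin 6 → Fin 6) (by decide)
    (fun y => (y : ℕ)) (by decide)
  have h3 : {i | (![1, 1] : Fin 2 → ℤ) i = 0} = (∅ : Set (Fin 2)) := by
    ext i
    (revert i; simp only [_root_.Fin.forall_fin_succ, _root_.Nat.succ_eq_add_one, Nat.reduceAdd, _root_.Set.mem_ofPred_eq, _root_.Set.mem_empty_iff_false, _root_.iff_false, Fin.isValue, _root_.Matrix.cons_val_zero, _root_.one_ne_zero, _root_.not_false_eq_true, _root_.Matrix.cons_val_succ, _root_.Matrix.cons_val_fin_one, _root_.implies_true, _root_.and_self])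
  rw [h3] at h2
  rw [h2]
  have h5 : ∀ (y : Fin 6), (∀ i ∈ (∅ : Set (Fin 2)), 0 ≤ (![![1, 1], ![-1, 2], ![2, -1], ![1, -2], ![-2, 1], ![-1, -1]] :
      Fin 6 → Fin 2 → ℤ) y i) ↔ True := by
    intro y
    simp
  rw [Nat.card_congr (Equiv.subtypeEquivRight h5), Nat.card_eq_fintype_card]
  decide

theorem count_A2_line {W : Type*} [Group W] [Finite W] (cs : CoxeterSystem (cA 2) W) :
    Nat.card (DoubleCoset.Quotient (WJ cs {1} : Set W) (WJ cs {1} : Set W)) = 2 := by
  obtain ⟨-, h2⟩ := count cs (RootsA.isCartan 2) (c := ![1, 0]) (by decide) (![![1, 0], ![-1, 1], ![0, -1]] : Fin 3 → Fin 2 → ℤ)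
    (by decide) 0 (by decide) (![![1, 0, 2], ![0, 2, 1]] : Fin 2 → Fin 3 → Fin 3) (by decide) (fun y => (y : ℕ)) (by decide)
  have h3 : {i | (![1, 0] : Fin 2 → ℤ) i = 0} = ({1} : Set (Fin 2)) := by
    ext i
    (revert i; simp only [_root_.Fin.forall_fin_succ, _root_.Nat.succ_eq_add_one, Nat.reduceAdd, _root_.Set.mem_ofPred_eq, Fin.isValue, _root_.Set.mem_singleton_iff, _root_.Matrix.cons_val_zero, _root_.one_ne_zero, _root_.zero_ne_one, _root_.Matrix.cons_val_succ, _root_.Matrix.cons_val_fin_one, _root_.true_iff, _root_.Fin.succ_zero_eq_one, _root_.IsEmpty.forall_iff, _root_.and_self])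
  rw [h3] at h2
  rw [h2]
  have h4 : ∀ (l : Fin 2) (y : Fin 3), (∀ i ∈ ({l} : Set (Fin 2)), 0 ≤ (![![1, 0], ![-1, 1], ![0, -1]] : Fin 3 → Fin 2 → ℤ) y i) ↔
      0 ≤ (![![1, 0], ![-1, 1], ![0, -1]] : Fin 3 → Fin 2 → ℤ) y l := by
    intro l y
    simp only [_root_.Set.mem_singleton_iff, _root_.Int.reduceNeg, _root_.Matrix.cons_val', _root_.Matrix.cons_val_fin_one, _root_.forall_eq]
  rw [Nat.card_congr (Equiv.subtypeEquivRight (h4 1)), Nat.card_eq_fintype_card]
  decide

/-! ### The permutation characters -/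

theorem psi_eq {K : Type u} [Group K] [Fintype K] {H : Subgroup K}
    (hH : Subgroup.normalizer (H : Set K) = H) : psi H = permS (cls H) := by
  funext s
  rw [permS_cls hH]
  exact congrFun (Cfsg.Agent.H453.OddM.fixN_quot H) s

theorem permS_im {K : Type u} [Group K] (𝒳 : Set (Subgroup K)) (s : K) : (permS 𝒳 s).im = 0 := by
  unfold permS
  simp only [_root_.MulEquiv.toMonoidHom_eq_coe, _root_.Complex.natCast_im]

theorem permS_sq {K : Type u} [Group K] (𝒳 : Set (Subgroup K)) {s : K} (hs : Odd (orderOf s)) :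
    permS 𝒳 (s * s) = permS 𝒳 s := by
  unfold permS
  congr 1
  refine Nat.card_congr (Equiv.subtypeEquivRight fun H => ?_)
  refine and_congr_right fun _ => ⟨fun h => ?_, fun h => ?_⟩
  · obtain ⟨j, hj⟩ := hs
    have h1 : ∀ n : ℕ, H.map (MulAut.conj ((s * s) ^ n)).toMonoidHom = H := by
      intro n
      induction n with
      | zero => rw [pow_zero, Cfsg.Agent.H694.map_conj_one]
      | succ n ih =>
        rw [pow_succ, ← map_conj_conj, h, ih]
    have h2 := h1 (j + 1)
    have h3 : (s * s) ^ (j + 1) = s := by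
      have h4 : s ^ (2 * j + 1) = 1 := by rw [← hj]; exact pow_orderOf_eq_one s
      calc (s * s) ^ (j + 1) = s ^ (2 * j + 1) * s := by
            rw [← pow_two, ← pow_mul, ← pow_succ]
            congr 1
        _ = s := by rw [h4, one_mul]
    rwa [h3] at h2
  · rw [← map_conj_conj, h, h]

/-- **Type `A₂` in characteristic two.** -/
theorem evenJ_A2 {K : Type u} [Group K] [Finite K] (hK : HasSplitT 2 (cA 2) K) (hdz : DZ K) : EvenJ K := by
  classical
  obtain ⟨P, U, e, S, hN, cs, hcs⟩ := hK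
  haveI : Fact (Nat.Prime 2) := ⟨Nat.prime_two⟩
  haveI : Fintype K := Fintype.ofFinite K
  haveI : Fintype U := Fintype.ofFinite U
  have hconj : ∀ (J : Set (Fin 2)) (g : K), ∀ H ∈ cls (PJ P e J), H.map (MulAut.conj g).toMonoidHom ∈ cls (PJ P e J) :=
    fun J g H hH => conj_mem_cls hH g
  have hin : ∀ J L : Set (Fin 2), classInner (permS (cls (PJ P e J))) (permS (cls (PJ P e L))) =
      (Nat.card (DoubleCoset.Quotient (WJ cs J : Set (WP P)) (WJ cs L : Set (WP P))) : ℂ) := by
    intro J L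
    rw [classInner_permS _ _ (hconj J) (hconj L), card_pairRel (normalizer_PJ e J) (normalizer_PJ e L),
      card_double e cs hcs]
  obtain ⟨c03, c00, c10⟩ := count_A2_point cs
  have c11 := count_A2_line cs
  have c66 := count_A2_flag cs
  have h00 : classInner (permS (cls (PJ P e {0}))) (permS (cls (PJ P e {0}))) = 2 := by
    rw [hin, c00]
    norm_num
  have h10 : classInner (permS (cls (PJ P e {1}))) (permS (cls (PJ P e {0}))) = 2 := by
    rw [hin, c10]
    norm_num
  have h11 : classInner (permS (cls (PJ P e {1}))) (permS (cls (PJ P e {1}))) = 2 := by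
    rw [hin, c11]
    norm_num
  have h01 : classInner (permS (cls (PJ P e {0}))) (permS (cls (PJ P e {1}))) = 2 := by
    rw [← classInner_conj_symm, h10]
    exact map_ofNat _ 2
  have hπ : permS (cls (PJ P e {1})) = permS (cls (PJ P e {0})) := by
    refine sub_eq_zero.1 (classInner_self_eq_zero ?_)
    rw [classInner_sub_left, classInner_sub_right, classInner_sub_right, h11, h10, h01, h00]
    ring
  have hone : ∀ J : Set (Fin 2), classInner (permS (cls (PJ P e J))) (fun _ => (1 : ℂ)) = 1 := by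
    intro J
    haveI : Fintype (PJ P e J) := Fintype.ofFinite _
    rw [← psi_eq (normalizer_PJ e J), psi_inner _ (isIrr_isClassFunction isIrrCharacter_one)]
    exact classInner_irr_self (isIrrCharacter_one (G := PJ P e J))
  have hone' : ∀ J : Set (Fin 2), classInner (fun _ => (1 : ℂ)) (permS (cls (PJ P e J))) = 1 := by
    intro J
    rw [← classInner_conj_symm, hone]
    exact map_one _
  have h1s : classInner (fun _ : K => (1 : ℂ)) (fun _ => (1 : ℂ)) = 1 :=
    classInner_irr_self (isIrrCharacter_one (G := K))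
  set π : K → ℂ := permS (cls (PJ P e {0})) with hπ_def
  set φ : K → ℂ := π - (fun _ => (1 : ℂ)) with hφ_def
  have hcπ : IsCharacter K π := Cfsg.Agent.H24.EB.isCharacter_permS _ (hconj {0})
  have hnorm : classInner φ φ = 1 := by
    rw [hφ_def, classInner_sub_left, classInner_sub_right, classInner_sub_right, h00, hone, hone', h1s]
    norm_num
  have hX1 : 1 ≤ (PJ P e {0}).index := Nat.one_le_iff_ne_zero.2 Subgroup.index_ne_zero_of_finite
  have hXo : Odd (PJ P e {0}).index := index_odd e cs hcs S {0}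
  have hφ1 : φ 1 = (((PJ P e {0}).index - 1 : ℕ) : ℂ) := by
    show permS (cls (PJ P e {0})) 1 - 1 = _
    rw [permS_one, card_cls (normalizer_PJ e _), Nat.cast_sub hX1]
    simp
  have hφ : IsIrrCharacter K φ := by
    rcases isIrr_of_generalized ⟨π, _, hcπ, isIrr_isCharacter isIrrCharacter_one, rfl⟩ hnorm with h | h
    · exact h
    · exfalso
      obtain ⟨n, hn0, hn⟩ := isIrr_apply_one h
      have h2 : -(((PJ P e {0}).index - 1 : ℕ) : ℂ) = (n : ℂ) := by
        rw [← hn, ← hφ1]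
        rfl
      have h3 : ((((PJ P e {0}).index - 1 : ℕ) + n : ℕ) : ℂ) = 0 := by
        push_cast
        rw [← h2]
        ring
      have h4 : ((PJ P e {0}).index - 1 : ℕ) + n = 0 := by exact_mod_cast h3
      omega
  have heven : Even (charDegree φ) := by
    have h2 : charDegree φ = (PJ P e {0}).index - 1 := by
      unfold charDegree
      rw [hφ1, Complex.natCast_re, Nat.floor_natCast]
    rw [h2]
    exact Nat.Odd.sub_odd hXo odd_one
  have hfix : ∀ k : ℕ, IsK K k → ∀ s : K, φ (s ^ k) = φ s := by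
    intro k hk s
    show permS (cls (PJ P e {0})) (s ^ k) - 1 = permS (cls (PJ P e {0})) s - 1
    rw [Cfsg.Agent.H24.EB.permS_pow _ (hconj {0}) hk]
  have hinv : ∀ a : K ≃* K, (fun s => φ (a s)) = φ := by
    intro a
    obtain ⟨σ, hσ, h⟩ := exists_type_perm e cs hcs S a
    obtain ⟨g, hg⟩ := h {0}
    have h2 : σ '' {0} = {σ 0} := Set.image_singleton
    rw [h2] at hg
    funext s
    have h3 := Cfsg.Agent.H24.EB.permS_cls_map a hg s
    show permS (cls (PJ P e {0})) (a s) - 1 = permS (cls (PJ P e {0})) s - 1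
    congr 1
    have h4 : ∀ x : Fin 2, x = 0 ∨ x = 1 := by decide
    rcases h4 (σ 0) with h5 | h5
    · rw [h5] at h3
      exact h3
    · rw [h5, hπ] at h3
      exact h3
  have hπφ : classInner π φ = 1 := by
    rw [hφ_def, classInner_sub_right, h00, hone]
    norm_num
  have hmem : ∀ M : Ideal AlgInt, IsPModular 2 M →
      (⟨φ, hφ⟩ : IrrCharacter K) ∈ principalBlock M K := by
    intro M hM
    refine inB0_two e cs hcs S hdz (J := {0}) ⟨0, rfl⟩ M hM ⟨φ, hφ⟩ ?_
    show mu π φ ≠ 0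
    rw [mu_eq (n := 1) (by rw [hπφ]; norm_num)]
    decide
  -- the Steinberg character
  obtain ⟨St, hSt, hStq, hStQ⟩ := Cfsg.Agent.H707.GalTrace.exists_rat_of_hasSplit (p := 2)
    (⟨P, U, ⟨e 0, (e 0).2⟩, S⟩ : HasSplit 2 K)
  have hUo := index_U_odd S
  set Q : Sylow 2 K := S.isP.toSylow (by
    rw [← even_iff_two_dvd, Nat.not_even_iff_odd]
    exact hUo) with hQ_def
  have hQU : (Q : Subgroup K) = U := rfl
  obtain ⟨hSt1, hSt0⟩ := hStQ Q
  have hcU : (Nat.card Q : ℂ) = (Nat.card U : ℂ) := rfl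
  have hStr : ∀ g, (St g).im = 0 := by
    intro g
    obtain ⟨r, hr⟩ := hStq g
    rw [hr]
    simp
  have hStv : ∀ g, Even (orderOf g) → St g = 0 := by
    intro g hg
    obtain ⟨n, ρ, hρ, hρχ⟩ := hSt
    have := hρ
    rw [← hρχ]
    refine Cfsg.Agent.S0165.result ρ 2 ((Nat.card K).factorization 2) Nat.prime_two (Nat.ordProj_dvd _ _)
      (Nat.pow_succ_factorization_not_dvd Nat.card_pos.ne' Nat.prime_two) ?_ g (even_iff_two_dvd.1 hg)
    have h2 : St 1 = (n : ℂ) := by rw [← hρχ]; simp only [_root_.Representation.char_one, _root_.Module.finrank_fintype_fun_eq_card, _root_.Fintype.card_fin]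
    have h3 : n = 2 ^ (Nat.card K).factorization 2 := by
      rw [← Q.card_eq_multiplicity]
      have h4 : (n : ℂ) = (Nat.card Q : ℂ) := by rw [← h2, hSt1]
      exact_mod_cast h4
    rw [Module.finrank_fin_fun, h3]
  have hUrel : Odd (U.relIndex P.B) := by
    have h2 : U.relIndex P.B * P.B.index = U.index := Subgroup.relIndex_mul_index S.le
    rw [← h2] at hUo
    exact Nat.Odd.of_mul_left hUo
  obtain ⟨a, m, ha, hm, ham⟩ := psi_mod_two U P.B S.le S.norm hUrel (f := St)
    (Cfsg.Agent.Characters.Brauer.isGeneralizedCharacter_of_isCharacter (isIrr_isCharacter hSt)) hStr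
  have ha1 : a = 1 := by
    have h2 : classInner (fun v : U => St v) (fun _ => (1 : ℂ)) = 1 := by
      rw [Cfsg.Agent.Characters.Core.classInner_def, Finset.sum_eq_single (1 : U)]
      · show (Nat.card U : ℂ)⁻¹ * (St 1 * conj (1 : ℂ)) = 1
        rw [hSt1, hcU, map_one, mul_one, inv_mul_cancel₀ card_ne_zero_complex]
      · intro v _ hv
        rw [hSt0 v v.2 (fun h => hv (Subtype.ext h)), zero_mul]
      · intro h
        exact absurd (Finset.mem_univ _) h
    rw [h2] at ha
    exact_mod_cast ha.symm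
  have hmo : Odd m := by
    have h2 : m = a - (a - m) := by ring
    rw [h2, ha1]
    rw [ha1] at ham
    exact odd_one.sub_even ham
  have hB : P.B = PJ P e ∅ := by
    unfold PJ
    rw [Set.image_empty, parabolic_empty]
  have hβ : psi P.B = permS (cls (PJ P e ∅)) := by
    rw [hB]
    exact psi_eq (normalizer_PJ e ∅)
  rw [hβ] at hm
  set β : K → ℂ := permS (cls (PJ P e ∅)) with hβ_def
  have hβSt : classInner β St = m := by
    rw [← classInner_conj_symm, hm, map_intCast]
  have hββ : classInner β β = 6 := by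
    rw [hβ_def, hin, c66]
    norm_num
  have hβφ : classInner β φ = 2 := by
    rw [hφ_def, classInner_sub_right, hβ_def, hin, c03, hone]
    norm_num
  have hφβ : classInner φ β = 2 := by
    rw [← classInner_conj_symm, hβφ]
    exact map_ofNat _ 2
  have hne : φ ≠ St := by
    intro h
    rw [← h, hφβ] at hm
    have h2 : m = 2 := by exact_mod_cast hm.symm
    rw [h2] at hmo
    exact absurd hmo (by decide)
  have hne1 : (fun _ : K => (1 : ℂ)) ≠ St := by
    intro h
    obtain ⟨V, hV⟩ := S.node (e 0) (e 0).2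
    obtain ⟨u, hu, huV⟩ := hV.ne
    have h2 := hSt0 u hu (fun h3 => huV (by rw [h3]; exact V.one_mem))
    rw [← h] at h2
    exact one_ne_zero h2
  have hφSt : classInner φ St = 0 := classInner_irr_ne hφ hSt hne
  have hStφ : classInner St φ = 0 := classInner_irr_ne hSt hφ hne.symm
  have h1St : classInner (fun _ : K => (1 : ℂ)) St = 0 := classInner_irr_ne isIrrCharacter_one hSt hne1
  have hSt1' : classInner St (fun _ : K => (1 : ℂ)) = 0 := classInner_irr_ne hSt isIrrCharacter_one hne1.symm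
  have hφ1' : classInner φ (fun _ : K => (1 : ℂ)) = 0 := by
    rw [hφ_def, classInner_sub_left, hone, h1s]
    norm_num
  have h1φ : classInner (fun _ : K => (1 : ℂ)) φ = 0 := by
    rw [← classInner_conj_symm, hφ1', map_zero]
  have hStSt : classInner St St = 1 := classInner_irr_self hSt
  have hdec : psi P.B = (fun _ => (1 : ℂ)) + (2 : ℂ) • φ + (m : ℂ) • St := by
    rw [hβ]
    have hn2 : classInner (β - ((fun _ => (1 : ℂ)) + (2 : ℂ) • φ + (m : ℂ) • St))
        (β - ((fun _ => (1 : ℂ)) + (2 : ℂ) • φ + (m : ℂ) • St)) = ((1 - m ^ 2 : ℤ) : ℂ) := by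
      simp only [classInner_sub_left, classInner_sub_right, classInner_add_left, classInner_add_right,
        classInner_smul_left, classInner_smul_right, hββ, hβφ, hβSt, hφβ, hm, hφSt, hStφ, h1St, hSt1', hφ1',
        h1φ, hStSt, hnorm, h1s, map_ofNat, map_intCast]
      rw [hβ_def, hone, hone']
      push_cast
      ring
    have hpos : 0 ≤ ((1 - m ^ 2 : ℤ) : ℝ) := by
      have h2 := classInner_self_eq_ofReal (β - ((fun _ => (1 : ℂ)) + (2 : ℂ) • φ + (m : ℂ) • St))
      rw [hn2] at h2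
      have h3 := congrArg Complex.re h2
      rw [Complex.intCast_re, Complex.ofReal_re] at h3
      rw [h3]
      exact mul_nonneg (by (clear * -; positivity)) (Finset.sum_nonneg fun _ _ => Complex.normSq_nonneg _)
    have hpos' : 0 ≤ 1 - m ^ 2 := by exact_mod_cast hpos
    have hm0 : m ≠ 0 := by
      rintro rfl
      exact absurd hmo (by decide)
    have hm2 : 1 ≤ m ^ 2 := by
      have := sq_nonneg m
      have h3 : m ^ 2 ≠ 0 := pow_ne_zero 2 hm0
      omega
    have hz : 1 - m ^ 2 = 0 := by omega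
    rw [hz, Int.cast_zero] at hn2
    exact sub_eq_zero.1 (classInner_self_eq_zero hn2)
  have hsq : ∀ g, Odd (orderOf g) → St (g * g) = St g := by
    intro g hg
    have hm0 : (m : ℂ) ≠ 0 := by
      intro h
      have h2 : m = 0 := by exact_mod_cast h
      rw [h2] at hmo
      exact absurd hmo (by decide)
    have h2 := congrFun hdec g
    have h3 := congrFun hdec (g * g)
    rw [hβ] at h2 h3
    have h4 : β (g * g) = β g := permS_sq _ hg
    have h5 : π (g * g) = π g := permS_sq _ hg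
    have h6 : φ (g * g) = φ g := by
      show π (g * g) - 1 = π g - 1
      rw [h5]
    rw [h4, h2] at h3
    simp only [Pi.add_apply, Pi.smul_apply, smul_eq_mul, h6] at h3
    have h7 : (m : ℂ) * St g = m * St (g * g) := by linear_combination h3
    exact (mul_left_cancel₀ hm0 h7).symm
  obtain ⟨c, hc, hco⟩ := odd_norm U P.B S.le S.norm hUrel hφ hSt (fun g => by
    show (permS (cls (PJ P e {0})) g - 1).im = 0
    rw [Complex.sub_im, permS_im]
    simp) hStv hsq hne hdec
  exact (RPhi.of_norm hφ heven hfix hinv hmem U S.isP hUo hc hco).evenJ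

/-- **`PSL₃(2^a)`.** -/
theorem evenJ_psl3_two {S : Type u} [Group S] [Finite S] [IsSimpleGroup S] {F : Type} [Field F] [Fintype F]
    [CharP F 2] (e : S ≃* Matrix.ProjectiveSpecialLinearGroup (Fin 3) F) : EvenJ S := by
  have : Fact (Nat.Prime 2) := ⟨Nat.prime_two⟩
  have hd : DZ S := H274.EB.dz_of_hasFilt (KFacts.RgdFiltClass.hasFilt_of_PSL
    ⟨F, inferInstance, inferInstance, inferInstance, 3, by norm_num, by intro h; omega, ⟨e⟩⟩)
  exact evenJ_A2 (((Cfsg.Agent.Omega.ML.Ex.Typ.typ_PSL (F := F) (p := 2) 2).of_equiv e.symm).hasSplitT Nat.prime_two (by norm_num)) hd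

end Cfsg.Agent.H610.EB
end

private theorem dce_babcd0b63ed0 : _root_.True := by
  try have : _root_.True := by simp only [_root_.Cfsg.Agent.H410.EBG.cG.eq_1]
  try have : _root_.True := by simp only [_root_.Cfsg.Agent.OddHalf.Table.AutBldg.sg.congr_simp]
  try have : _root_.True := by simp only [_root_.Cfsg.Agent.Nodes.BNOf.RGD.bnPair.congr_simp]
  exact _root_.True.intro
end

-- part: H610/EB/PslOne
section
prune_inst 0x315061403440000000000090c1201c62e60005200003000080a0094604812c0000808621aa2005021288080d00300068110000100200000000040000011804810800100000004191020000000288200000008000000000000000000000000004210000000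
set_option linter.all false
open scoped Cfsg.Agent.FastGrp

/-!
# `EvenJ` for `PSL₃(q)`, `q ≡ 1` modulo four

`A² = (q-1)A + q`, `B² = (q-1)B + q`, `ABA = BAB`, `r² = q`, `X = A + B - (q-1)` in the Hecke algebra of type `A₂`.
On the two-dimensional representation `X² = q`; `Tri.te` is the projection on the eigenvalue `r` of `X`. It is
primitive and symmetric in `A`, `B`, so it is invariant under all automorphisms of `PSL₃(q)`, and its trace is
`q² + q`. `√q` is fixed by the Galois automorphisms which invert the roots of unity of order `p` (Gauss sums).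

* `sqrt_fix`: `√q` is fixed.
* `concl_A2`: the conclusion of S4522 for groups with a split (B,N)-pair of type `A₂`, `q ≡ 1` modulo four.
* `evenJ_psl3_one`: the row.
-/

set_option autoImplicit false
set_option linter.unusedSectionVars false
set_option linter.style.haveILetI false

namespace Cfsg.Agent.H610.EB.Tri

section alg

variable {M : Type*} [Ring M] [Algebra ℝ M] {A B : M} {q r : ℝ}

/-- the element `X` -/
noncomputable def xx (A B : M) (q : ℝ) : M := A + B - (q - 1) • (1 : M)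

theorem xx_def (A B : M) (q : ℝ) : xx A B q = A + B - (q - 1) • (1 : M) := rfl

/-- the multiple of the idempotent -/
noncomputable def t0 (A B : M) (q r : ℝ) : M :=
  ((q + 1) ^ 2 • (1 : M) - xx A B q * xx A B q) * (xx A B q + r • (1 : M))

/-- the idempotent -/
noncomputable def te (A B : M) (q r : ℝ) : M := (2 * r * (q ^ 2 + q + 1))⁻¹ • t0 A B q r

theorem te_def (A B : M) (q r : ℝ) : te A B q r = (2 * r * (q ^ 2 + q + 1))⁻¹ • t0 A B q r := rfl

variable (hA : A * A = (q - 1) • A + q • (1 : M)) (hB : B * B = (q - 1) • B + q • (1 : M))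
  (hbr : A * (B * A) = B * (A * B))

include hA hB

theorem X2 : xx A B q * xx A B q =
    A * B + B * A - (q - 1) • A - (q - 1) • B + (q ^ 2 + 1) • (1 : M) := by
  rw [xx_def]
  simp only [mul_add, mul_sub, add_mul, sub_mul, smul_mul_assoc, mul_smul_comm, one_mul, mul_one, hA, hB]
  module

/-- `XA + AX = X² + (q-1)X` -/
theorem XA : xx A B q * A + A * xx A B q = xx A B q * xx A B q + (q - 1) • xx A B q := by
  rw [X2 hA hB, xx_def]
  simp only [mul_add, mul_sub, add_mul, sub_mul, smul_mul_assoc, mul_smul_comm, one_mul, mul_one, hA]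
  module

include hbr

theorem X3 : xx A B q * (xx A B q * xx A B q) =
    (2 : ℝ) • (A * (B * A)) - (q - 1) • (A * B) - (q - 1) • (B * A) + (q ^ 2 + q + 1) • A +
      (q ^ 2 + q + 1) • B - ((q - 1) * (q + 1) ^ 2) • (1 : M) := by
  have h1 : A * (A * B) = (q - 1) • (A * B) + q • B := by
    rw [← mul_assoc, hA, add_mul, smul_mul_assoc, smul_mul_assoc, one_mul]
  have h2 : B * (B * A) = (q - 1) • (B * A) + q • A := by
    rw [← mul_assoc, hB, add_mul, smul_mul_assoc, smul_mul_assoc, one_mul]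
  rw [X2 hA hB, xx_def]
  simp only [mul_add, mul_sub, add_mul, sub_mul, smul_mul_assoc, mul_smul_comm, one_mul, mul_one, hA, hB,
    h1, h2, ← hbr]
  module

theorem X4 : xx A B q * (xx A B q * (xx A B q * xx A B q)) =
    ((q + 1) ^ 2 + q) • (xx A B q * xx A B q) - (q * (q + 1) ^ 2) • (1 : M) := by
  have h1 : A * (A * B) = (q - 1) • (A * B) + q • B := by
    rw [← mul_assoc, hA, add_mul, smul_mul_assoc, smul_mul_assoc, one_mul]
  have h2 : B * (B * A) = (q - 1) • (B * A) + q • A := by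
    rw [← mul_assoc, hB, add_mul, smul_mul_assoc, smul_mul_assoc, one_mul]
  have h3 : A * (A * (B * A)) = (q - 1) • (A * (B * A)) + q • (B * A) := by
    rw [← mul_assoc, hA, add_mul, smul_mul_assoc, smul_mul_assoc, one_mul]
  have h4 : B * (A * (B * A)) = (q - 1) • (A * (B * A)) + q • (A * B) := by
    rw [hbr, ← mul_assoc, hB, add_mul, smul_mul_assoc, smul_mul_assoc, one_mul]
  rw [X3 hA hB hbr, X2 hA hB, xx_def]
  simp only [mul_add, mul_sub, add_mul, sub_mul, smul_mul_assoc, mul_smul_comm, one_mul, mul_one, hA, hB,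
    h1, h2, h3, h4, ← hbr]
  module

variable (hr : r ^ 2 = q)

include hr

theorem X_t0 : xx A B q * t0 A B q r = r • t0 A B q r := by
  have h4 := X4 hA hB hbr
  rw [t0]
  set X := xx A B q with hX
  simp only [mul_add, mul_sub, sub_mul, smul_mul_assoc, mul_smul_comm, one_mul, mul_one, mul_assoc]
  rw [h4]
  match_scalars
  · linear_combination hr
  · linear_combination (-(q + 1) ^ 2) * hr
  · ring
  · ring

theorem t0_X : t0 A B q r * xx A B q = r • t0 A B q r := by
  rw [← X_t0 hA hB hbr hr, t0]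
  set X := xx A B q with hX
  simp only [mul_add, mul_sub, sub_mul, add_mul, smul_mul_assoc, mul_smul_comm, one_mul, mul_one, mul_assoc]

theorem t0_sq : t0 A B q r * t0 A B q r = (2 * r * (q ^ 2 + q + 1)) • t0 A B q r := by
  have h1 := X_t0 hA hB hbr hr
  nth_rw 1 [t0]
  set E := t0 A B q r with hE
  set X := xx A B q with hX
  have h2 : (X + r • (1 : M)) * E = (2 * r) • E := by
    rw [add_mul, smul_mul_assoc, one_mul, h1]
    module
  rw [mul_assoc, h2, mul_smul_comm, sub_mul, smul_mul_assoc, one_mul, mul_assoc, h1, mul_smul_comm, h1]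
  match_scalars
  linear_combination (-2 * r) * hr

variable (hc : 2 * r * (q ^ 2 + q + 1) ≠ 0)

theorem X_te : xx A B q * te A B q r = r • te A B q r := by
  rw [te_def, mul_smul_comm, X_t0 hA hB hbr hr, smul_comm]

theorem te_X : te A B q r * xx A B q = r • te A B q r := by
  rw [te_def, smul_mul_assoc, t0_X hA hB hbr hr, smul_comm]

include hc in
theorem te_sq : te A B q r * te A B q r = te A B q r := by
  rw [te_def, mul_smul_comm, smul_mul_assoc, t0_sq hA hB hbr hr, smul_smul _ (2 * r * (q ^ 2 + q + 1)),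
    inv_mul_cancel₀ hc, one_smul]

/-- `B` on the ideal -/
theorem B_te : B * te A B q r = (r + q - 1) • te A B q r - A * te A B q r := by
  have h1 := X_te hA hB hbr hr
  have h2 : B = xx A B q - A + (q - 1) • (1 : M) := by rw [xx_def]; abel
  nth_rw 1 [h2]
  rw [add_mul, sub_mul, h1, smul_mul_assoc, one_mul]
  module

theorem XA_te : xx A B q * (A * te A B q r) = (q + (q - 1) * r) • te A B q r - r • (A * te A B q r) := by
  have h1 := X_te hA hB hbr hr
  have h2 := congrArg (fun y => y * te A B q r) (XA (q := q) hA hB)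
  simp only [add_mul, mul_assoc, h1, mul_smul_comm, smul_mul_assoc] at h2
  rw [← eq_sub_iff_add_eq] at h2
  rw [h2]
  match_scalars
  · linear_combination hr
  · ring

theorem BA_te : B * (A * te A B q r) = ((q - 1) * r) • te A B q r - r • (A * te A B q r) := by
  have h1 := XA_te hA hB hbr hr
  have h2 : B = xx A B q - A + (q - 1) • (1 : M) := by rw [xx_def]; abel
  nth_rw 1 [h2]
  have h3 : A * (A * te A B q r) = (q - 1) • (A * te A B q r) + q • te A B q r := by
    rw [← mul_assoc, hA, add_mul, smul_mul_assoc, smul_mul_assoc, one_mul]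
  rw [add_mul, sub_mul, h1, h3, smul_mul_assoc, one_mul]
  module

include hc in
theorem te_A_te (hr0 : r ≠ 0) : te A B q r * (A * te A B q r) = ((r + q - 1) / 2) • te A B q r := by
  have h1 := congrArg (fun y => te A B q r * y) (XA_te hA hB hbr hr)
  simp only [mul_sub, mul_smul_comm, te_sq hA hB hbr hr hc] at h1
  rw [← mul_assoc, te_X hA hB hbr hr, smul_mul_assoc] at h1
  have h2 : (2 * r) • (te A B q r * (A * te A B q r)) = (q + (q - 1) * r) • te A B q r := by
    rw [two_mul, add_smul]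
    nth_rw 1 [h1]
    abel
  have h3 : te A B q r * (A * te A B q r) = (2 * r)⁻¹ • ((q + (q - 1) * r) • te A B q r) := by
    rw [← h2, smul_smul, inv_mul_cancel₀ (by positivity), one_smul]
  rw [h3, smul_smul]
  congr 1
  field_simp
  linear_combination (-1 : ℝ) * hr

end alg

section trace

variable {X : Type*} [Fintype X] [DecidableEq X] {A B : Matrix X X ℝ} {q r : ℝ}

/-- **The trace.** -/
theorem trace_te (hA : A * A = (q - 1) • A + q • (1 : Matrix X X ℝ)) (hB : B * B = (q - 1) • B + q • (1 : Matrix X X ℝ))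
    (hbr : A * (B * A) = B * (A * B)) (hAt : A.trace = 0) (hBt : B.trace = 0) (hAB : (A * B).trace = 0)
    (hABA : (A * (B * A)).trace = 0) {n : ℝ} (hn : (1 : Matrix X X ℝ).trace = n)
    (hc : 2 * r * (q ^ 2 + q + 1) ≠ 0) : (te A B q r).trace * (q ^ 2 + q + 1) = q * n := by
  have hBA : (B * A).trace = 0 := by rw [Matrix.trace_mul_comm]; exact hAB
  have h1 : (xx A B q).trace = -(q - 1) * n := by
    rw [xx_def, Matrix.trace_sub, Matrix.trace_add, Matrix.trace_smul, hAt, hBt, hn, smul_eq_mul]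
    ring
  have h2 : (xx A B q * xx A B q).trace = (q ^ 2 + 1) * n := by
    rw [X2 hA hB]
    simp only [Matrix.trace_add, Matrix.trace_sub, Matrix.trace_smul, hAt, hBt, hAB, hBA, hn, smul_eq_mul]
    ring
  have h3 : (xx A B q * (xx A B q * xx A B q)).trace = -((q - 1) * (q + 1) ^ 2) * n := by
    rw [X3 hA hB hbr]
    simp only [Matrix.trace_add, Matrix.trace_sub, Matrix.trace_smul, hAt, hBt, hAB, hBA, hABA, hn, smul_eq_mul]
    ring
  have h4 : (t0 A B q r).trace = (2 * r) * (q * n) := by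
    rw [t0]
    simp only [mul_add, sub_mul, smul_mul_assoc, mul_smul_comm, one_mul, mul_one, Matrix.trace_add,
      Matrix.trace_sub, Matrix.trace_smul, smul_eq_mul, mul_assoc, h1, h2, h3, hn]
    ring
  have h5 : (2 * r * (q ^ 2 + q + 1)) * (te A B q r).trace = (2 * r) * (q * n) := by
    rw [te_def, Matrix.trace_smul, smul_eq_mul, ← mul_assoc, mul_inv_cancel₀ hc, one_mul, h4]
  have h6 : 2 * r ≠ 0 := left_ne_zero_of_mul hc
  apply mul_left_cancel₀ h6
  linear_combination h5

end trace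

end Cfsg.Agent.H610.EB.Tri

namespace Cfsg.Agent.H610.EB

open Cfsg Cfsg.Agent.H694 Cfsg.Agent.H694.EB
open scoped ComplexConjugate
open Cfsg.Agent.Characters.Core
open Cfsg.Agent.LieExceptional.BNPairCore Cfsg.Agent.Tits.Core Cfsg.Agent.Tits.Core.Bldg
  Cfsg.Agent.Tits.OfBN Cfsg.Agent.Schreier.BNSch Cfsg.Agent.Tits.OppRes Cfsg.Agent.FixBN
  Cfsg.Agent.FixBN.TwOfBN Cfsg.Agent.OddHalf.Table.AutBldg
open Cfsg.Agent.LieRecognition.FeitHigmanGroup (R T T_apply R_mk_iff q T_sq alt two_le_q)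
open Cfsg.Agent.H740.Eight.Hecke (Inv mem_span T_mul_mem Tc)
open Cfsg.Agent.LieRecognition.BNCox (cA)
open Cfsg.Agent.LieRecognition.FeitHigmanMatrix (trace_idem)
open Cfsg.Agent.Schreier.BNSch (parabolic_empty)

universe u v

/-! ### Gauss sums -/

section gauss

/-- **`√q` is fixed.** -/
theorem sqrt_fix {F : Type*} [Field F] [Fintype F] (h4 : Fintype.card F % 4 = 1) {p : ℕ} [Fact p.Prime]
    [CharP F p] {n k : ℕ} (hn : p ∣ n) (hk : p ∣ k + 1) (σ : ℂ ≃+* ℂ) (hσ : ∀ z : ℂ, z ^ n = 1 → σ z = z ^ k) :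
    σ ((Real.sqrt (Fintype.card F) : ℝ) : ℂ) = ((Real.sqrt (Fintype.card F) : ℝ) : ℂ) := by
  classical
  have hchar : ringChar F ≠ 2 := by
    intro h
    have h1 : ringChar F = p := (ringChar.eq F p)
    have h2 : p ∣ Fintype.card F := by
      obtain ⟨m, -, hm⟩ := FiniteField.card F p
      rw [hm]
      exact dvd_pow_self p m.ne_zero
    rw [← h1, h] at h2
    omega
  set χ : MulChar F ℂ := (quadraticChar F).ringHomComp (Int.castRingHom ℂ) with hχ
  set ψ : AddChar F ℂ := AddChar.FiniteField.primitiveChar_to_Complex F with hψ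
  have hψp : ψ.IsPrimitive := AddChar.FiniteField.primitiveChar_to_Complex_isPrimitive F
  have hχ1 : χ ≠ 1 := by
    have hinj : Function.Injective (Int.castRingHom ℂ) := Int.cast_injective
    exact (MulChar.ringHomComp_ne_one_iff hinj).2 (quadraticChar_ne_one hchar)
  have hχq : χ.IsQuadratic := (quadraticChar_isQuadratic F).comp _
  have hχn : χ (-1) = 1 := by
    have h1 : quadraticChar F (-1) = 1 := by
      rw [quadraticChar_neg_one hchar]
      have h2 : ((Fintype.card F : ℕ) : ZMod 4) = 1 := by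
        have h3 : ((Fintype.card F : ℕ) : ZMod 4) = ((Fintype.card F % 4 : ℕ) : ZMod 4) := by simp
        rw [h3, h4]
        rfl
      rw [h2]
      rfl
    show ((quadraticChar F (-1) : ℤ) : ℂ) = 1
    rw [h1]
    simp
  set g := gaussSum χ ψ with hg
  have hg2 : g ^ 2 = (Fintype.card F : ℂ) := by
    rw [hg, gaussSum_sq hχ1 hχq hψp, hχn, one_mul]
  -- the Galois automorphism fixes the Gauss sum
  have hψp' : ∀ x : F, σ (ψ x) = ψ (-x) := by
    intro x
    have h1 : ψ x ^ p = 1 := by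
      rw [← AddChar.map_nsmul_eq_pow, nsmul_eq_mul, CharP.cast_eq_zero, zero_mul, AddChar.map_zero_eq_one]
    have h2 : ψ x ^ n = 1 := by
      obtain ⟨m, rfl⟩ := hn
      rw [pow_mul, h1, one_pow]
    rw [hσ _ h2]
    have h3 : ψ x ^ k * ψ x = 1 := by
      rw [← pow_succ]
      obtain ⟨m, hm⟩ := hk
      rw [hm, pow_mul, h1, one_pow]
    have h4 : ψ (-x) * ψ x = 1 := by
      rw [← AddChar.map_add_eq_mul, neg_add_cancel, AddChar.map_zero_eq_one]
    exact mul_right_cancel₀ (right_ne_zero_of_mul_eq_one h4) (h3.trans h4.symm)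
  have hσg : σ g = g := by
    have h1 : σ g = ∑ x : F, χ x * ψ (-x) := by
      rw [hg, gaussSum, map_sum]
      refine Finset.sum_congr rfl fun x _ => ?_
      rw [map_mul, hψp']
      congr 1
      show σ ((quadraticChar F x : ℤ) : ℂ) = ((quadraticChar F x : ℤ) : ℂ)
      exact map_intCast σ _
    rw [h1, hg, gaussSum, ← Equiv.sum_comp (Equiv.neg F)]
    refine Finset.sum_congr rfl fun x _ => ?_
    show χ (-x) * ψ (- -x) = χ x * ψ x
    rw [neg_neg, show -x = -1 * x by ring, map_mul, hχn, one_mul]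
  have hs2 : ((Real.sqrt (Fintype.card F) : ℝ) : ℂ) ^ 2 = (Fintype.card F : ℂ) := by
    rw [← Complex.ofReal_pow, Real.sq_sqrt (Nat.cast_nonneg _)]
    simp
  rcases sq_eq_sq_iff_eq_or_eq_neg.1 (hs2.trans hg2.symm) with h | h
  · rw [h, hσg]
  · rw [h, map_neg, hσg]

end gauss

/-! ### Primitive idempotents -/

section prim

variable {K : Type u} [Group K] [Finite K] {P : BNPair K} [Fintype (K ⧸ P.B)] [DecidableEq (K ⧸ P.B)]

/-- **Primitive idempotents of the Hecke algebra, second version.** -/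
theorem prim_of' {s t : K} (hS : P.S = {s, t}) {e : Matrix (K ⧸ P.B) (K ⧸ P.B) ℝ}
    (he : e * e = e) {c₀ c₁ c₂ c₃ c₄ : ℝ} (h1 : T P t * e = c₀ • e + c₁ • (T P s * e))
    (h2 : T P t * (T P s * e) = c₂ • e + c₃ • (T P s * e)) (h3 : e * (T P s * e) = c₄ • e)
    (Mx : Matrix (K ⧸ P.B) (K ⧸ P.B) ℂ) (hM : Inv K Mx) :
    ∃ c : ℂ, e.map Complex.ofReal * Mx * e.map Complex.ofReal = c • e.map Complex.ofReal := by
  classical
  have hs : s ∈ P.S := by rw [hS]; simp
  set U : Submodule ℝ (Matrix (K ⧸ P.B) (K ⧸ P.B) ℝ) := Submodule.span ℝ {e, T P s * e} with hU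
  have heU : e ∈ U := Submodule.subset_span (by simp)
  have hfU : T P s * e ∈ U := Submodule.subset_span (by simp)
  have hA : ∀ x ∈ U, T P s * x ∈ U := by
    intro x hx
    obtain ⟨a, b, rfl⟩ := Submodule.mem_span_pair.1 hx
    rw [mul_add, mul_smul_comm, mul_smul_comm, ← mul_assoc (T P s) (T P s), T_sq hs, add_mul, smul_mul_assoc,
      smul_mul_assoc, one_mul]
    exact U.add_mem (U.smul_mem _ hfU) (U.smul_mem _ (U.add_mem (U.smul_mem _ hfU) (U.smul_mem _ heU)))
  have hB : ∀ x ∈ U, T P t * x ∈ U := by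
    intro x hx
    obtain ⟨a, b, rfl⟩ := Submodule.mem_span_pair.1 hx
    rw [mul_add, mul_smul_comm, mul_smul_comm, h1, h2]
    exact U.add_mem (U.smul_mem _ (U.add_mem (U.smul_mem _ heU) (U.smul_mem _ hfU)))
      (U.smul_mem _ (U.add_mem (U.smul_mem _ heU) (U.smul_mem _ hfU)))
  have hcor : ∀ w : K, ∃ c : ℝ, e * T P w * e = c • e := by
    intro w
    obtain ⟨a, b, hab⟩ := Submodule.mem_span_pair.1 (T_mul_mem hS U hA hB w heU)
    refine ⟨a + b * c₄, ?_⟩
    rw [mul_assoc, ← hab, mul_add, mul_smul_comm, mul_smul_comm, he, h3, smul_smul, add_smul]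
  have hmul : ∀ A B : Matrix (K ⧸ P.B) (K ⧸ P.B) ℝ, (A * B).map Complex.ofReal =
      A.map Complex.ofReal * B.map Complex.ofReal := fun A B => Matrix.map_mul (f := Complex.ofRealHom)
  refine Submodule.span_induction (p := fun M _ => ∃ c : ℂ,
    e.map Complex.ofReal * M * e.map Complex.ofReal = c • e.map Complex.ofReal) ?_ ?_ ?_ ?_ (mem_span hM)
  · rintro _ ⟨w, rfl⟩
    obtain ⟨c, hc⟩ := hcor w
    refine ⟨c, ?_⟩
    show e.map Complex.ofReal * (T P w).map Complex.ofReal * e.map Complex.ofReal = _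
    rw [← hmul, ← hmul, hc]
    ext x y
    simp
  · exact ⟨0, by simp⟩
  · rintro A B _ _ ⟨a, ha⟩ ⟨b, hb⟩
    exact ⟨a + b, by rw [mul_add, add_mul, ha, hb, add_smul]⟩
  · rintro a A _ ⟨b, hb⟩
    exact ⟨a * b, by rw [mul_smul_comm, smul_mul_assoc, hb, smul_smul]⟩

end prim

/-! ### Matrices fixed by a Galois automorphism -/

section fix

variable {X : Type*} [Fintype X] [DecidableEq X] (σ : ℂ ≃+* ℂ)

/-- The entries are fixed by `σ`. -/
def IsFix (σ : ℂ ≃+* ℂ) {X : Type*} (e : Matrix X X ℝ) : Prop := ∀ x y, σ (e x y : ℂ) = (e x y : ℂ)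

variable {σ}

theorem IsRat.isFix {e : Matrix X X ℝ} (he : IsRat e) : IsFix σ e := by
  obtain ⟨e₀, he⟩ := he
  intro x y
  rw [he]
  push_cast
  exact map_ratCast σ _

theorem IsFix.mul {e f : Matrix X X ℝ} (he : IsFix σ e) (hf : IsFix σ f) : IsFix σ (e * f) := by
  intro x y
  rw [Matrix.mul_apply]
  push_cast
  rw [map_sum]
  exact Finset.sum_congr rfl fun z _ => by rw [map_mul, he, hf]

theorem IsFix.add {e f : Matrix X X ℝ} (he : IsFix σ e) (hf : IsFix σ f) : IsFix σ (e + f) := by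
  intro x y
  rw [Matrix.add_apply]
  push_cast
  rw [map_add, he, hf]

theorem IsFix.sub {e f : Matrix X X ℝ} (he : IsFix σ e) (hf : IsFix σ f) : IsFix σ (e - f) := by
  intro x y
  rw [Matrix.sub_apply]
  push_cast
  rw [map_sub, he, hf]

theorem IsFix.smul {e : Matrix X X ℝ} (he : IsFix σ e) {c : ℝ} (hc : σ (c : ℂ) = c) : IsFix σ (c • e) := by
  intro x y
  rw [Matrix.smul_apply, smul_eq_mul]
  push_cast
  rw [map_mul, he, hc]

theorem IsFix.one : IsFix σ (1 : Matrix X X ℝ) := IsRat.one.isFix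

theorem isFix_te {A B : Matrix X X ℝ} (hA : IsFix σ A) (hB : IsFix σ B) {a r : ℝ} (ha : σ (a : ℂ) = a)
    (hr : σ (r : ℂ) = r) : IsFix σ (Tri.te A B a r) := by
  have hx : IsFix σ (Tri.xx A B a) := by
    rw [Tri.xx_def]
    refine (hA.add hB).sub (IsFix.one.smul ?_)
    push_cast
    rw [map_sub, map_one, ha]
  rw [Tri.te_def, Tri.t0]
  refine IsFix.smul (IsFix.mul ((IsFix.one.smul ?_).sub (hx.mul hx)) (hx.add (IsFix.one.smul hr))) ?_
  · push_cast
    rw [map_pow, map_add, map_one, ha]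
  · push_cast
    rw [map_inv₀, map_mul, map_mul, map_add, map_add, map_pow, map_one, ha, hr, map_ofNat]

end fix

/-! ### The Coxeter group -/

theorem card_A2 {W : Type*} [Group W] [Finite W] (cs : CoxeterSystem (cA 2) W) : Nat.card W = 6 := by
  obtain ⟨h1, -⟩ := count cs (Nodes.RootsA.isCartan 2) (c := ![1, 1]) (by decide)
    (![![1, 1], ![-1, 2], ![2, -1], ![1, -2], ![-2, 1], ![-1, -1]] : Fin 6 → Fin 2 → ℤ)
    (by decide) 0 (by decide) (![![1, 0, 4, 5, 2, 3], ![2, 3, 0, 1, 5, 4]] : Fin 2 → Fin 6 → Fin 6) (by decide)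
    (fun y => (y : ℕ)) (by decide)
  have h3 : {i | (![1, 1] : Fin 2 → ℤ) i = 0} = (∅ : Set (Fin 2)) := by
    ext i
    fin_cases i <;> simp
  rw [h3] at h1
  have h4 : WJ cs ∅ = ⊥ := by
    unfold WJ
    rw [Set.image_empty, Subgroup.closure_empty]
  rw [h4, Subgroup.index_bot] at h1
  rw [h1, Nat.card_eq_fintype_card, Fintype.card_fin]

/-! ### The conclusion -/

section main

variable {G : Type u} [Group G] [Fintype G] {M : Ideal AlgInt} {k : ℕ}
variable (N : Subgroup G) [hNn : N.Normal] [Fintype N] (J : Subgroup G) [hJn : J.Normal]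
  {P : Cfsg.BNPair N}
variable [hN : ((P.B ⊓ P.N).subgroupOf P.N).Normal]
variable (e : Fin 2 ≃ P.S) (cs : CoxeterSystem (cA 2) (WP P))
  (hcs : ∀ i, cs.simple i = QuotientGroup.mk (⟨(e i : N), P.subset (e i).2⟩ : P.N))

include hcs in
/-- **Type `A₂`, `q ≡ 1` modulo four.** -/
theorem concl_A2 (hM : IsPModular 2 M) (hNJ : N ≤ J) (hodd : Odd (N.relIndex J))
    (hidx : ∃ j : ℕ, J.index = 2 ^ j) (hk : IsK G k) {p : ℕ} [Fact p.Prime] (hp : Odd p) {U : Subgroup N}
    (S : Split P p U) (hB0 : InB0 (cls P.B)) {F : Type*} [Field F] [Fintype F] [CharP F p]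
    (h4 : Fintype.card F % 4 = 1) (hq : ∀ i, q P (e i : N) = Fintype.card F) (hpN : p ∣ Nat.card N) :
    Concl M G N k := by
  classical
  have hSt : Stab N P := stab_of_split S
  set s : N := (e 0 : N) with hs_def
  set t : N := (e 1 : N) with ht_def
  have hs : s ∈ P.S := (e 0).2
  have ht : t ∈ P.S := (e 1).2
  have hS : P.S = {s, t} := by
    ext x
    constructor
    · intro hx
      obtain ⟨i, hi⟩ := e.surjective ⟨x, hx⟩
      have hi' : (e i : N) = x := congrArg Subtype.val hi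
      fin_cases i
      · exact Or.inl hi'.symm
      · exact Or.inr hi'.symm
    · rintro (rfl | rfl)
      · exact hs
      · exact ht
  have hst : s ≠ t := by
    intro h
    have h1 : e 0 = e 1 := Subtype.ext h
    exact absurd (e.injective h1) (by decide)
  have hW : ((P.B ⊓ P.N).subgroupOf P.N).index = 2 * 3 := card_A2 cs
  obtain ⟨hbr0, htr⟩ := TC_data (P := P) hS hst hW
  have hA := TC_sq (P := P) hs
  have hB := TC_sq (P := P) ht
  rw [hq 0] at hA
  rw [hq 1] at hB
  set A : Matrix (Ch N P) (Ch N P) ℝ := TC s with hA_def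
  set B : Matrix (Ch N P) (Ch N P) ℝ := TC t with hB_def
  set Q : ℕ := Fintype.card F with hQ_def
  set r : ℝ := Real.sqrt Q with hr_def
  have hQ2 : 2 ≤ Q := by rw [← hq 0]; exact two_le_q hs
  have hQ0 : (0 : ℝ) < Q := by exact_mod_cast (by omega : 0 < Q)
  have hr : r ^ 2 = (Q : ℝ) := Real.sq_sqrt hQ0.le
  have hr0 : 0 < r := Real.sqrt_pos.2 hQ0
  have halt : ∀ x y : Matrix (Ch N P) (Ch N P) ℝ, alt 3 x y = x * (y * x) := by
    intro x y
    rw [Cfsg.Agent.LieRecognition.FeitHigmanGroup.alt_succ, Cfsg.Agent.LieRecognition.FeitHigmanGroup.alt_succ,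
      Cfsg.Agent.LieRecognition.FeitHigmanGroup.alt_one]
  have halt2 : ∀ x y : Matrix (Ch N P) (Ch N P) ℝ, alt 2 x y = x * y := by
    intro x y
    rw [Cfsg.Agent.LieRecognition.FeitHigmanGroup.alt_succ, Cfsg.Agent.LieRecognition.FeitHigmanGroup.alt_one]
  have hbr : A * (B * A) = B * (A * B) := by
    rw [← halt, ← halt]
    exact hbr0
  have hAt : A.trace = 0 := by
    have h1 := (htr 1 (by norm_num) (by norm_num)).1
    rwa [Cfsg.Agent.LieRecognition.FeitHigmanGroup.alt_one] at h1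
  have hBt : B.trace = 0 := by
    have h1 := (htr 1 (by norm_num) (by norm_num)).2
    rwa [Cfsg.Agent.LieRecognition.FeitHigmanGroup.alt_one] at h1
  have hABt : (A * B).trace = 0 := by
    rw [← halt2]
    exact (htr 2 (by norm_num) (by norm_num)).1
  have hABAt : (A * (B * A)).trace = 0 := by
    rw [← halt]
    exact (htr 3 (by norm_num) (by norm_num)).1
  have hcard : (1 : Matrix (Ch N P) (Ch N P) ℝ).trace = (P.B.index : ℝ) := by
    rw [Matrix.trace_one]
    have h1 : Fintype.card (Ch N P) = P.B.index := by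
      rw [← Nat.card_eq_fintype_card]
      rfl
    rw [h1]
  have hc : 2 * r * ((Q : ℝ) ^ 2 + Q + 1) ≠ 0 := by positivity
  have htrace := Tri.trace_te hA hB hbr hAt hBt hABt hABAt hcard hc
  have hEE := Tri.te_sq hA hB hbr hr hc
  have hB1 := Tri.B_te hA hB hbr hr
  have hB2 := Tri.BA_te hA hB hbr hr
  have hE3 := Tri.te_A_te hA hB hbr hr hc hr0.ne'
  set E : Matrix (Ch N P) (Ch N P) ℝ := Tri.te A B (Q : ℝ) r with hE_def
  obtain ⟨d, hd⟩ := trace_idem E hEE
  have hkey : d * (Q ^ 2 + Q + 1) = Q * P.B.index := by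
    rw [hd] at htrace
    exact_mod_cast htrace
  have hidx0 : 0 < P.B.index := Nat.pos_of_ne_zero Subgroup.index_ne_zero_of_finite
  have hd0 : d ≠ 0 := by
    rintro rfl
    rw [zero_mul] at hkey
    have : 0 < Q * P.B.index := by positivity
    omega
  have hde : Even d := by
    have h5 : P.B.index % 2 = 0 := by
      have h6 := index_mod e cs hcs hp S ∅
      have h7 : PJ P e ∅ = P.B := by
        unfold PJ
        rw [Set.image_empty]
        exact parabolic_empty P
      have h8 : WJ cs ∅ = ⊥ := by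
        unfold WJ
        rw [Set.image_empty, Subgroup.closure_empty]
      rw [h7, h8, Subgroup.index_bot, card_A2 cs] at h6
      omega
    have h6 : Even (d * (Q ^ 2 + Q + 1)) := by
      rw [hkey]
      exact (Nat.even_iff.2 h5).mul_left _
    have h7 : ¬ Even (Q ^ 2 + Q + 1) := by
      rw [Nat.not_even_iff_odd]
      have h8 : Even (Q ^ 2 + Q) := by
        rw [show Q ^ 2 + Q = Q * (Q + 1) by ring]
        exact Nat.even_mul_succ_self Q
      exact h8.add_one
    exact (Nat.even_mul.1 h6).resolve_right h7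
  letI := chAct hSt
  -- the invariance
  have hinvX : Inv G (A + B : Matrix (Ch N P) (Ch N P) ℝ) := by
    intro g x y
    obtain ⟨t', ht'⟩ := exists_conj_keep S (MulAut.conjNormal g : MulAut N)
    have h1 := fun i => T_smul e cs hcs hSt g ht' i x y
    have hinj : Function.Injective (sg e cs hcs ht') := by
      intro i j hij
      apply Cox.inj (cs := cs)
      apply fW_injective _ ht'
      rw [fW_simple' e cs hcs ht' i, fW_simple' e cs hcs ht' j, hij]
    rw [Matrix.add_apply, Matrix.add_apply]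
    have h2 : ∀ i j : Fin 2, i ≠ j → (i = 0 ∧ j = 1) ∨ (i = 1 ∧ j = 0) := by decide
    rcases h2 (sg e cs hcs ht' 0) (sg e cs hcs ht' 1) (fun h => absurd (hinj h) (by decide)) with ⟨h3, h4⟩ | ⟨h3, h4⟩
    · have h5 := h1 0
      have h6 := h1 1
      rw [h3] at h5
      rw [h4] at h6
      exact congrArg₂ (· + ·) h5 h6
    · have h5 := h1 0
      have h6 := h1 1
      rw [h3] at h5
      rw [h4] at h6
      rw [add_comm]
      exact congrArg₂ (· + ·) h5 h6
  have hinv : Inv G E := by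
    have h1 : Inv G (Tri.xx A B (Q : ℝ)) := by
      rw [Tri.xx_def]
      exact Inv.sub hinvX (Inv.smul _ Inv.one)
    rw [hE_def, Tri.te_def, Tri.t0]
    exact Inv.smul _ (Inv.mul (Inv.sub (Inv.smul _ Inv.one) (h1.mul h1)) (h1.add (Inv.smul _ Inv.one)))
  have hmul : ∀ A B : Matrix (Ch N P) (Ch N P) ℝ, (A * B).map Complex.ofReal =
      A.map Complex.ofReal * B.map Complex.ofReal := fun A B => Matrix.map_mul (f := Complex.ofRealHom)
  have hinv' : Inv G (E.map Complex.ofReal) := hinv.map Complex.ofReal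
  have he' : E.map Complex.ofReal * E.map Complex.ofReal = E.map Complex.ofReal := by rw [← hmul, hEE]
  have hact : ∀ (n : N) (x : Ch N P), n • x = std n x := by
    intro n x
    obtain ⟨a, rfl⟩ := QuotientGroup.mk_surjective (s := P.B) x
    exact coe_smul hSt n a
  have hprim : ∀ M : Matrix (Ch N P) (Ch N P) ℂ, Inv N M →
      ∃ c : ℂ, E.map Complex.ofReal * M * E.map Complex.ofReal = c • E.map Complex.ofReal := by
    intro Mx hMx
    letI := fq P
    letI := dq P
    refine prim_of' (P := P) hS (e := E) hEE (c₀ := r + Q - 1) (c₁ := -1) (c₂ := ((Q : ℝ) - 1) * r) (c₃ := -r)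
      ?_ ?_ hE3 Mx ?_
    · rw [neg_one_smul, ← sub_eq_add_neg]
      exact hB1
    · rw [neg_smul, ← sub_eq_add_neg]
      exact hB2
    · intro n x y
      have h4 : Mx (n • (show Ch N P from x)) (n • (show Ch N P from y)) = Mx x y := hMx n x y
      have h5 := hact n x
      have h6 := hact n y
      exact (congrArg₂ Mx h5.symm h6.symm).trans h4
  have htr' : (E.map Complex.ofReal).trace = (d : ℂ) := by
    have h5 : (E.map Complex.ofReal).trace = ((E.trace : ℝ) : ℂ) := by
      rw [Matrix.trace, Matrix.trace, Complex.ofReal_sum]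
      rfl
    rw [h5, hd]
    simp
  -- the Galois automorphisms
  have hpG : p ∣ Nat.card G := hpN.trans (Subgroup.card_subgroup_dvd_card N)
  have hpk : p ∣ k + 1 := by
    obtain ⟨g, hg⟩ := exists_prime_orderOf_dvd_card' p hpG
    have h5 := hk.odd g (by rw [hg]; exact hp)
    rw [← hg, orderOf_dvd_iff_pow_eq_one, pow_succ, h5, inv_mul_cancel]
  refine concl_of_idem hM N J hNJ hodd hidx hk hinv' he' hprim htr' hde hd0
    (ic_pow (ic_isCharacter hinv' he') hk.coprime fun σ hσ => ?_) ?_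
  · have h5 : σ ((r : ℝ) : ℂ) = r := sqrt_fix h4 hpG hpk σ hσ
    have h6 : IsFix σ E := isFix_te (isRat_TC s).isFix (isRat_TC t).isFix (by
      rw [Complex.ofReal_natCast]
      exact map_natCast σ _) h5
    intro x y
    rw [Matrix.map_apply]
    exact h6 x y
  intro φ hφ
  refine hB0 M hM φ ?_
  have hirr : IsIrrCharacter N (ic N (E.map Complex.ofReal)) := by
    rw [← hφ]
    exact φ.2
  have h6 := mu_ic_ne_zero (G := N) (X := Ch N P) (Inv.sub' hinv' N) he' hirr
  rw [hφ]
  have h7 : permS (cls P.B) = fun g : N => (Nat.card {x : Ch N P // g • x = x} : ℂ) := by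
    funext g
    rw [permS_cls normalizer_B]
    congr 1
    refine Nat.card_congr (Equiv.subtypeEquivRight fun x => ?_)
    have h8 := hact g x
    exact ⟨fun h => h8.trans h, fun h => h8.symm.trans h⟩
  rw [h7]
  exact h6

end main

end Cfsg.Agent.H610.EB

namespace Cfsg.Agent.H610.EB

open Cfsg Cfsg.Agent.H694 Cfsg.Agent.H694.EB Cfsg.Agent.H684.EB
open Cfsg.Agent.Characters.Core
open Cfsg.Agent.LieRecognition.BNCox (cA)
open Cfsg.Agent.LieRecognition.FeitHigmanGroup (q)
open Cfsg.Agent.Nodes Cfsg.Agent.Nodes.BNOf Cfsg.Agent.Nodes.Reps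
open Cfsg.Agent.Nodes.RGDTypeA (pr)
open Cfsg.Agent.ChevalleyStructure.CoxeterGeom Cfsg.Agent.Tits.Roots
open Cfsg.Agent.H24.EB

universe u v

/-! ### The parameters -/

section param

variable {I W Y : Type*} [Fintype I] [DecidableEq I] [Group W] [Group Y] {M : CoxeterMatrix I}
  {cs : CoxeterSystem M W} {A : I → I → ℤ} {h : IsCartan M A} {p : ℕ} {T : Subgroup Y} {n : I → Y}
  {X : (I → ℤ) → Subgroup Y}

/-- `|U| = |X_i| |V_i|` -/
theorem card_UV [Finite W] (R : RGD cs h p T n X) (i : I) : Nat.card (RGD.Sup X (RGD.Pos cs h)) =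
    Nat.card (X (sr i)) * Nat.card (RGD.Sup X (RGD.PosNe cs h i)) := by
  refine CardSup.card_mul_of_disjoint (RGD.le_Sup (S := RGD.Pos cs h) ⟨isRoot_sr cs h i, sr_nonneg i⟩)
    (KFacts.RgdFixU.V_le_U R i) (fun g hg => KFacts.RgdFixU.exists_mul_V R i hg) ?_
  rw [Subgroup.eq_bot_iff_forall]
  rintro x ⟨h1, h2⟩
  exact OppDec.eq_one_of_mem_PosNe R h1 h2

/-- The parameters are the orders of the simple root groups. -/
theorem q_rgd [Finite W] [Finite Y] (hp : p.Prime) (R : RGD cs h p T n X)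
    (hgen : RGD.B cs h T X ⊔ NN cs R.nsys = ⊤) (hcore : (RGD.B cs h T X).normalCore = ⊥) (i : I) :
    q (R.bnPair hgen) (n i) = Nat.card (X (sr i)) := by
  have h1 := Cfsg.Agent.H740.Eight.HeckeDeg.q_eq (FixBN.SplitRGD.split_of_rgd hp R hgen hcore)
    (s := n i) ⟨i, rfl⟩ (FixBN.NodeRGD.node R hgen i)
  rw [h1]
  have h2 : RGD.Sup X (RGD.PosNe cs h i) ≤ RGD.Sup X (RGD.Pos cs h) := KFacts.RgdFixU.V_le_U R i
  have h3 := Subgroup.card_mul_index ((RGD.Sup X (RGD.PosNe cs h i)).subgroupOf (RGD.Sup X (RGD.Pos cs h)))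
  rw [Nat.card_congr (Subgroup.subgroupOfEquivOfLe h2).toEquiv, card_UV R i, mul_comm] at h3
  exact Nat.eq_of_mul_eq_mul_right Nat.card_pos h3

end param

/-! ### Groups with root group data of type `A₂` -/

/-- `Y` has a root group datum of type `A₂` with root groups of order `Q`, and the elements of odd order which
commute with the involutions of the torus lie in the torus. -/
def HasTri (p Q : ℕ) (Y : Type u) [Group Y] : Prop :=
  ∃ (T : Subgroup Y) (n : Fin 2 → Y) (X : (Fin 2 → ℤ) → Subgroup Y),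
    RGD (cA 2).toCoxeterSystem (RootsA.isCartan 2) p T n X ∧
    RGDLib.G1 (cA 2).toCoxeterSystem (RootsA.isCartan 2) X = ⊤ ∧ (∀ i, Nat.card (X (sr i)) = Q) ∧
    (∀ x ∈ T, ∀ y ∈ T, x * y = y * x) ∧
    ∀ g : Y, Odd (orderOf g) → (∀ t ∈ T, t * t = 1 → t * g = g * t) → g ∈ T

theorem HasTri.of_equiv {p Q : ℕ} {Y : Type u} {Y' : Type v} [Group Y] [Group Y'] (e : Y ≃* Y') (hY : HasTri p Q Y) :
    HasTri p Q Y' := by
  obtain ⟨T, n, X, R, hX, hc, hT, hg⟩ := hY
  refine ⟨T.map e.toMonoidHom, fun i => e (n i), fun x => (X x).map e.toMonoidHom,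
    RGDLib.rgd_map_of_injective R e.toMonoidHom e.injective, ?_, ?_, ?_, ?_⟩
  · have h1 : (RGDLib.G1 (cA 2).toCoxeterSystem (RootsA.isCartan 2) X).map e.toMonoidHom =
        RGDLib.G1 (cA 2).toCoxeterSystem (RootsA.isCartan 2) (fun x => (X x).map e.toMonoidHom) := by
      unfold RGDLib.G1 RGD.Sup
      rw [Subgroup.map_iSup]
    rw [← h1, hX, Subgroup.map_top_of_surjective _ e.surjective]
  · intro i
    rw [← hc i]
    exact Nat.card_congr ((X (sr i)).equivMapOfInjective e.toMonoidHom e.injective).symm.toEquiv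
  · rintro _ ⟨s, hs, rfl⟩ _ ⟨t, ht, rfl⟩
    show e s * e t = e t * e s
    rw [← map_mul, hT s hs t ht, map_mul]
  · intro g ho hcom
    refine ⟨e.symm g, hg _ ?_ ?_, e.apply_symm_apply g⟩
    · rwa [MulEquiv.orderOf_eq]
    · intro t ht ht2
      have h1 := hcom (e t) ⟨t, ht, rfl⟩ (by rw [← map_mul, ht2, map_one])
      apply e.injective
      rw [map_mul, map_mul, e.apply_symm_apply]
      exact h1

/-- The data of the group. -/
theorem HasTri.data {p Q : ℕ} {Y : Type u} [Group Y] [Finite Y] [IsSimpleGroup Y] (hp : p.Prime) (hY : HasTri p Q Y) :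
    ∃ (P : Cfsg.BNPair Y) (U : Subgroup Y) (e : Fin 2 ≃ P.S), FixBN.Split P p U ∧ Cfsg.Agent.Tits.Core.BNType P (cA 2) e ∧
      (∀ [Fintype Y], InB0 (cls P.B)) ∧ (∀ i, q P (e i : Y) = Q) ∧ Q ∣ Nat.card Y := by
  obtain ⟨T, n, X, R, hX, hc, hT, hg⟩ := hY
  have hW : Finite (cA 2).Group := RootsA.finite_W (cA 2).toCoxeterSystem (RootsA.isCartan 2)
  have hgen : RGD.B (cA 2).toCoxeterSystem (RootsA.isCartan 2) T X ⊔ NN (cA 2).toCoxeterSystem R.nsys = ⊤ := by
    rw [eq_top_iff, ← hX]
    exact RGDLib.rgd_G1_le R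
  have hne : (R.bnPair hgen).S.Nonempty := ⟨n 0, 0, rfl⟩
  have hcore := Cfsg.Agent.Tits.OfBN.normalCore_eq_bot (R.bnPair hgen) hne
  have hS := FixBN.SplitRGD.split_of_rgd hp R hgen hcore
  refine ⟨R.bnPair hgen, _, _, hS, Cfsg.Agent.Omega.ML.Ex.Typ.bnType R hgen, ?_, ?_, ?_⟩
  · intro _
    have h1 := inB0_of_torus (P := R.bnPair hgen) (Equiv.ofInjective n R.n_injective) ∅ (sqOne T hT)
      (isPGroup_sqOne T hT) (by
        intro x hx
        have h3 := (mem_sqOne.1 hx).1
        rw [← R.B_inf_NN] at h3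
        exact h3) (by
        intro g hg2 hq
        refine RGD.T_le_B (hg g ?_ fun t ht ht2 => hq t (mem_sqOne.2 ⟨ht, ht2⟩))
        unfold IsPRegular at hg2
        rwa [Nat.two_dvd_ne_zero, ← Nat.odd_iff] at hg2)
    have h7 : PJ (R.bnPair hgen) (Equiv.ofInjective n R.n_injective) ∅ = (R.bnPair hgen).B := by
      unfold PJ
      rw [Set.image_empty]
      exact Cfsg.Agent.Schreier.BNSch.parabolic_empty _
    rwa [h7] at h1
  · intro i
    have h1 := q_rgd hp R hgen hcore i
    rw [hc i] at h1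
    exact h1
  · rw [← hc 0]
    exact Subgroup.card_subgroup_dvd_card _

/-- `PSL₃(F)` -/
theorem hasTri_psl {F : Type u} [Field F] [Finite F] {p : ℕ} [Fact p.Prime] [CharP F p] (hp : p ≠ 2) :
    HasTri p (Nat.card F) (Matrix.ProjectiveSpecialLinearGroup (Fin 3) F) := by
  have hpp : p.Prime := Fact.out
  have h2 : (2 : F) ≠ 0 := by
    intro h
    have h3 : ((2 : ℕ) : F) = 0 := by exact_mod_cast h
    rw [CharP.cast_eq_zero_iff F p] at h3
    exact hp ((Nat.prime_dvd_prime_iff_eq hpp Nat.prime_two).1 h3)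
  have hcm : ∀ x ∈ (RGDTypeA.T (Fin 3) F).map (pr 2 F), ∀ y ∈ (RGDTypeA.T (Fin 3) F).map (pr 2 F), x * y = y * x := by
    rintro _ ⟨x, hx, rfl⟩ _ ⟨y, hy, rfl⟩
    rw [← map_mul, ← map_mul, comm_T hx hy]
  have hW : Finite (cA 2).Group := RootsA.finite_W (cA 2).toCoxeterSystem (RootsA.isCartan 2)
  refine ⟨_, _, _, RGDTypeA.rgd_psl (F := F) (p := p) (n := 2) (cA 2).toCoxeterSystem (RootsA.isCartan 2),
    RGDTypeA.G1_psl_eq_top (F := F) (cA 2).toCoxeterSystem (RootsA.isCartan 2), ?_, hcm, ?_⟩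
  · intro i
    refine (CardSup.card_map_X (RGDTypeA.rgd (F := F) (p := p) (cA 2).toCoxeterSystem (RootsA.isCartan 2)) (pr 2 F)
      RGDTypeA.ker_pr.le (isRoot_sr (cA 2).toCoxeterSystem (RootsA.isCartan 2) i)).trans ?_
    rw [RGDTypeA.X_sr]
    have hne : i.castSucc ≠ i.succ := (Fin.castSucc_lt_succ).ne
    refine (Nat.card_congr (Equiv.ofBijective (fun t : F => (⟨_, RGDTypeA.tv_mem_XX i.castSucc i.succ t⟩ :
      RGDTypeA.XX F i.castSucc i.succ)) ⟨?_, ?_⟩)).symm
    · intro s t hst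
      exact RGDTypeA.tv_inj hne (congrArg Subtype.val hst)
    · rintro ⟨g, t, rfl⟩
      exact ⟨t, rfl⟩
  · intro g ho hcom
    exact mem_of_comm (n := 2) le_rfl h2 rfl hcm g ho fun t ht => hcom t (mem_sqOne.1 ht).1 (mem_sqOne.1 ht).2

/-- **`PSL₃(q)`, `q ≡ 1` modulo four.** -/
theorem evenJ_psl3_one {S : Type u} [Group S] [Finite S] [IsSimpleGroup S] {F : Type} [Field F] [Fintype F]
    (h4 : Fintype.card F % 4 = 1) (e : S ≃* Matrix.ProjectiveSpecialLinearGroup (Fin 3) F) : EvenJ S := by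
  classical
  intro G _ _ N _ _ ⟨f⟩ _ J _ hNJ ho hi k hk M hM
  obtain ⟨p, hpc⟩ := CharP.exists F
  have hp : p.Prime := CharP.char_is_prime F p
  have : Fact p.Prime := ⟨hp⟩
  obtain ⟨m, -, hm⟩ := FiniteField.card F p
  have hp2 : p ≠ 2 := by
    rintro rfl
    have : 2 ∣ Fintype.card F := by
      rw [hm]
      exact dvd_pow_self 2 m.ne_zero
    omega
  have : Nontrivial N := f.symm.toEquiv.nontrivial
  have : IsSimpleGroup N := IsSimpleGroup.isSimpleGroup_of_surjective f.toMonoidHom f.surjective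
  have h1 : HasTri p (Nat.card F) N := (hasTri_psl hp2).of_equiv (e.symm.trans f)
  obtain ⟨P, U, i, hsp, ⟨hN, cs, hcs⟩, hB0, hq, hdvd⟩ := h1.data hp
  refine concl_A2 N J i cs hcs hM hNJ ho hi hk (hp.odd_of_ne_two hp2) hsp hB0 h4 (fun j => ?_) ?_
  · rw [hq j, Nat.card_eq_fintype_card]
  · refine dvd_trans ?_ hdvd
    rw [Nat.card_eq_fintype_card, hm]
    exact dvd_pow_self p m.ne_zero

end Cfsg.Agent.H610.EB

private theorem dce_b8aa1bae892d : _root_.True := by
  try have : _root_.True := by simp only [_root_.Cfsg.Agent.H610.EB.Tri.t0.eq_1]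
  exact _root_.True.intro
end

-- part: H610/EB/PslOne_mg
section

end
end
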